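import Groth.Agent.ModEtQCoh.Main
import Groth.Agent.ModEtQCoh.WeakAssEtale
import Groth.Agent.AlgSpBasic.Points
import Groth.Agent.AlgSpCartier.WeakAss
import Mathlib.AlgebraicGeometry.Morphisms.Etale

/-!
# Weakly associated points of quasi-coherent modules are independent of the affine chart
-/

set_option autoImplicit false
set_option backward.isDefEq.respectTransparency.types false
universe u

open CategoryTheory CategoryTheory.Limits AlgebraicGeometry Opposite AlgSp TensorProduct

namespace Groth.ModEtQCoh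

variable {S : Scheme.{u}} {X : Sp S}

theorem etale_resA {E E' : EtOver X} [IsAffine E.obj.left.left] [IsAffine E'.obj.left.left] (g : E' ⟶ E) :
    (resA g).Etale :=
  haveI := EtOver.etale_left g
  HasRingHomProperty.appTop @Etale g.hom.left.left inferInstance

theorem comap_primeAtPt {E E' : EtOver X} (g : E' ⟶ E) (u : E'.obj.left.left) :
    (primeAtPt E'.obj.left.left u).comap (resA g) = primeAtPt E.obj.left.left (g.hom.left.left u) := by
  ext a
  let f := g.hom.left.left
  show E'.obj.left.left.presheaf.Γgerm u (f.appTop a) ∈ IsLocalRing.maximalIdeal _ ↔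
    E.obj.left.left.presheaf.Γgerm (f u) a ∈ IsLocalRing.maximalIdeal _
  rw [show E'.obj.left.left.presheaf.Γgerm u (f.appTop a) =
      f.stalkMap u (E.obj.left.left.presheaf.Γgerm (f u) a) from
    (Scheme.Hom.germ_stalkMap_apply f ⊤ u trivial a).symm]
  simp only [IsLocalRing.mem_maximalIdeal, mem_nonunits_iff, isUnit_map_iff]

theorem isWeakAssOn_iff (M : ModEt X) (E : EtOver X) [IsAffine E.obj.left.left] (u : E.obj.left.left) :
    IsWeakAssOn M E u ↔ primeAtPt E.obj.left.left u ∈ FlatCA.weakAss (fnA E) (sectModEt M E) := by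
  have key : ∀ s : sectModEt M E, annSect s = (Submodule.span (fnA E) {s}).annihilator := by
    intro s; ext a
    rw [mem_annSect_iff, Submodule.mem_annihilator_span_singleton]
    rfl
  constructor
  · rintro ⟨s, hs⟩
    exact ⟨s, key s ▸ hs⟩
  · rintro ⟨s, hs⟩
    exact ⟨s, (key s).symm ▸ hs⟩

theorem mem_weakAss_linearEquiv {A : Type u} [CommRing A] {P Q : Type (u + 1)} [AddCommGroup P] [Module A P]
    [AddCommGroup Q] [Module A Q] (e : P ≃ₗ[A] Q) {p : Ideal A} (h : p ∈ FlatCA.weakAss A P) :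
    p ∈ FlatCA.weakAss A Q := by
  rw [Groth.Calg5.mem_weakAss_iff] at h ⊢
  obtain ⟨hp, m, h1, h2⟩ := h
  refine ⟨hp, e m, fun r hr => h1 r (e.injective (by rw [map_smul, hr, map_zero])), fun a ha => ?_⟩
  obtain ⟨s, hs, n, hn⟩ := h2 a ha
  exact ⟨s, hs, n, by rw [← map_smul, hn, map_zero]⟩

variable (M : ModEt X) [M.IsQuasicoherent]

/-- Weakly associated points pass up and down along morphisms of affine charts. -/
theorem isWeakAssOn_iff_of_hom {E E' : EtOver X} [IsAffine E.obj.left.left] [IsAffine E'.obj.left.left]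
    (g : E' ⟶ E) (u : E'.obj.left.left) : IsWeakAssOn M E' u ↔ IsWeakAssOn M E (g.hom.left.left u) := by
  rw [isWeakAssOn_iff, isWeakAssOn_iff]
  let := (resA g).toAlgebra
  let := Module.compHom (sectModEt M E') (resA g)
  have : IsScalarTower (fnA E) (fnA E') (sectModEt M E') := IsScalarTower.of_algebraMap_smul fun _ _ => rfl
  have : Algebra.Etale (fnA E) (fnA E') := etale_resA g
  have : (primeAtPt E'.obj.left.left u).LiesOver (primeAtPt E.obj.left.left (g.hom.left.left u)) :=
    ⟨(comap_primeAtPt g u).symm⟩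
  let r : sectModEt M E →ₗ[fnA E] sectModEt M E' :=
    { toFun := resM M g, map_add' := map_add _, map_smul' := (resM M g).map_smulₛₗ }
  have hr : IsBaseChange (fnA E') r := (isBC_iff (resM M g) rfl r fun _ => rfl).1 (isBC_resM M g)
  rw [← WeakAssFinite.mem_weakAss_tensor_iff_of_etale (sectModEt M E) _ (primeAtPt E'.obj.left.left u)]
  exact ⟨mem_weakAss_linearEquiv hr.equiv.symm, mem_weakAss_linearEquiv hr.equiv⟩

omit [M.IsQuasicoherent] in
/-- Two charts at the same point have a common affine refinement. -/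
theorem exists_common_chart (E E' : EtOver X) (u : E.obj.left.left) (u' : E'.obj.left.left)
    (h : Points.ofPt E.obj.hom u = Points.ofPt E'.obj.hom u') :
    ∃ (W : EtOver X) (k : W ⟶ E) (k' : W ⟶ E') (w : W.obj.left.left),
      IsAffine W.obj.left.left ∧ k.hom.left.left w = u ∧ k'.hom.left.left w = u' := by
  obtain ⟨T, fst, snd, sq⟩ := Groth.AlgSpBasic.exists_pullback_yon E.property.rep E'.obj.hom
  obtain ⟨t, ht, ht'⟩ := (Groth.AlgSpBasic.ofPt_eq_ofPt_iff sq u u').1 h
  haveI : Etale fst.left := Groth.AlgSpBasic.repWith_fst_of_isPullback sq.flip E'.property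
  obtain ⟨O, hO, htO, -⟩ := exists_isAffineOpen_mem_and_subset (X := T.left) (x := t) (U := ⊤) trivial
  let T' : Over S := Over.mk (O.ι ≫ T.hom)
  let j : T' ⟶ T := Over.homMk O.ι rfl
  let W : EtOver X := EtOver.mk ((yon S).map (j ≫ fst) ≫ E.obj.hom)
    (Groth.AlgSpBasic.repWith_comp
      ((repWith_yon_map_iff _ (j ≫ fst)).2 (inferInstanceAs (Etale (O.ι ≫ fst.left)))) E.property)
  refine ⟨W, EtOver.homMk (j ≫ fst) rfl, EtOver.homMk (j ≫ snd) ?_, ⟨t, htO⟩, hO, ht, ht'⟩
  show (yon S).map (j ≫ snd) ≫ E'.obj.hom = (yon S).map (j ≫ fst) ≫ E.obj.hom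
  rw [Functor.map_comp, Functor.map_comp, Category.assoc, Category.assoc, sq.w]

theorem isWeakAssOn_of_ofPt_eq {E E' : EtOver X} [IsAffine E.obj.left.left] [IsAffine E'.obj.left.left]
    {u : E.obj.left.left} {u' : E'.obj.left.left} (h : Points.ofPt E.obj.hom u = Points.ofPt E'.obj.hom u')
    (hu : IsWeakAssOn M E u) : IsWeakAssOn M E' u' := by
  obtain ⟨W, k, k', w, hW, rfl, rfl⟩ := exists_common_chart E E' u u' h
  exact (isWeakAssOn_iff_of_hom M k' w).1 ((isWeakAssOn_iff_of_hom M k w).2 hu)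

theorem exists_affine_chart_of_ofPt (E : EtOver X) (u : E.obj.left.left) :
    ∃ (W : EtOver X) (k : W ⟶ E) (w : W.obj.left.left), IsAffine W.obj.left.left ∧ k.hom.left.left w = u := by
  obtain ⟨W, k, -, w, hW, hk, -⟩ := exists_common_chart E E u u rfl
  exact ⟨W, k, w, hW, hk⟩

theorem mem_weakAssEt_iff (x : Points X) (hx : ∃ (U : EtOver X) (u : U.obj.left.left), Points.ofPt U.obj.hom u = x) :
    x ∈ WeakAssEt M ↔ ∀ (E : EtOver X) [IsAffine E.obj.left.left] (u : E.obj.left.left),
      Points.ofPt E.obj.hom u = x → IsWeakAssOn M E u := by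
  constructor
  · rintro ⟨E₀, hE₀, u₀, rfl, hu₀⟩ E _ u hu
    exact isWeakAssOn_of_ofPt_eq M hu.symm hu₀
  · intro h
    obtain ⟨U, u, rfl⟩ := hx
    obtain ⟨W, k, w, hW, hk⟩ := exists_affine_chart_of_ofPt U u
    have hxw : Points.ofPt W.obj.hom w = Points.ofPt U.obj.hom u := by
      rw [← EtOver.w k, Groth.AlgSpBasic.ofPt_comp_yon, hk]
    exact ⟨W, hW, w, hxw, h W w hxw⟩

/-- A section vanishing on an etale neighbourhood of a point has annihilator not inside the prime of the point. -/
theorem not_annSect_le {Z W : EtOver X} [IsAffine Z.obj.left.left] [IsAffine W.obj.left.left] (k : W ⟶ Z)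
    {s : sectModEt M Z} (hs : resM M k s = 0) (w : W.obj.left.left) :
    ¬ annSect s ≤ primeAtPt Z.obj.left.left (k.hom.left.left w) := by
  intro hle
  let := (resA k).toAlgebra
  have : Module.Flat (fnA Z) (fnA W) := flat_resA k
  refine one_tmul_ne_zero_of_ann_le (A := fnA Z) (B := fnA W) (x := s) (primeAtPt W.obj.left.left w) (fun a ha => ?_) ?_
  · have h1 : a ∈ primeAtPt Z.obj.left.left (k.hom.left.left w) := hle ((mem_annSect_iff s a).2 ha)
    rwa [← comap_primeAtPt] at h1
  · refine (isBC_resM M k).1 ?_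
    rw [bcLift_tmul, one_smul, hs]
    exact (map_zero (bcLift (resM M k))).symm

/-- A compatible family of sections vanishing on an object which meets all weakly associated points vanishes. -/
theorem sections_eq_zero_of_subset (E : EtOver X) (hE : WeakAssEt M ⊆ Set.range (Points.ofPt E.obj.hom))
    (d : ∀ Z : EtOver X, sectModEt M Z) (hd : ∀ {Z Z' : EtOver X} (g : Z' ⟶ Z), resM M g (d Z) = d Z')
    (h0 : d E = 0) (Z : EtOver X) : d Z = 0 := by
  have haff : ∀ (Z : EtOver X) [IsAffine Z.obj.left.left], d Z = 0 := by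
    intro Z _
    by_contra hne
    have hne' : annSect (d Z) ≠ ⊤ := fun h => hne (by
      simpa using (mem_annSect_iff (d Z) 1).1 (h ▸ Submodule.mem_top))
    obtain ⟨⟨P, hP⟩⟩ := Ideal.nonempty_minimalPrimes hne'
    let v := (isAffineOpen_top Z.obj.left.left).fromSpec ⟨P, hP.1.1⟩
    have hv : primeAtPt Z.obj.left.left v = P := Groth.AlgSpCartier.primeAtPt_fromSpec _ ⟨P, hP.1.1⟩
    obtain ⟨e, he⟩ := hE ⟨Z, inferInstance, v, rfl, d Z, hv.symm ▸ hP⟩
    obtain ⟨W, k, k', w, hW, hk, -⟩ := exists_common_chart Z E v e he.symm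
    refine not_annSect_le M k (s := d Z) ?_ w ?_
    · rw [hd k, ← hd k', h0, map_zero]
    · rw [hk, hv]; exact hP.1.2
  choose W k w hW hk using exists_affine_chart_of_ofPt Z
  refine resM_ext M (g := k) (fun u => ⟨u, w u, hk u⟩) fun u => ?_
  rw [hd (k u), map_zero]
  exact haff (W u)

end Groth.ModEtQCoh
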