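import Groth.Agent.ModEtQCoh.Generators
import Groth.Agent.ModEtQCoh.Charts
import Mathlib.RingTheory.Noetherian.Basic

/-!
# Finite presentations of quasi-coherent modules from finitely presented sections on affine charts
-/

set_option autoImplicit false
set_option backward.isDefEq.respectTransparency.types false
universe u

open CategoryTheory CategoryTheory.Limits AlgebraicGeometry Opposite AlgSp TensorProduct

namespace Groth.ModEtQCoh

variable {S : Scheme.{u}} {X : Sp S} {E : EtOver X}

/-- The terminal object of the slice. -/
abbrev topO (E : EtOver X) : Over E := Over.mk (𝟙 E)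

/-- The map to the terminal object of the slice. -/
abbrev toTopO (U : Over E) : U ⟶ topO E := Over.homMk U.hom (Category.comp_id _)

/-- A compatible family from a section over the terminal object. -/
noncomputable def secOf (K : ModOver E) (s : SecO K (topO E)) : K.sections :=
  PresheafOfModules.sectionsMk (fun U => resO K (toTopO U.unop) s) fun U V f => by
    show resO K f.unop (resO K (toTopO U.unop) s) = resO K (toTopO V.unop) s
    rw [← resO_comp]
    rw [show f.unop ≫ toTopO U.unop = toTopO V.unop from
      Over.OverMorphism.ext (f := f.unop ≫ toTopO U.unop) (g := toTopO V.unop) (Over.w f.unop)]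

/-- The morphism from a free module given by sections over the terminal object. -/
noncomputable def freeDesc (K : ModOver E) {I : Type (u + 1)} (s : I → SecO K (topO E)) : freeO E I ⟶ K :=
  (SheafOfModules.freeHomEquiv K).symm fun i => secOf K (s i)

theorem freeDesc_gen (K : ModOver E) {I : Type (u + 1)} (s : I → SecO K (topO E)) (U : Over E) (i : I) :
    appO (freeDesc K s) U (gen I U i) = resO K (toTopO U) (s i) :=
  congrArg (fun σ => σ.1 (op U))
    (SheafOfModules.sectionsMap_freeHomEquiv_symm_freeSection (fun i => secOf K (s i)) i)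

theorem freeDesc_slO {K : ModOver E} {I : Type (u + 1)} (s : I → SecO K (topO E)) {U : Over E}
    (n : I →₀ fnA (topO E).left) :
    appO (freeDesc K s) U (slO (freeO E I) (eFree I (topO E)) (toTopO U) n) =
      resO K (toTopO U) (Finsupp.linearCombination (fnA (topO E).left) s n) := by
  induction n using Finsupp.induction_linear with
  | zero => simp only [map_zero]
  | add a b ha hb => simp only [map_add, ha, hb]
  | single i a => rw [slO_eFree_single, map_smul, freeDesc_gen, Finsupp.linearCombination_single, map_smulₛₗ]

theorem hom_ext_gen {K : ModOver E} {I : Type (u + 1)} {f g : freeO E I ⟶ K}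
    (h : ∀ U i, appO f U (gen I U i) = appO g U (gen I U i)) : f = g := by
  refine (SheafOfModules.freeHomEquiv K).injective (funext fun i => ?_)
  refine PresheafOfModules.sections_ext _ _ fun U => ?_
  exact h U.unop i

theorem epi_of_surjective {K L : ModOver E} (p : K ⟶ L)
    (h : ∀ (U : Over E) [IsAffine U.left.obj.left.left], Function.Surjective (appO p U)) : Epi p := by
  have h1 : Presheaf.IsLocallySurjective ((etTop X).over E)
      ((SheafOfModules.toSheaf.{u + 1} _).map p).hom := by
    refine ⟨fun {U} s => ?_⟩
    choose W k w hW hk using exists_affine_chart_of_ofPt U.left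
    let V : U.left.obj.left.left → Over E := fun x => Over.mk (k x ≫ U.hom)
    let g : ∀ x, V x ⟶ U := fun x => Over.homMk (k x) rfl
    refine GrothendieckTopology.superset_covering _ ?_ (mem_over_of_jointlySurj g fun x => ⟨x, w x, hk x⟩)
    rw [Sieve.ofArrows, Sieve.generate_le_iff]
    rintro Z f ⟨x⟩
    haveI : IsAffine (V x).left.obj.left.left := hW x
    exact h (V x) (resO L (g x) s)
  haveI : Sheaf.IsLocallySurjective ((SheafOfModules.toSheaf.{u + 1} _).map p) := h1
  exact (SheafOfModules.toSheaf.{u + 1} _).epi_of_epi_map inferInstance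

theorem appO_kernel_ι_injective {K L : ModOver E} (p : K ⟶ L) (U : Over E) :
    Function.Injective (appO (kernel.ι p) U) :=
  (ModuleCat.mono_iff_injective ((SheafOfModules.evaluation ((OEtRing X).over E) (op U)).map (kernel.ι p))).1
    inferInstance

theorem exists_presentation_of_epi {K : ModOver E} {I J : Type (u + 1)} [Finite I] [Finite J]
    (π : freeO E I ⟶ K) [Epi π] (ρ : freeO E J ⟶ kernel π) [Epi ρ] : ∃ p : K.Presentation, p.IsFinite := by
  let gens : K.GeneratingSections := ⟨I, K.freeHomEquiv π, by rw [Equiv.symm_apply_apply]; infer_instance⟩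
  have hg : π = gens.π := (Equiv.symm_apply_apply _ _).symm
  let ρ' : freeO E J ⟶ kernel gens.π := ρ ≫ (kernelIsoOfEq hg).hom
  let rels : (kernel gens.π).GeneratingSections :=
    ⟨J, (kernel gens.π).freeHomEquiv ρ', by rw [Equiv.symm_apply_apply]; infer_instance⟩
  exact ⟨⟨gens, rels⟩, ⟨⟨inferInstanceAs (Finite I)⟩, ⟨inferInstanceAs (Finite J)⟩⟩⟩

/-- The affine objects cover the small etale site. -/
theorem coversTop_affine : (etTop X).CoversTop fun E : {E : EtOver X // IsAffine E.obj.left.left} => E.1 := by
  intro Z
  choose W k w hW hk using exists_affine_chart_of_ofPt Z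
  refine (etTop X).superset_covering ?_ (ofArrows_mem_etTop W k fun x => ⟨x, w x, hk x⟩)
  rw [Sieve.ofArrows, Sieve.generate_le_iff]
  rintro T f ⟨x⟩
  exact ⟨⟨W x, hW x⟩, ⟨𝟙 _⟩⟩

variable (M : ModEt X) [IsAffine E.obj.left.left]

/-- A presentation of the sections over an affine chart gives a presentation of the restriction of the module. -/
theorem exists_epi_pair (hM : ∀ (U : Over E) [IsAffine U.left.obj.left.left], IsBC (resM M (toTopO U).left))
    {I J : Type (u + 1)} (m : I → sectModEt M E)
    (hm : Function.Surjective (Finsupp.linearCombination (fnA E) m)) (r : J → (I →₀ fnA E))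
    (hr : LinearMap.range (Finsupp.linearCombination (fnA E) r) =
      LinearMap.ker (Finsupp.linearCombination (fnA E) m)) :
    ∃ (π : freeO E I ⟶ M.over E) (_ : Epi π) (ρ : freeO E J ⟶ kernel π), Epi ρ := by
  haveI : IsAffine (topO E).left.obj.left.left := ‹IsAffine E.obj.left.left›
  let K := M.over E
  let m' : I → SecO K (topO E) := m
  let π : freeO E I ⟶ K := freeDesc K m'
  let c : (I →₀ fnA (topO E).left) →ₗ[fnA (topO E).left] SecO K (topO E) :=
    Finsupp.linearCombination (fnA (topO E).left) m'
  have hc : Function.Surjective c := hm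
  let T : (J →₀ fnA (topO E).left) →ₗ[fnA (topO E).left] (I →₀ fnA (topO E).left) :=
    Finsupp.linearCombination (fnA (topO E).left) r
  let r' : freeO E J ⟶ freeO E I := freeDesc (freeO E I) fun j => eFree I (topO E) (r j)
  have hT : ∀ (U : Over E) (n : J →₀ fnA (topO E).left),
      slO (freeO E I) (eFree I (topO E)) (toTopO U) (T n) =
        appO r' U (slO (freeO E J) (eFree J (topO E)) (toTopO U) n) := fun U n => by
    rw [freeDesc_slO, ← Function.comp_def (eFree I (topO E)) r, ← Finsupp.apply_linearCombination]
    rfl
  have hπ : ∀ (U : Over E) (n : I →₀ fnA (topO E).left),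
      resO K (toTopO U) (c n) = appO π U (slO (freeO E I) (eFree I (topO E)) (toTopO U) n) :=
    fun U n => (freeDesc_slO m' n).symm
  have hsurj : ∀ (U : Over E) [IsAffine U.left.obj.left.left] (s : SecO K U), ∃ z,
      bcLift (resO K (toTopO U)) (mapN (resA (toTopO U).left) c z) = s := fun U _ s => by
    obtain ⟨z, rfl⟩ := (hM U : IsBC (resO K (toTopO U))).2 s
    obtain ⟨z', rfl⟩ := mapN_surjective (resA (toTopO U).left) hc z
    exact ⟨z', rfl⟩
  have hπepi : Epi π := by
    refine epi_of_surjective π fun U _ s => ?_
    obtain ⟨z, rfl⟩ := hsurj U s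
    exact ⟨_, (bcLift_mapN _ _ c (appO π U) (hπ U) z).symm⟩
  have hzero : r' ≫ π = 0 := hom_ext_gen fun U j => by
    show appO π U (appO r' U (gen J U j)) = 0
    rw [freeDesc_gen]
    refine (hπ U (r j)).symm.trans ?_
    have h0 : c (r j) = 0 := LinearMap.mem_ker.1 (hr.le ⟨Finsupp.single j 1, by simp⟩)
    rw [h0, map_zero]
  let ρ : freeO E J ⟶ kernel π := kernel.lift π r' hzero
  have hρepi : Epi ρ := by
    refine epi_of_surjective ρ fun U _ κ => ?_
    obtain ⟨z, hz⟩ := (isBC_eFree I (topO E) U (toTopO U)).2 (appO (kernel.ι π) U κ)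
    have hy : appO π U (appO (kernel.ι π) U κ) = 0 :=
      congrArg (fun f : kernel π ⟶ K => appO f U κ) (kernel.condition π)
    rw [← hz, ← bcLift_mapN _ (resO K (toTopO U)) c (appO π U) (hπ U) z] at hy
    have hz0 : mapN (resA (toTopO U).left) c z = 0 :=
      (hM U : IsBC (resO K (toTopO U))).1 (hy.trans (map_zero _).symm)
    let := (resA (toTopO U).left).toAlgebra
    have hex : Function.Exact T c := LinearMap.exact_iff.2 hr.symm
    obtain ⟨zJ, hzJ⟩ := ((lTensor_exact (fnA U.left) hex hc) z).1 hz0
    refine ⟨bcLift (slO (freeO E J) (eFree J (topO E)) (toTopO U)) zJ, appO_kernel_ι_injective π U ?_⟩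
    rw [← hz, ← hzJ]
    refine Eq.trans ?_ (bcLift_mapN _ _ T (appO r' U) (hT U) zJ).symm
    exact congrArg (fun f : freeO E J ⟶ freeO E I => appO f U _) (kernel.lift_ι π r' hzero)
  exact ⟨π, hπepi, ρ, hρepi⟩

/-- A finite presentation of the sections over an affine chart presents the restriction of the module. -/
theorem exists_presentation [M.IsQuasicoherent] {I J : Type (u + 1)} [Finite I] [Finite J] (m : I → sectModEt M E)
    (hm : Function.Surjective (Finsupp.linearCombination (fnA E) m)) (r : J → (I →₀ fnA E))
    (hr : LinearMap.range (Finsupp.linearCombination (fnA E) r) =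
      LinearMap.ker (Finsupp.linearCombination (fnA E) m)) :
    ∃ p : (M.over E).Presentation, p.IsFinite := by
  haveI : IsAffine (topO E).left.obj.left.left := ‹IsAffine E.obj.left.left›
  obtain ⟨π, hπ, ρ, hρ⟩ := exists_epi_pair M (fun U _ => isBC_resM M (toTopO U).left) m hm r hr
  exact exists_presentation_of_epi π ρ

omit [IsAffine E.obj.left.left] in
/-- A module which is quasi-coherent with finitely presented sections on affine charts is of finite presentation. -/
theorem isFinitePresentation_of_forall [M.IsQuasicoherent]
    (h : ∀ (E : EtOver X) [IsAffine E.obj.left.left], Module.FinitePresentation (fnA E) (sectModEt M E)) :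
    M.IsFinitePresentation := by
  have key : ∀ (E : {E : EtOver X // IsAffine E.obj.left.left}), ∃ p : (M.over E.1).Presentation, p.IsFinite := by
    rintro ⟨E, hE⟩
    obtain ⟨s, hs⟩ := (h E).out
    obtain ⟨hs, t, ht⟩ := hs
    let I := ULift.{u + 1} {x // x ∈ s}
    let v : I → sectModEt M E := fun i => i.down.1
    have hv : Function.Surjective (Finsupp.linearCombination (fnA E) v) := by
      rw [← LinearMap.range_eq_top, Finsupp.range_linearCombination, ← top_le_iff, ← hs]
      exact Submodule.span_mono fun x hx => ⟨ULift.up ⟨x, hx⟩, rfl⟩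
    have := (h E)
    have hfg : (LinearMap.ker (Finsupp.linearCombination (fnA E) v)).FG :=
      Module.FinitePresentation.fg_ker _ hv
    obtain ⟨t', ht'⟩ := hfg
    exact exists_presentation M v hv (fun j : ULift.{u + 1} {x // x ∈ t'} => j.down.1) (by
      rw [Finsupp.range_linearCombination, ← ht']
      congr 1
      ext x
      exact ⟨fun ⟨j, hj⟩ => hj ▸ j.down.2, fun hx => ⟨ULift.up ⟨x, hx⟩, rfl⟩⟩)
  choose p hp using key
  have hcov := coversTop_affine (X := X)
  constructor
  refine ⟨SheafOfModules.QuasicoherentData.mk (M := M) {E : EtOver X // IsAffine E.obj.left.left} (fun E => E.1)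
    hcov p, ?_⟩
  exact { isFinite_presentation := hp }

/-- Over Noetherian affine charts finite type and finite presentation agree. -/
theorem isFinitePresentation_of_finiteType {M : ModEt X} [M.IsQuasicoherent] [M.IsFiniteType]
    (hN : ∀ (E : EtOver X) [IsAffine E.obj.left.left], IsNoetherianRing (fnA E)) : M.IsFinitePresentation :=
  isFinitePresentation_of_forall M fun E _ =>
    haveI := hN E
    haveI := finite_sectModEt M E
    Module.finitePresentation_of_finite _ _

end Groth.ModEtQCoh
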