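import Groth.Agent.ModEtQCoh.Coherent
import Groth.Agent.AlgSp2.InfSmallExt
import Groth.Agent.AlgSpBasic.Compact

/-!
# Morphisms of quasi-coherent modules on affine charts; Noetherian spaces
-/

set_option autoImplicit false
set_option backward.isDefEq.respectTransparency.types false
universe u

open CategoryTheory CategoryTheory.Limits AlgebraicGeometry Opposite AlgSp TensorProduct

namespace Groth.ModEtQCoh

variable {S : Scheme.{u}} {X : Sp S}

/-- A morphism of modules on sections, linear over the functions. -/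
noncomputable def appM {M N : ModEt X} (p : M ⟶ N) (E : EtOver X) : sectModEt M E →ₗ[fnA E] sectModEt N E where
  toFun s := (p.val.app (op E)).hom s
  map_add' := map_add _
  map_smul' a s := (p.val.app (op E)).hom.map_smul (upΓ E a) s

theorem appM_resM {M N : ModEt X} (p : M ⟶ N) {E E' : EtOver X} (g : E' ⟶ E) (s : sectModEt M E) :
    appM p E' (resM M g s) = resM N g (appM p E s) :=
  PresheafOfModules.naturality_apply p.val g.op s

theorem appM_injective_of_mono {M N : ModEt X} (p : M ⟶ N) [Mono p] (E : EtOver X) :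
    Function.Injective (appM p E) :=
  (ModuleCat.mono_iff_injective ((SheafOfModules.evaluation (OEtRing X) (op E)).map p)).1 inferInstance

/-- An epimorphism between quasi-coherent modules is surjective on affine charts. -/
theorem appM_surjective_of_epi {M N : ModEt X} [M.IsQuasicoherent] [N.IsQuasicoherent] (p : M ⟶ N) [Epi p]
    (E : EtOver X) [IsAffine E.obj.left.left] : Function.Surjective (appM p E) := by
  intro s
  suffices h : s ∈ LinearMap.range (appM p E) from h
  obtain ⟨n, W, h, hW, hcov, hl⟩ := exists_affine_cover (imageSieve_mem_of_epi p s)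
  rw [← Submodule.Quotient.mk_eq_zero]
  let : ∀ i, Algebra (fnA E) (fnA (W i)) := fun i => (resA (h i)).toAlgebra
  have : ∀ i, Module.Flat (fnA E) (fnA (W i)) := fun i => flat_resA (h i)
  refine eq_zero_of_forall_one_tmul (B := fun i => fnA (W i)) (fun m hm => exists_prime_over hcov m) fun i => ?_
  obtain ⟨w, hw⟩ := hl i
  obtain ⟨z₁, hz₁⟩ := (isBC_resM M (h i)).2 w
  have key : (1 : fnA (W i)) ⊗ₜ[fnA E] s = mapN (resA (h i)) (appM p E) z₁ := by
    refine (isBC_resM N (h i)).1 ?_
    rw [bcLift_mapN (resM M (h i)) (resM N (h i)) (appM p E) (appM p (W i))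
      (fun m => (appM_resM p (h i) m).symm) z₁, hz₁]
    exact ((bcLift_tmul (resM N (h i)) 1 s).trans (one_smul _ _)).trans hw.symm
  show (LinearMap.lTensor (fnA (W i)) (LinearMap.range (appM p E)).mkQ) (1 ⊗ₜ s) = 0
  rw [key]
  exact mapN_mapN_eq_zero (resA (h i)) (LinearMap.range_mkQ_comp (appM p E)) z₁

/-- A morphism with local preimages of all sections is an epimorphism. -/
theorem epi_of_local {M N : ModEt X} (p : M ⟶ N)
    (h : ∀ (E : EtOver X) (s : sectModEt N E), ∃ (ι : Type u) (W : ι → EtOver X) (g : ∀ i, W i ⟶ E),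
      JointlySurj g ∧ ∀ i, ∃ t, appM p (W i) t = resM N (g i) s) : Epi p := by
  have h1 : Presheaf.IsLocallySurjective (etTop X) ((SheafOfModules.toSheaf.{u + 1} _).map p).hom := by
    refine ⟨fun {E} s => ?_⟩
    obtain ⟨ι, W, g, hg, hl⟩ := h E s
    refine GrothendieckTopology.superset_covering _ ?_ (ofArrows_mem_etTop W g hg)
    rw [Sieve.ofArrows, Sieve.generate_le_iff]
    rintro Z f ⟨i⟩
    exact hl i
  haveI : Sheaf.IsLocallySurjective ((SheafOfModules.toSheaf.{u + 1} _).map p) := h1
  exact (SheafOfModules.toSheaf.{u + 1} _).epi_of_epi_map inferInstance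

theorem surjective_appM_of_hom {M N : ModEt X} [N.IsQuasicoherent] (p : M ⟶ N) {E W : EtOver X}
    [IsAffine E.obj.left.left] [IsAffine W.obj.left.left] (g : W ⟶ E)
    (h : Function.Surjective (appM p E)) : Function.Surjective (appM p W) := by
  intro s
  obtain ⟨z, rfl⟩ := (isBC_resM N g).2 s
  obtain ⟨z', rfl⟩ := mapN_surjective (resA g) h z
  exact ⟨_, (bcLift_mapN (resM M g) (resM N g) (appM p E) (appM p W) (fun m => (appM_resM p g m).symm) z').symm⟩

theorem isNoetherianRing_fnA (hX : IsAlgSpace X) (hN : IsLocNoethSp X) (E : EtOver X)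
    [IsAffine E.obj.left.left] : IsNoetherianRing (fnA E) :=
  haveI := Groth.AlgSp2.isLocallyNoetherian_of_etale hX hN E.property
  IsLocallyNoetherian.component_noetherian ⟨⊤, isAffineOpen_top E.obj.left.left⟩

theorem isFinitePresentation_of_forall_finite (hX : IsAlgSpace X) (hN : IsLocNoethSp X) (M : ModEt X)
    [M.IsQuasicoherent]
    (h : ∀ (E : EtOver X) [IsAffine E.obj.left.left], Module.Finite (fnA E) (sectModEt M E)) :
    M.IsFinitePresentation :=
  isFinitePresentation_of_forall M fun E _ =>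
    haveI := isNoetherianRing_fnA hX hN E
    haveI := h E
    Module.finitePresentation_of_finite _ _

theorem finite_of_mono (hX : IsAlgSpace X) (hN : IsLocNoethSp X) {M N : ModEt X} [M.IsQuasicoherent]
    [M.IsFiniteType] (ι : N ⟶ M) [Mono ι] (E : EtOver X) [IsAffine E.obj.left.left] :
    Module.Finite (fnA E) (sectModEt N E) :=
  haveI := isNoetherianRing_fnA hX hN E
  haveI := finite_sectModEt M E
  Module.Finite.of_injective (appM ι E) (appM_injective_of_mono ι E)

theorem finite_of_epi {M Q : ModEt X} [M.IsQuasicoherent] [M.IsFiniteType] [Q.IsQuasicoherent] (π : M ⟶ Q)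
    [Epi π] (E : EtOver X) [IsAffine E.obj.left.left] : Module.Finite (fnA E) (sectModEt Q E) :=
  haveI := finite_sectModEt M E
  Module.Finite.of_surjective (appM π E) (appM_surjective_of_epi π E)

/-- Chains of quasi-coherent submodules of a coherent module on a Noetherian space are stationary. -/
theorem exists_stationary (hX : IsAlgSpace X) (hqc : IsQuasiCompactSp X) (hN : IsLocNoethSp X) (M : ModEt X)
    [M.IsQuasicoherent] [M.IsFiniteType] (N : ℕ →o Subobject M)
    (hq : ∀ n, (Subobject.underlying.obj (N n)).IsQuasicoherent) : ∃ n, ∀ m, n ≤ m → N m = N n := by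
  obtain ⟨V, q, hV, hqe, hqs⟩ := Groth.AlgSpBasic.exists_affine_chart hX hqc
  obtain ⟨E₀, hE₀, hsurj₀⟩ : ∃ E₀ : EtOver X, IsAffine E₀.obj.left.left ∧
      Function.Surjective (Points.ofPt E₀.obj.hom) :=
    ⟨EtOver.mk q hqe, hV, Groth.AlgSpBasic.surjective_ofPt_of_repWith hqs⟩
  haveI := isNoetherianRing_fnA hX hN E₀
  haveI := finite_sectModEt M E₀
  let L : ℕ →o Submodule (fnA E₀) (sectModEt M E₀) :=
    ⟨fun n => LinearMap.range (appM (N n).arrow E₀), fun n m hnm => by
      rintro _ ⟨t, rfl⟩
      refine ⟨appM (Subobject.ofLE _ _ (N.monotone hnm)) E₀ t, ?_⟩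
      exact congrArg (fun f : Subobject.underlying.obj (N n) ⟶ M => appM f E₀ t)
        (Subobject.ofLE_arrow (N.monotone hnm))⟩
  obtain ⟨n, hn⟩ := monotone_stabilizes_iff_noetherian.2 (inferInstance : _root_.IsNoetherian (fnA E₀) (sectModEt M E₀)) L
  refine ⟨n, fun m hm => ?_⟩
  have hle := N.monotone hm
  let f := Subobject.ofLE _ _ hle
  haveI := hq n
  haveI := hq m
  have h0 : Function.Surjective (appM f E₀) := fun s => by
    obtain ⟨t, ht⟩ := ((hn m hm).ge : L m ≤ L n) ⟨s, rfl⟩
    refine ⟨t, appM_injective_of_mono (N m).arrow E₀ ?_⟩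
    exact (congrArg (fun k : Subobject.underlying.obj (N n) ⟶ M => appM k E₀ t)
      (Subobject.ofLE_arrow hle)).trans ht
  haveI : Epi f := epi_of_local f fun E s => by
    have hpt : ∀ x : E.obj.left.left, ∃ (W : EtOver X) (k : W ⟶ E) (_ : W ⟶ E₀) (w : W.obj.left.left),
        IsAffine W.obj.left.left ∧ k.hom.left.left w = x := by
      intro x
      obtain ⟨v, hv⟩ := hsurj₀ (Points.ofPt E.obj.hom x)
      obtain ⟨W, k, k', w, hW, hk, -⟩ := exists_common_chart E E₀ x v hv.symm
      exact ⟨W, k, k', w, hW, hk⟩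
    choose W k k' w hW hk using hpt
    refine ⟨E.obj.left.left, W, k, fun x => ⟨x, w x, hk x⟩, fun x => ?_⟩
    haveI := hW x
    exact surjective_appM_of_hom f (k' x) h0 _
  haveI : IsIso f := isIso_of_mono_of_epi f
  exact le_antisymm (Subobject.le_of_comm (inv f) (by rw [IsIso.inv_comp_eq]; exact (Subobject.ofLE_arrow hle).symm)) hle

end Groth.ModEtQCoh
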