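import Groth.Agent.ModEtQCoh.Morphisms

/-!
# A module is quasi-coherent if its sections on affine objects are given by base change
-/

set_option autoImplicit false
set_option backward.isDefEq.respectTransparency.types false
universe u

open CategoryTheory CategoryTheory.Limits AlgebraicGeometry Opposite AlgSp TensorProduct

namespace Groth.ModEtQCoh

variable {S : Scheme.{u}} {X : Sp S}

/-- Restriction between affine objects is base change. -/
def HasBC (M : ModEt X) : Prop :=
  ∀ ⦃E E' : EtOver X⦄ [IsAffine E.obj.left.left] [IsAffine E'.obj.left.left] (g : E' ⟶ E), IsBC (resM M g)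

theorem hasBC_of_isQuasicoherent (M : ModEt X) [M.IsQuasicoherent] : HasBC M := fun _ _ _ _ g => isBC_resM M g

theorem exists_presentation_of_hasBC {M : ModEt X} (h : HasBC M) (E : EtOver X) [IsAffine E.obj.left.left] :
    Nonempty (M.over E).Presentation := by
  let c := Finsupp.linearCombination (fnA E) (id : sectModEt M E → sectModEt M E)
  have hc : Function.Surjective c := fun s => ⟨Finsupp.single s 1, by simp [c]⟩
  haveI : IsAffine (topO E).left.obj.left.left := ‹IsAffine E.obj.left.left›
  obtain ⟨π, hπ, ρ, hρ⟩ := exists_epi_pair M (fun U _ => h (toTopO U).left) (I := sectModEt M E) id hc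
    (J := LinearMap.ker c) (fun j => j.1) (by
      rw [Finsupp.range_linearCombination]
      exact (congrArg (Submodule.span (fnA E)) Subtype.range_val).trans (Submodule.span_eq _))
  let gens : (M.over E).GeneratingSections :=
    ⟨_, (M.over E).freeHomEquiv π, by rw [Equiv.symm_apply_apply]; exact hπ⟩
  have hg : π = gens.π := (Equiv.symm_apply_apply _ _).symm
  exact ⟨⟨gens, ⟨_, (kernel gens.π).freeHomEquiv (ρ ≫ (kernelIsoOfEq hg).hom), by
    rw [Equiv.symm_apply_apply]; infer_instance⟩⟩⟩

theorem isQuasicoherent_of_hasBC {M : ModEt X} (h : HasBC M) : M.IsQuasicoherent := by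
  have p : ∀ E : {E : EtOver X // IsAffine E.obj.left.left}, (M.over E.1).Presentation := fun E =>
    haveI := E.2
    (exists_presentation_of_hasBC h E.1).some
  exact (SheafOfModules.QuasicoherentData.mk (M := M) {E : EtOver X // IsAffine E.obj.left.left} (fun E => E.1)
    coversTop_affine p).isQuasicoherent

/-- Quasi-coherence through sections on affine objects. -/
theorem isQuasicoherent_iff_hasBC (M : ModEt X) : M.IsQuasicoherent ↔ HasBC M :=
  ⟨fun _ => hasBC_of_isQuasicoherent M, isQuasicoherent_of_hasBC⟩

end Groth.ModEtQCoh
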