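import Groth.Agent.ModEtQCoh.PullGen
import Groth.Agent.ModEtQCoh.Criterion
import Groth.Agent.AlgSpBasic.Points
import Groth.Prelude.Def_AlgSpOX2
import Mathlib.CategoryTheory.Limits.Constructions.FiniteProductsOfBinaryProducts
import Mathlib.CategoryTheory.Limits.Constructions.LimitsOfProductsAndEqualizers
import Mathlib.CategoryTheory.Functor.Flat

/-!
# Inverse image of quasi-coherent modules along representable morphisms
-/

set_option autoImplicit false
set_option backward.isDefEq.respectTransparency.types false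
set_option backward.isDefEq.respectTransparency false
universe u

open CategoryTheory CategoryTheory.Limits AlgebraicGeometry Opposite AlgSp

namespace Groth.ModEtQCoh

variable {S : Scheme.{u}} {X Y : Sp S} {f : X ⟶ Y} (hf : Representable f)

instance preservesLimit_pair_bc (E₁ E₂ : EtOver Y) : PreservesLimit (pair E₁ E₂) (EtOver.bc hf) := by
  refine preservesLimit_of_preserves_limit_cone (EtOver.prodIsLimit E₁ E₂) ?_
  refine (isLimitMapConeBinaryFanEquiv _ _ _).symm ?_
  let p₁ := EtOver.bcMap hf (EtOver.prodFst E₁ E₂)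
  let p₂ := EtOver.bcMap hf (EtOver.prodSnd E₁ E₂)
  -- the product square over `Y`
  have sqY : IsPullback ((yon S).map (EtOver.prodSnd E₁ E₂).hom.left) ((yon S).map (EtOver.prodFst E₁ E₂).hom.left)
      E₂.obj.hom E₁.obj.hom := by
    change IsPullback ((yon S).map (E₂.property.1.fst' E₁.obj.hom)) _ _ _
    rw [Functor.relativelyRepresentable.map_fst']
    exact E₂.property.1.isPullback E₁.obj.hom
  have h1 := (EtOver.isPullback_map_bcMap hf (EtOver.prodFst E₁ E₂)).flip.paste_horiz sqY
  have key : IsPullback ((yon S).map p₂.hom.left) ((yon S).map p₁.hom.left)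
      (EtOver.bcObj hf E₂).obj.hom (EtOver.bcObj hf E₁).obj.hom := by
    refine IsPullback.of_right ?_ ?_ (EtOver.isPullback_bcObj hf E₂).flip
    · rw [← Functor.map_comp, EtOver.bcMap_snd, Functor.map_comp]
      convert h1 using 1
      exact (EtOver.isPullback_bcObj hf E₁).w
    · rw [EtOver.w p₂, EtOver.w p₁]
  have hl : ∀ {T : EtOver X} (a : T ⟶ EtOver.bcObj hf E₁) (b : T ⟶ EtOver.bcObj hf E₂),
      ∃! c : T ⟶ EtOver.bcObj hf (EtOver.prodObj E₁ E₂), c ≫ p₁ = a ∧ c ≫ p₂ = b := by
    intro T a b
    have hw : (yon S).map b.hom.left ≫ (EtOver.bcObj hf E₂).obj.hom =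
        (yon S).map a.hom.left ≫ (EtOver.bcObj hf E₁).obj.hom := by rw [EtOver.w b, EtOver.w a]
    obtain ⟨c, hc⟩ := (yon S).map_surjective (key.lift _ _ hw)
    have hc1 : c ≫ p₁.hom.left = a.hom.left :=
      (yon S).map_injective (by rw [Functor.map_comp, hc, key.lift_snd])
    have hc2 : c ≫ p₂.hom.left = b.hom.left :=
      (yon S).map_injective (by rw [Functor.map_comp, hc, key.lift_fst])
    refine ⟨EtOver.homMk c (by rw [← EtOver.w p₁, ← Category.assoc, ← Functor.map_comp, hc1, EtOver.w a]),
      ⟨EtOver.hom_ext _ _ hc1, EtOver.hom_ext _ _ hc2⟩, fun c' hc' => EtOver.hom_ext _ _ ?_⟩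
    refine (yon S).map_injective (key.hom_ext ?_ ?_)
    · exact (((yon S).map_comp _ _).symm.trans
        (congrArg (yon S).map ((congrArg (fun k => k.hom.left) hc'.2).trans hc2.symm))).trans ((yon S).map_comp _ _)
    · exact (((yon S).map_comp _ _).symm.trans
        (congrArg (yon S).map ((congrArg (fun k => k.hom.left) hc'.1).trans hc1.symm))).trans ((yon S).map_comp _ _)
  exact BinaryFan.IsLimit.mk _ (fun a b => (hl a b).exists.choose)
    (fun a b => (hl a b).exists.choose_spec.1) (fun a b => (hl a b).exists.choose_spec.2)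
    (fun a b m h₁ h₂ => (hl a b).unique ⟨h₁, h₂⟩ (hl a b).exists.choose_spec)

variable (E : EtOver Y)

instance preservesTerminal_post : PreservesLimit (Functor.empty.{0} (Over E)) (Over.post (X := E) (EtOver.bc hf)) := by
  let e : Over.mk (𝟙 ((EtOver.bc hf).obj E)) ≅ (Over.post (X := E) (EtOver.bc hf)).obj (Over.mk (𝟙 E)) :=
    Over.isoMk (Iso.refl _) ((Category.id_comp _).trans ((EtOver.bc hf).map_id E))
  exact preservesLimit_of_preserves_limit_cone Over.mkIdTerminal
    ((isLimitMapConeEmptyConeEquiv _ _).symm (IsTerminal.ofIso Over.mkIdTerminal e))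

instance preservesPullbacks_post : PreservesLimitsOfShape WalkingCospan (Over.post (X := E) (EtOver.bc hf)) :=
  haveI : PreservesLimitsOfShape WalkingCospan (Over.post (X := E) (EtOver.bc hf) ⋙ Over.forget _) :=
    inferInstanceAs (PreservesLimitsOfShape WalkingCospan (Over.forget E ⋙ EtOver.bc hf))
  preservesLimitsOfShape_of_reflects_of_preserves _ (Over.forget _)

instance isContinuous_post :
    (Over.post (X := E) (EtOver.bc hf)).IsContinuous ((etTop Y).over E) ((etTop X).over ((EtOver.bc hf).obj E)) :=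
  haveI : HasFiniteLimits (Over E) := hasFiniteLimits_of_hasTerminal_and_pullbacks
  haveI : PreservesLimitsOfShape (Discrete PEmpty.{1}) (Over.post (X := E) (EtOver.bc hf)) :=
    ⟨fun {K} => preservesLimit_of_iso_diagram _ (Functor.emptyExt (Functor.empty.{0} (Over E)) K)⟩
  haveI : PreservesFiniteLimits (Over.post (X := E) (EtOver.bc hf)) :=
    preservesFiniteLimits_of_preservesTerminal_and_pullbacks _
  haveI : RepresentablyFlat (Over.post (X := E) (EtOver.bc hf)) := flat_of_preservesFiniteLimits _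
  Functor.isContinuous_of_coverPreserving (compatiblePreservingOfFlat _ _)
    ((CoverPreserving.of_isContinuous (EtOver.bc hf) (etTop Y) (etTop X)).overPost E)

/-- The inverse image of a quasi-coherent module along a representable morphism is quasi-coherent. -/
theorem isQuasicoherent_pull (hY : IsAlgSpace Y)
    [(SheafOfModules.pushforward.{u + 1} (bcRingHom hf)).IsRightAdjoint]
    (G : ModEt Y) [G.IsQuasicoherent] : ((pullModEt hf).obj G).IsQuasicoherent := by
  obtain ⟨q⟩ := SheafOfModules.IsQuasicoherent.nonempty_quasicoherentData (M := G)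
  obtain ⟨U, p, hp, hps⟩ := hY.atlas
  refine (SheafOfModules.QuasicoherentData.mk q.I (fun i => (EtOver.bc hf).obj (q.X i)) ?_
    (fun i => presentationPullOver (bcRingHom hf) (q.X i) G (q.presentation i))).isQuasicoherent
  intro W
  let A := EtOver.mk p hp
  have hsurj : Function.Surjective (Points.ofPt A.obj.hom) := Groth.AlgSpBasic.surjective_ofPt_of_repWith hps
  have hsurjX : ∀ x : Points X, ∃ v, Points.ofPt (EtOver.bcObj hf A).obj.hom v = x := by
    intro x
    obtain ⟨t, ht⟩ := hsurj (Points.map f x)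
    obtain ⟨v, hv, -⟩ := (Groth.AlgSpBasic.map_eq_ofPt_iff (EtOver.isPullback_bcObj hf A) x t).1 ht.symm
    exact ⟨v, hv⟩
  have h1 : Sieve.generate (Presieve.ofArrows (fun _ : PUnit.{u + 1} => W.prodObj (EtOver.bcObj hf A))
      (fun _ => EtOver.prodFst W (EtOver.bcObj hf A))) ∈ etTop X W := by
    refine Precoverage.generate_mem_toGrothendieck ?_
    rw [ofArrows_mem_etPre_iff]
    intro w
    obtain ⟨v, hv⟩ := hsurjX (Points.ofPt W.obj.hom w)
    have sq : IsPullback ((yon S).map (EtOver.prodSnd W (EtOver.bcObj hf A)).hom.left)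
        ((yon S).map (EtOver.prodFst W (EtOver.bcObj hf A)).hom.left) (EtOver.bcObj hf A).obj.hom W.obj.hom := by
      change IsPullback ((yon S).map ((EtOver.bcObj hf A).property.1.fst' W.obj.hom)) _ _ _
      rw [Functor.relativelyRepresentable.map_fst']
      exact (EtOver.bcObj hf A).property.1.isPullback W.obj.hom
    obtain ⟨t, -, ht⟩ := (Groth.AlgSpBasic.ofPt_eq_ofPt_iff sq v w).1 hv
    exact ⟨PUnit.unit, t, ht⟩
  refine (etTop X).transitive h1 _ ?_
  rintro Z g ⟨Z₁, a, g₁, hg₁, rfl⟩
  obtain ⟨⟩ := hg₁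
  rw [Sieve.pullback_comp]
  refine (etTop X).pullback_stable _ ?_
  have h2 : (Sieve.ofObjects (fun i => q.X i) A).functorPushforward (EtOver.bc hf) ∈ etTop X _ :=
    (CoverPreserving.of_isContinuous (EtOver.bc hf) _ (etTop X)).cover_preserve (q.coversTop A)
  refine (etTop X).superset_covering ?_
    ((etTop X).pullback_stable (EtOver.prodSnd W (EtOver.bcObj hf A)) h2)
  rintro Z' g' ⟨Z₀, h₀, c, hh, -⟩
  obtain ⟨i, ⟨m⟩⟩ := (Sieve.mem_ofObjects_iff ..).mp hh
  exact ⟨i, ⟨c ≫ (EtOver.bc hf).map m⟩⟩

end Groth.ModEtQCoh
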