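import Groth.Agent.ModEtQCoh.Push
import Groth.Agent.ModEtQCoh.Morphisms
import Groth.Agent.ModEtQCoh.Coherent
import Groth.Agent.ModEtQCoh.PullEt
import Groth.Agent.EtaleBase.ClosedLift
import Mathlib.AlgebraicGeometry.Morphisms.FlatMono
import Mathlib.CategoryTheory.Adjunction.FullyFaithful

/-!
# Direct image of modules along a closed immersion is fully faithful
-/

set_option autoImplicit false
set_option backward.isDefEq.respectTransparency.types false
set_option linter.style.haveILetI false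
universe u

open CategoryTheory CategoryTheory.Limits AlgebraicGeometry Opposite AlgSp

namespace Groth.ModEtQCoh

/-- Morphisms into any module are determined by sections over affine objects. -/
theorem hom_ext_affine' {S : Scheme.{u}} {X : Sp S} {M N : ModEt X} (p q : M ⟶ N)
    (h : ∀ (E : EtOver X) [IsAffine E.obj.left.left] (s : sectModEt M E), appM p E s = appM q E s) : p = q := by
  apply SheafOfModules.hom_ext
  apply PresheafOfModules.hom_ext
  intro E
  ext s
  choose W k w hW hk using exists_affine_chart_of_ofPt E.unop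
  refine resM_ext N (g := k) (fun x => ⟨x, w x, hk x⟩) fun x => ?_
  show resM N (k x) (appM p E.unop s) = resM N (k x) (appM q E.unop s)
  rw [← appM_resM, ← appM_resM]
  haveI := hW x
  exact h (W x) _

end Groth.ModEtQCoh

namespace Groth.ModEtQCoh.ClosedPush

variable {S : Scheme.{u}} {Z X : Sp S} {f : Z ⟶ X} (hf : Representable f) (hcl : RepWith @IsClosedImmersion f)

include hcl in
theorem isClosedImmersion_bcπ (E : EtOver X) : IsClosedImmersion (EtOver.bcπ hf E).left :=
  hcl.property E.obj.hom (EtOver.bcObj hf E).obj.hom (EtOver.bcπ hf E) (EtOver.isPullback_bcObj hf E)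

/-- A point of a base change along an immersion is determined by its images. -/
theorem lift_apply_eq {P Q V : Scheme.{u}} (π : P ⟶ Q) [IsClosedImmersion π] (v : V ⟶ Q) {B : Scheme.{u}}
    (a : B ⟶ V) (b : B ⟶ P) (hw : a ≫ v = b ≫ π) (z : ↥(pullback v π)) (z' : B)
    (h : a z' = pullback.fst v π z) : pullback.lift a b hw z' = z := by
  haveI : IsClosedImmersion (pullback.fst v π) := inferInstance
  refine (pullback.fst v π).isClosedEmbedding.injective ?_
  rw [← h, ← Scheme.Hom.comp_apply, pullback.lift_fst]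

include hcl in
/-- Every etale scheme over the closed subspace is covered by base changes of affine objects. -/
theorem exists_bc_cover (hX : IsAlgSpace X) (W : EtOver Z) (w : W.obj.left.left) :
    ∃ (E : EtOver X) (k : EtOver.bcObj hf E ⟶ W), IsAffine E.obj.left.left ∧ w ∈ Set.range k.hom.left.left := by
  obtain ⟨U, p, hp, hps⟩ := hX.atlas
  let A : EtOver X := EtOver.mk p hp
  obtain ⟨a, ha⟩ := Groth.AlgSpBasic.surjective_ofPt_of_repWith hps (Points.map f (Points.ofPt W.obj.hom w))
  obtain ⟨t₀, ht₀, -⟩ := (Groth.AlgSpBasic.map_eq_ofPt_iff (EtOver.isPullback_bcObj hf A) _ a).1 ha.symm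
  obtain ⟨T, g, k₀, t, -, hg, hk₀⟩ := exists_common_chart (EtOver.bcObj hf A) W t₀ w ht₀
  haveI : Etale g.hom.left.left := EtOver.etale_left g
  haveI := isClosedImmersion_bcπ hf hcl A
  obtain ⟨V, v, hv, h, hhg, hh, z, hz⟩ := Groth.EtaleBase.exists_etale_lift (EtOver.bcπ hf A).left g.hom.left.left t
  obtain ⟨O, hO, hzO, -⟩ := exists_isAffineOpen_mem_and_subset (X := V)
    (x := pullback.fst v (EtOver.bcπ hf A).left z) (U := ⊤) trivial
  let e : Over.mk (O.ι ≫ v ≫ A.obj.left.hom) ⟶ A.obj.left := Over.homMk (O.ι ≫ v) (Category.assoc _ _ _)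
  haveI : Etale e.left := inferInstanceAs (Etale (O.ι ≫ v))
  let E : EtOver X := EtOver.mk ((yon S).map e ≫ A.obj.hom)
    (Groth.AlgSpBasic.repWith_comp ((repWith_yon_map_iff _ e).2 inferInstance) hp)
  let j : E ⟶ A := EtOver.homMk e rfl
  have sq := EtOver.isPullback_bcMap_left hf j
  have hw : ((EtOver.bcπ hf E).left ≫ O.ι) ≫ v = (EtOver.bcMap hf j).hom.left.left ≫ (EtOver.bcπ hf A).left := by
    rw [Category.assoc]; exact sq.w.symm
  let q := pullback.lift _ _ hw ≫ h
  have hq : q ≫ g.hom.left.left = (EtOver.bcMap hf j).hom.left.left := by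
    simp only [q, Category.assoc, hhg, pullback.lift_snd]
  let q' : (EtOver.bcObj hf E).obj.left ⟶ T.obj.left := Over.homMk q (by
    rw [← Over.w g.hom.left, ← Category.assoc, hq]
    exact Over.w (EtOver.bcMap hf j).hom.left)
  have hq' : q' ≫ g.hom.left = (EtOver.bcMap hf j).hom.left := Over.OverMorphism.ext hq
  let k₁ : EtOver.bcObj hf E ⟶ T := EtOver.homMk q' (by
    rw [← EtOver.w g, ← Category.assoc, ← Functor.map_comp, hq']
    exact EtOver.w (EtOver.bcMap hf j))
  refine ⟨E, k₁ ≫ k₀, hO, ?_⟩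
  obtain ⟨z', hz'₁, hz'₂⟩ := Scheme.exists_preimage_of_isPullback sq
    (pullback.snd v (EtOver.bcπ hf A).left z) ⟨pullback.fst v (EtOver.bcπ hf A).left z, hzO⟩
    ((Scheme.Hom.comp_apply _ _ z).symm.trans
      ((congrArg (fun m : pullback v (EtOver.bcπ hf A).left ⟶ _ => m z) pullback.condition.symm).trans
        (Scheme.Hom.comp_apply _ _ z)))
  have e1 : pullback.lift _ _ hw z' = z := lift_apply_eq _ v _ _ hw z z'
    ((Scheme.Hom.comp_apply _ _ z').trans (congrArg O.ι hz'₂))
  refine ⟨z', ?_⟩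
  show k₀.hom.left.left (q z') = w
  rw [show q z' = h (pullback.lift _ _ hw z') from Scheme.Hom.comp_apply _ _ z', e1, hz, hk₀]

include hcl in
/-- Every morphism between base changes comes from morphisms upstairs. -/
theorem exists_roof {E E' : EtOver X} (c : EtOver.bcObj hf E ⟶ EtOver.bcObj hf E') :
    ∃ (D : EtOver X) (a : D ⟶ E) (b : D ⟶ E') (e : EtOver.bcObj hf E ⟶ EtOver.bcObj hf D),
      e ≫ EtOver.bcMap hf a = 𝟙 _ ∧ e ≫ EtOver.bcMap hf b = c ∧ EtOver.bcMap hf a ≫ e = 𝟙 _ := by
  let P := EtOver.prodObj E E'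
  let hl := isLimitOfPreserves (EtOver.bc hf) (EtOver.prodIsLimit E E')
  let hl' := isLimitMapConeBinaryFanEquiv (EtOver.bc hf) _ _ hl
  obtain ⟨γ, hγ₁, hγ₂⟩ := BinaryFan.IsLimit.lift' hl' (𝟙 (EtOver.bcObj hf E)) c
  haveI := isClosedImmersion_bcπ hf hcl P
  haveI := EtOver.etale_left γ
  have hind := (EtOver.bcπ hf P).left.isClosedEmbedding.isInducing
  obtain ⟨Oset, hO, hOpre⟩ := hind.isOpen_iff.1 γ.hom.left.left.isOpenMap.isOpen_range
  let O : P.obj.left.left.Opens := ⟨Oset, hO⟩
  let i : Over.mk (O.ι ≫ P.obj.left.hom) ⟶ P.obj.left := Over.homMk O.ι rfl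
  haveI : Etale i.left := inferInstanceAs (Etale O.ι)
  let D : EtOver X := EtOver.mk ((yon S).map i ≫ P.obj.hom)
    (Groth.AlgSpBasic.repWith_comp ((repWith_yon_map_iff _ i).2 inferInstance) P.property)
  let j : D ⟶ P := EtOver.homMk i rfl
  have sq := EtOver.isPullback_bcMap_left hf j
  haveI : IsOpenImmersion (EtOver.bcMap hf j).hom.left.left :=
    MorphismProperty.of_isPullback (P := @IsOpenImmersion) sq.flip (inferInstanceAs (IsOpenImmersion O.ι))
  have hrange : Set.range (EtOver.bcMap hf j).hom.left.left = Set.range γ.hom.left.left := by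
    rw [← hOpre]
    ext y
    constructor
    · rintro ⟨d, rfl⟩
      show (EtOver.bcπ hf P).left ((EtOver.bcMap hf j).hom.left.left d) ∈ Oset
      rw [← Scheme.Hom.comp_apply, sq.w, Scheme.Hom.comp_apply]
      exact ((EtOver.bcπ hf D).left d).2
    · intro hy
      obtain ⟨d, hd, -⟩ := Scheme.exists_preimage_of_isPullback sq y ⟨(EtOver.bcπ hf P).left y, hy⟩ rfl
      exact ⟨d, hd⟩
  let e₀ := IsOpenImmersion.lift (EtOver.bcMap hf j).hom.left.left γ.hom.left.left hrange.ge
  have he₀ : e₀ ≫ (EtOver.bcMap hf j).hom.left.left = γ.hom.left.left := IsOpenImmersion.lift_fac _ _ _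
  let e' : (EtOver.bcObj hf E).obj.left ⟶ (EtOver.bcObj hf D).obj.left := Over.homMk e₀ (by
    rw [← Over.w (EtOver.bcMap hf j).hom.left, ← Category.assoc, he₀]
    exact Over.w γ.hom.left)
  have he' : e' ≫ (EtOver.bcMap hf j).hom.left = γ.hom.left := Over.OverMorphism.ext he₀
  let e : EtOver.bcObj hf E ⟶ EtOver.bcObj hf D := EtOver.homMk e' (by
    rw [← EtOver.w (EtOver.bcMap hf j), ← Category.assoc, ← Functor.map_comp, he']
    exact EtOver.w γ)
  have he : e ≫ EtOver.bcMap hf j = γ := EtOver.hom_ext _ _ he'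
  let a : D ⟶ E := j ≫ EtOver.prodFst E E'
  have hab : ∀ {E₁ : EtOver X} (q : P ⟶ E₁), EtOver.bcMap hf (j ≫ q) = EtOver.bcMap hf j ≫ EtOver.bcMap hf q :=
    fun q => (EtOver.bc hf).map_comp j q
  have hea : e ≫ EtOver.bcMap hf a = 𝟙 _ := by rw [hab, ← Category.assoc, he]; exact hγ₁
  refine ⟨D, a, j ≫ EtOver.prodSnd E E', e, hea, by rw [hab, ← Category.assoc, he]; exact hγ₂, ?_⟩
  -- the two endomorphisms agree after composing with the monomorphism into the product
  have hmono : ∀ {T : EtOver Z} (u v : T ⟶ EtOver.bcObj hf D),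
      u ≫ EtOver.bcMap hf j = v ≫ EtOver.bcMap hf j → u = v := fun u v huv =>
    EtOver.hom_ext _ _ (Over.OverMorphism.ext
      ((cancel_mono (EtOver.bcMap hf j).hom.left.left).1 (congrArg (fun k => k.hom.left.left) huv)))
  have hγmono : IsOpenImmersion γ.hom.left.left := by
    haveI : Mono γ.hom.left.left := SplitMono.mono
      ⟨(EtOver.bcMap hf (EtOver.prodFst E E')).hom.left.left, congrArg (fun k => k.hom.left.left) hγ₁⟩
    exact IsOpenImmersion.of_flat_of_mono γ.hom.left.left
  let r₀ := IsOpenImmersion.lift γ.hom.left.left (EtOver.bcMap hf j).hom.left.left hrange.le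
  have hr₀ : r₀ ≫ γ.hom.left.left = (EtOver.bcMap hf j).hom.left.left := IsOpenImmersion.lift_fac _ _ _
  refine hmono _ _ ?_
  rw [Category.assoc, he, Category.id_comp]
  refine EtOver.hom_ext _ _ (Over.OverMorphism.ext ?_)
  have h1 : (EtOver.bcMap hf a).hom.left.left = r₀ := by
    have h2 : (EtOver.bcMap hf a).hom.left.left =
        (EtOver.bcMap hf j).hom.left.left ≫ (EtOver.bcMap hf (EtOver.prodFst E E')).hom.left.left :=
      congrArg (fun k => k.hom.left.left) (hab (EtOver.prodFst E E'))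
    have h3 : γ.hom.left.left ≫ (EtOver.bcMap hf (EtOver.prodFst E E')).hom.left.left = 𝟙 _ :=
      congrArg (fun k => k.hom.left.left) hγ₁
    rw [h2, ← hr₀]
    exact (Category.assoc _ _ _).trans ((congrArg (r₀ ≫ ·) h3).trans (Category.comp_id _))
  show (EtOver.bcMap hf a).hom.left.left ≫ γ.hom.left.left = (EtOver.bcMap hf j).hom.left.left
  rw [h1, hr₀]

variable {G H : ModEt Z} (ψ : (pushModEt hf).obj G ⟶ (pushModEt hf).obj H)

/-- The map on sections over the base change of an object. -/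
noncomputable def psi (E : EtOver X) (s : sectModEt G (EtOver.bcObj hf E)) : sectModEt H (EtOver.bcObj hf E) :=
  appM ψ E s

theorem psi_map {E E' : EtOver X} (a : E ⟶ E') (s : sectModEt G (EtOver.bcObj hf E')) :
    psi hf ψ E (resM G (EtOver.bcMap hf a) s) = resM H (EtOver.bcMap hf a) (psi hf ψ E' s) :=
  appM_resM ψ a s

include hcl in
theorem psi_compat {E E' : EtOver X} (c : EtOver.bcObj hf E ⟶ EtOver.bcObj hf E')
    (s : sectModEt G (EtOver.bcObj hf E')) :
    psi hf ψ E (resM G c s) = resM H c (psi hf ψ E' s) := by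
  obtain ⟨D, a, b, e, hea, heb, hae⟩ := exists_roof hf hcl c
  have key : ∀ x : sectModEt G (EtOver.bcObj hf D), psi hf ψ E (resM G e x) = resM H e (psi hf ψ D x) := by
    intro x
    have h1 : x = resM G (EtOver.bcMap hf a) (resM G e x) := by rw [← resM_comp, hae, resM_id]
    conv_rhs => rw [h1, psi_map, ← resM_comp, hea, resM_id]
  rw [← heb, resM_comp, resM_comp, key, psi_map]

include hcl in
theorem psi_smul {E : EtOver X} [IsAffine E.obj.left.left] (a : fnA (EtOver.bcObj hf E))
    (s : sectModEt G (EtOver.bcObj hf E)) : psi hf ψ E (a • s) = a • psi hf ψ E s := by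
  haveI := isClosedImmersion_bcπ hf hcl E
  obtain ⟨b, rfl⟩ := (IsClosedImmersion.isAffine_surjective_of_isAffine (f := (EtOver.bcπ hf E).left)).2 a
  exact (appM ψ E).map_smul b s

include hcl in
theorem existsUnique_desc (hX : IsAlgSpace X) (W : EtOver Z) (s : sectModEt G W) :
    ∃! t : sectModEt H W, ∀ (E : EtOver X) [IsAffine E.obj.left.left] (k : EtOver.bcObj hf E ⟶ W),
      resM H k t = psi hf ψ E (resM G k s) := by
  choose E k hE hk using exists_bc_cover hf hcl hX W
  have hcov : JointlySurj k := fun w => ⟨w, hk w⟩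
  have hdesc : ∀ {E₁ E₂ E₃ : EtOver X} (k₁ : EtOver.bcObj hf E₁ ⟶ W) (k₂ : EtOver.bcObj hf E₂ ⟶ W)
      (a : EtOver.bcObj hf E₃ ⟶ EtOver.bcObj hf E₁) (b : EtOver.bcObj hf E₃ ⟶ EtOver.bcObj hf E₂),
      a ≫ k₁ = b ≫ k₂ → resM H a (psi hf ψ E₁ (resM G k₁ s)) = resM H b (psi hf ψ E₂ (resM G k₂ s)) := by
    intro E₁ E₂ E₃ k₁ k₂ a b hab
    rw [← psi_compat hf hcl ψ, ← psi_compat hf hcl ψ, ← resM_comp, ← resM_comp, hab]
  have hy : ∀ v w, resM H (EtOver.pullbackFst (k v) (k w)) (psi hf ψ (E v) (resM G (k v) s)) =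
      resM H (EtOver.pullbackSnd (k v) (k w)) (psi hf ψ (E w) (resM G (k w) s)) := by
    intro v w
    choose E₃ l hE₃ hl using exists_bc_cover hf hcl hX (EtOver.pullbackObj (k v) (k w))
    refine resM_ext H (g := l) (fun x => ⟨x, hl x⟩) fun x => ?_
    rw [← resM_comp, ← resM_comp]
    refine hdesc (k v) (k w) _ _ ?_
    rw [Category.assoc, Category.assoc, EtOver.pullback_condition]
  obtain ⟨t, ht⟩ := exists_resM_eq H hcov _ hy
  refine ⟨t, fun E₁ _ k₁ => ?_, fun t' ht' => ?_⟩
  · choose E₃ l hE₃ hl using fun x => exists_bc_cover hf hcl hX (EtOver.pullbackObj k₁ (k x))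
    refine resM_ext H (g := fun p : Σ x, (EtOver.pullbackObj k₁ (k x)).obj.left.left =>
      l p.1 p.2 ≫ EtOver.pullbackFst k₁ (k p.1)) ?_ fun p => ?_
    · intro y
      obtain ⟨x, z, hz⟩ := hcov (k₁.hom.left.left y)
      obtain ⟨q, hq, -⟩ := Scheme.exists_preimage_of_isPullback
        ((EtOver.isPullback k₁ (k x)).map (EtOver.toScheme Z)) y z hz.symm
      obtain ⟨r, hr⟩ := hl x q
      refine ⟨⟨x, q⟩, r, ?_⟩
      show (EtOver.pullbackFst k₁ (k x)).hom.left.left ((l x q).hom.left.left r) = y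
      rw [hr]
      exact hq
    · haveI := hE₃ p.1 p.2
      have hw : (l p.1 p.2 ≫ EtOver.pullbackFst k₁ (k p.1)) ≫ k₁ =
          (l p.1 p.2 ≫ EtOver.pullbackSnd k₁ (k p.1)) ≫ k p.1 := by
        rw [Category.assoc, Category.assoc, EtOver.pullback_condition]
      rw [← resM_comp, hw, resM_comp, ht]
      exact (hdesc k₁ (k p.1) _ _ hw).symm
  · exact resM_ext H hcov fun v => (ht' (E v) (k v)).trans (ht v).symm

include hcl in
/-- Direct image along a closed immersion is full. -/
theorem exists_preimage (hX : IsAlgSpace X) : ∃ φ : G ⟶ H, (pushModEt hf).map φ = ψ := by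
  choose F hF hF' using fun W s => existsUnique_desc hf hcl ψ hX W s
  have hu : ∀ (W : EtOver Z) (s : sectModEt G W) (t : sectModEt H W), (∀ (E : EtOver X) [IsAffine E.obj.left.left]
      (k : EtOver.bcObj hf E ⟶ W), resM H k t = psi hf ψ E (resM G k s)) → t = F W s := fun W s t h => hF' W s t h
  have hadd : ∀ W s s', F W (s + s') = F W s + F W s' := fun W s s' => (hu W (s + s') _ fun E _ k => by
    rw [map_add, map_add (resM G k), hF, hF]
    exact (map_add (appM ψ E) _ _).symm).symm
  have hsmul : ∀ (W : EtOver Z) (a : fnA W) (s : sectModEt G W), F W (a • s) = a • F W s := fun W a s =>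
    (hu W (a • s) _ fun E _ k => by
      rw [map_smulₛₗ, map_smulₛₗ (resM G k), hF, psi_smul hf hcl ψ]).symm
  let app : ∀ W : (EtOver Z)ᵒᵖ, G.val.obj W ⟶ H.val.obj W := fun W =>
    ModuleCat.ofHom ⟨⟨fun s => F W.unop s, hadd W.unop⟩, fun a s => hsmul W.unop a.down s⟩
  let φv : G.val ⟶ H.val :=
    { app := app
      naturality := fun {W W'} g => by
        ext s
        show F W'.unop (resM G g.unop s) = resM H g.unop (F W.unop s)
        refine (hu _ _ _ fun E _ k => ?_).symm
        rw [← resM_comp, ← resM_comp, hF] }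
  let φ : G ⟶ H := ⟨φv⟩
  refine ⟨φ, hom_ext_affine' _ _ fun E _ s => ?_⟩
  show F (EtOver.bcObj hf E) s = psi hf ψ E s
  have h := hF (EtOver.bcObj hf E) s E (𝟙 _)
  rwa [resM_id, resM_id] at h

include hcl in
/-- Direct image along a closed immersion is faithful. -/
theorem map_injective (hX : IsAlgSpace X) {φ φ' : G ⟶ H} (h : (pushModEt hf).map φ = (pushModEt hf).map φ') :
    φ = φ' := by
  apply SheafOfModules.hom_ext
  apply PresheafOfModules.hom_ext
  intro W
  ext s
  choose E k hE hk using exists_bc_cover hf hcl hX W.unop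
  refine resM_ext H (g := k) (fun w => ⟨w, hk w⟩) fun w => ?_
  show resM H (k w) (appM φ W.unop s) = resM H (k w) (appM φ' W.unop s)
  rw [← appM_resM, ← appM_resM]
  exact congrArg (fun m => appM m (E w) (resM G (k w) s)) h

include hcl in
/-- The counit of inverse and direct image along a closed immersion is an isomorphism. -/
theorem isIso_counit (hX : IsAlgSpace X) [(SheafOfModules.pushforward.{u + 1} (bcRingHom hf)).IsRightAdjoint]
    (G : ModEt Z) : IsIso ((pullPushAdjModEt hf).counit.app G) := by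
  haveI : (pushModEt hf).Full := ⟨fun ψ => exists_preimage hf hcl ψ hX⟩
  haveI : (pushModEt hf).Faithful := ⟨fun h => map_injective hf hcl hX h⟩
  infer_instance

end Groth.ModEtQCoh.ClosedPush
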