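import Mathlib.Algebra.Category.ModuleCat.Sheaf.Abelian
import Mathlib.Algebra.Category.ModuleCat.Presheaf.Colimits
import Mathlib.CategoryTheory.Sites.EpiMono
import Mathlib.Algebra.Category.Grp.EpiMono
import Mathlib.Algebra.Category.Grp.Abelian
import Mathlib.CategoryTheory.Sites.Abelian

/-!
# Epimorphisms of sheaves of modules are locally surjective

The forgetful functor from sheaves of modules to abelian sheaves preserves finite colimits, on any site.
-/

set_option autoImplicit false

universe v u₁ v₁

open CategoryTheory Limits Opposite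

namespace Groth.ModEtQCoh

variable {C : Type u₁} [Category.{v₁} C] {J : GrothendieckTopology C} (R : Sheaf J RingCat.{v})
  [HasSheafify J AddCommGrpCat.{v}] [J.WEqualsLocallyBijective AddCommGrpCat.{v}]

/-- The forgetful functor to abelian sheaves is exact on colimits. -/
theorem preservesFiniteColimits_toSheaf : PreservesFiniteColimits (SheafOfModules.toSheaf.{v} R) where
  preservesFiniteColimits Sh _ _ := by
    let i := SheafOfModules.forget R ⋙ PresheafOfModules.restrictScalars (𝟙 R.obj)
    let a := PresheafOfModules.sheafification.{v} (𝟙 R.obj)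
    let adj := PresheafOfModules.sheafificationAdjunction.{v} (𝟙 R.obj)
    have := adj.leftAdjoint_preservesColimits.{0, 0}
    refine ⟨fun {F} => ?_⟩
    have h : IsColimit ((a ⋙ SheafOfModules.toSheaf R).mapCocone (colimit.cocone (F ⋙ i))) :=
      isColimitOfPreserves (PresheafOfModules.toPresheaf R.obj ⋙ presheafToSheaf J AddCommGrpCat.{v})
        (colimit.isColimit (F ⋙ i))
    have : PreservesColimit ((F ⋙ i) ⋙ a) (SheafOfModules.toSheaf R) :=
      preservesColimit_of_preserves_colimit_cocone (isColimitOfPreserves a (colimit.isColimit (F ⋙ i))) h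
    exact preservesColimit_of_iso_diagram (SheafOfModules.toSheaf R)
      (Functor.associator _ _ _ ≪≫ Functor.isoWhiskerLeft F (asIso adj.counit) ≪≫ F.rightUnitor)

variable {R} [J.HasSheafCompose (forget AddCommGrpCat.{v})]

/-- An epimorphism of sheaves of modules is locally surjective on sections. -/
theorem imageSieve_mem_of_epi {M N : SheafOfModules.{v} R} (p : M ⟶ N) [Epi p] {X : C}
    (s : N.val.presheaf.obj (op X)) :
    Presheaf.imageSieve ((PresheafOfModules.toPresheaf R.obj).map p.val) s ∈ J X := by
  have := preservesFiniteColimits_toSheaf R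
  have h2 : Sheaf.IsLocallySurjective ((SheafOfModules.toSheaf.{v} R).map p) :=
    (Sheaf.isLocallySurjective_iff_epi' AddCommGrpCat.{v} ((SheafOfModules.toSheaf.{v} R).map p)).2 inferInstance
  exact h2.imageSieve_mem s

end Groth.ModEtQCoh
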