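import Groth.Agent.ModEtQCoh.Criterion

/-!
# Kernels, cokernels and the vanishing of first Cech cohomology of quasi-coherent modules on affine charts
-/

set_option autoImplicit false
set_option backward.isDefEq.respectTransparency.types false
universe u

open CategoryTheory CategoryTheory.Limits AlgebraicGeometry Opposite AlgSp TensorProduct

namespace Groth.ModEtQCoh

variable {S : Scheme.{u}} {X : Sp S}

theorem appM_comp {M N P : ModEt X} (f : M ⟶ N) (g : N ⟶ P) (E : EtOver X) (s : sectModEt M E) :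
    appM (f ≫ g) E s = appM g E (appM f E s) := rfl

theorem appM_comp_eq_zero {M N P : ModEt X} {f : M ⟶ N} {g : N ⟶ P} (w : f ≫ g = 0) (E : EtOver X)
    (s : sectModEt M E) : appM g E (appM f E s) = 0 :=
  congrArg (fun k : M ⟶ P => appM k E s) w

theorem exists_preimage_kernel {M N : ModEt X} (φ : M ⟶ N) {E : EtOver X} {y : sectModEt M E}
    (hy : appM φ E y = 0) : ∃ κ, appM (kernel.ι φ) E κ = y := by
  let F := SheafOfModules.evaluation (OEtRing X) (op E)
  haveI : F.Additive := ⟨fun {_ _ _ _} => rfl⟩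
  let C := (ShortComplex.mk (kernel.ι φ) φ (kernel.condition φ)).map F
  have h2 : C.Exact :=
    ShortComplex.exact_of_f_is_kernel _ (KernelFork.mapIsLimit _ (kernelIsKernel φ) F)
  exact (ShortComplex.moduleCat_exact_iff _).1 h2 y hy

theorem exists_preimage_of_shortExact {C : ShortComplex (ModEt X)} (hC : C.ShortExact) {E : EtOver X}
    {y : sectModEt C.X₂ E} (hy : appM C.g E y = 0) : ∃ κ, appM C.f E κ = y := by
  obtain ⟨κ, hκ⟩ := exists_preimage_kernel C.g hy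
  let e := hC.fIsKernel.conePointUniqueUpToIso (kernelIsKernel C.g)
  refine ⟨appM e.inv E κ, ?_⟩
  rw [← appM_comp]
  exact (congrArg (fun k : kernel C.g ⟶ C.X₂ => appM k E κ)
    (IsLimit.conePointUniqueUpToIso_inv_comp hC.fIsKernel (kernelIsKernel C.g) WalkingParallelPair.zero)).trans hκ

/-- A kernel of a map of modules with base change on affine objects has it too. -/
theorem hasBC_of_kernel {K M N : ModEt X} (hM : HasBC M) (hN : HasBC N) (j : K ⟶ M) [Mono j] (φ : M ⟶ N)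
    (w : j ≫ φ = 0) (hex : ∀ (E : EtOver X) (y : sectModEt M E), appM φ E y = 0 → ∃ κ, appM j E κ = y) :
    HasBC K := by
  intro E E' _ _ g
  exact isBC_of_equalizer (flat_resA g) (resM K g) (resM M g) (resM N g) (appM j E) (appM φ E) 0
    (appM j E') (appM φ E') 0 (appM_injective_of_mono j E) (appM_comp_eq_zero w E) (hex E)
    (appM_injective_of_mono j E') (appM_comp_eq_zero w E') (appM_resM j g) (appM_resM φ g)
    (fun y => (map_zero (resM N g)).symm) (hM g) (hN g)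

/-- Quasi-coherence of kernels. -/
theorem hasBC_kernel {M N : ModEt X} (hM : HasBC M) (hN : HasBC N) (φ : M ⟶ N) : HasBC (kernel φ) :=
  hasBC_of_kernel hM hN (kernel.ι φ) φ (kernel.condition φ) fun _ _ hy => exists_preimage_kernel φ hy

theorem isBC_resM_of_isBC_slO {Q : ModEt X} {E : EtOver X} [IsAffine E.obj.left.left] {N₀ : Type (u + 1)}
    [AddCommGroup N₀] [Module (fnA (topO E).left) N₀] (φ₀ : N₀ →ₗ[fnA (topO E).left] SecO (Q.over E) (topO E))
    (h : ∀ (V : Over E) [IsAffine V.left.obj.left.left] (g : V ⟶ topO E), IsBC (slO (Q.over E) φ₀ g))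
    (V : Over E) [IsAffine V.left.obj.left.left] (g : V ⟶ topO E) : IsBC (resM Q g.left) := by
  haveI : IsAffine (topO E).left.obj.left.left := ‹IsAffine E.obj.left.left›
  show IsBC (resO (Q.over E) g)
  have key : ∀ z, bcLift (resO (Q.over E) g) (mapN (resA g.left) φ₀ z) = bcLift (slO (Q.over E) φ₀ g) z := fun z =>
    bcLift_mapN (slO (Q.over E) φ₀ g) (resO (Q.over E) g) φ₀ LinearMap.id (fun _ => rfl) z
  have hs := mapN_surjective (resA g.left) (surjective_of_isBC_id φ₀ (h (topO E) (𝟙 _)))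
  refine ⟨fun z z' hzz => ?_, fun s => ?_⟩
  · obtain ⟨w, rfl⟩ := hs z
    obtain ⟨w', rfl⟩ := hs z'
    rw [key, key] at hzz
    rw [(h V g).1 hzz]
  · obtain ⟨w, hw⟩ := (h V g).2 s
    exact ⟨_, (key w).trans hw⟩

/-- A module with a locally exact presentation by modules with base change has base change. -/
theorem hasBC_of_cokernel {M N Q : ModEt X} (hM : HasBC M) (hN : HasBC N) (φ : M ⟶ N) (π : N ⟶ Q) [Epi π]
    (w : φ ≫ π = 0)
    (hlift : ∀ (V : EtOver X) [IsAffine V.obj.left.left] (y : sectModEt N V), appM π V y = 0 →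
      ∃ (n : ℕ) (W : Fin n → EtOver X) (h : ∀ i, W i ⟶ V), (∀ i, IsAffine (W i).obj.left.left) ∧
        JointlySurj h ∧ ∀ i, ∃ t, appM φ (W i) t = resM N (h i) y) : HasBC Q := by
  intro E E' _ _ g
  haveI : IsAffine (topO E).left.obj.left.left := ‹IsAffine E.obj.left.left›
  haveI : IsAffine (Over.mk g).left.obj.left.left := ‹IsAffine E'.obj.left.left›
  let T : sectModEt M (topO E).left →ₗ[fnA (topO E).left] sectModEt N (topO E).left := appM φ _
  let q := (LinearMap.range T).mkQ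
  let φ₀ : sectModEt N (topO E).left ⧸ LinearMap.range T →ₗ[fnA (topO E).left] SecO (Q.over E) (topO E) :=
    (LinearMap.range T).liftQ (appM π (topO E).left) (by
      rintro _ ⟨m, rfl⟩
      exact appM_comp_eq_zero w _ m)
  refine isBC_resM_of_isBC_slO φ₀ (fun V _ k => isBC_of_local ?_ ?_ V k) (Over.mk g) (toTopO (Over.mk g))
  · intro V _ k z hz
    obtain ⟨z₁, rfl⟩ := mapN_surjective (resA k.left) (Submodule.mkQ_surjective (LinearMap.range T)) z
    rw [bcLift_mapN (resM N k.left) (slO (Q.over E) φ₀ k) q (appM π V.left)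
      (fun n => (appM_resM π k.left n).symm) z₁] at hz
    obtain ⟨n, W, h, hW, hcov, hl⟩ := hlift V.left _ hz
    refine ⟨n, fun i => Over.mk (h i ≫ V.hom), fun i => Over.homMk (h i) rfl, hW, hcov, fun i => ?_⟩
    haveI := hW i
    obtain ⟨t, ht⟩ := hl i
    obtain ⟨zM, rfl⟩ := (hM (h i ≫ k.left)).2 t
    have key : mapTens (resA k.left) (resA (h i)) _ (resA (h i ≫ k.left)) (fun _ => rfl) z₁ =
        mapN (resA (h i ≫ k.left)) T zM := by
      refine (hN (h i ≫ k.left)).1 ?_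
      rw [bcLift_mapTens (resM N k.left) (fun _ => rfl) (resM N (h i ≫ k.left)) (resM N (h i))
          (fun n => resM_comp N (h i) k.left n) z₁,
        bcLift_mapN (resM M (h i ≫ k.left)) (resM N (h i ≫ k.left)) T (appM φ (W i))
          (fun m => (appM_resM φ (h i ≫ k.left) m).symm) zM, ht]
    show mapTens (resA k.left) (resA (h i)) _ (resA (h i ≫ k.left)) (fun _ => rfl) (mapN (resA k.left) q z₁) = 0
    rw [mapTens_mapN, key]
    exact mapN_mapN_eq_zero _ (LinearMap.range_mkQ_comp T) zM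
  · intro V _ k s
    obtain ⟨n, W, h, hW, hcov, hl⟩ := exists_affine_cover (imageSieve_mem_of_epi π (X := V.left) s)
    refine ⟨n, fun i => Over.mk (h i ≫ V.hom), fun i => Over.homMk (h i) rfl, hW, hcov, fun i => ?_⟩
    haveI := hW i
    obtain ⟨t, ht⟩ := hl i
    obtain ⟨z₁, rfl⟩ := (hN (h i ≫ k.left)).2 t
    let h' : Over.mk (h i ≫ V.hom) ⟶ V := Over.homMk (h i) rfl
    have e := bcLift_mapN (resM N (h' ≫ k).left) (slO (Q.over E) φ₀ (h' ≫ k)) q (appM π (Over.mk (h i ≫ V.hom)).left)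
      (fun n => (appM_resM π (h' ≫ k).left n).symm) z₁
    exact ⟨mapN (resA (h i ≫ k.left)) q z₁, e.trans ht⟩

/-- Quasi-coherence of cokernels. -/
theorem hasBC_cokernel {M N : ModEt X} (hM : HasBC M) (hN : HasBC N) (φ : M ⟶ N) : HasBC (cokernel φ) :=
  hasBC_of_cokernel hM hN φ (cokernel.π φ) (cokernel.condition φ) fun V _ y hy => by
    obtain ⟨κ, hκ⟩ := exists_preimage_kernel (cokernel.π φ) hy
    obtain ⟨n, W, h, hW, hcov, hl⟩ := exists_affine_cover (imageSieve_mem_of_epi (Abelian.factorThruImage φ) κ)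
    refine ⟨n, W, h, hW, hcov, fun i => ?_⟩
    obtain ⟨t, ht⟩ := hl i
    refine ⟨t, ?_⟩
    have e : appM φ (W i) t = appM (kernel.ι (cokernel.π φ)) (W i) (appM (Abelian.factorThruImage φ) (W i) t) :=
      (congrArg (fun k : M ⟶ N => appM k (W i) t) (Abelian.image.fac φ)).symm
    rw [e, ← hκ, ← appM_resM]
    exact congrArg _ ht

theorem isBC_qVia_of_hasBC {M : ModEt X} (hM : HasBC M) {E E' Z : EtOver X} [IsAffine E.obj.left.left]
    [IsAffine E'.obj.left.left] [IsAffine Z.obj.left.left] (g : E' ⟶ E) (p : Z ⟶ E) :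
    IsBC (qVia M g p (EtOver.pullbackFst g p) (EtOver.pullbackSnd g p) (EtOver.pullback_condition g p).symm) :=
  isBC_of_isPushout (resA p) (resA (EtOver.pullbackSnd g p)) (resA (EtOver.pullbackFst g p))
    (isPushout_resA g p) (N := SecVia M p) (W := SecVia M (EtOver.pullbackFst g p)) (fun _ _ => rfl) (fun _ _ => rfl)
    (resM M (EtOver.pullbackSnd g p) : SecVia M p →ₛₗ[resA (EtOver.pullbackSnd g p)] SecVia M (EtOver.pullbackFst g p))
    _ (fun _ => rfl) (hM (EtOver.pullbackSnd g p))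

/-- The first Cech differential. -/
noncomputable def cechD (M : ModEt X) {E : EtOver X} {ι κ : Type} {Z : ι → EtOver X} {D : κ → EtOver X}
    (a : ∀ k, Z k ⟶ E) (d : ∀ l, D l ⟶ E) (i₁ i₂ : κ → ι) (u₁ : ∀ l, D l ⟶ Z (i₁ l))
    (hu₁ : ∀ l, u₁ l ≫ a (i₁ l) = d l) (u₂ : ∀ l, D l ⟶ Z (i₂ l)) (hu₂ : ∀ l, u₂ l ≫ a (i₂ l) = d l) :
    (∀ k, SecVia M (a k)) →ₗ[fnA E] (∀ l, SecVia M (d l)) where
  toFun y l := resVia M _ _ (u₂ l) (hu₂ l) (y (i₂ l)) - resVia M _ _ (u₁ l) (hu₁ l) (y (i₁ l))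
  map_add' x y := funext fun l => by simp only [Pi.add_apply, map_add]; abel
  map_smul' r x := funext fun l => by simp only [Pi.smul_apply, map_smul, smul_sub, RingHom.id_apply]

theorem cechD_apply (M : ModEt X) {E : EtOver X} {ι κ : Type} {Z : ι → EtOver X} {D : κ → EtOver X}
    (a : ∀ k, Z k ⟶ E) (d : ∀ l, D l ⟶ E) (i₁ i₂ : κ → ι) (u₁ : ∀ l, D l ⟶ Z (i₁ l))
    (hu₁ : ∀ l, u₁ l ≫ a (i₁ l) = d l) (u₂ : ∀ l, D l ⟶ Z (i₂ l)) (hu₂ : ∀ l, u₂ l ≫ a (i₂ l) = d l)
    (y : ∀ k, SecVia M (a k)) (l : κ) :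
    (cechD M a d i₁ i₂ u₁ hu₁ u₂ hu₂ y l : sectModEt M (D l)) =
      resM M (u₂ l) (y (i₂ l)) - resM M (u₁ l) (y (i₁ l)) := rfl

/-- Restriction of families of sections along base change. -/
noncomputable def qPi (M : ModEt X) {E E' : EtOver X} (g : E' ⟶ E) {κ : Type} {Z Z' : κ → EtOver X}
    (p : ∀ k, Z k ⟶ E) (p' : ∀ k, Z' k ⟶ E') (s : ∀ k, Z' k ⟶ Z k) (hs : ∀ k, s k ≫ p k = p' k ≫ g) :
    (∀ k, SecVia M (p k)) →ₛₗ[resA g] (∀ k, SecVia M (p' k)) where
  toFun y k := qVia M g (p k) (p' k) (s k) (hs k) (y k)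
  map_add' x y := funext fun k => map_add _ _ _
  map_smul' r x := funext fun k => LinearMap.map_smulₛₗ _ r (x k)

theorem qPi_apply (M : ModEt X) {E E' : EtOver X} (g : E' ⟶ E) {κ : Type} {Z Z' : κ → EtOver X}
    (p : ∀ k, Z k ⟶ E) (p' : ∀ k, Z' k ⟶ E') (s : ∀ k, Z' k ⟶ Z k) (hs : ∀ k, s k ≫ p k = p' k ≫ g)
    (y : ∀ k, SecVia M (p k)) (k : κ) :
    (qPi M g p p' s hs y k : sectModEt M (Z' k)) = resM M (s k) (y k) := rfl

theorem isBC_qPi {M : ModEt X} (hM : HasBC M) {E E' : EtOver X} [IsAffine E.obj.left.left]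
    [IsAffine E'.obj.left.left] (g : E' ⟶ E) {κ : Type} [Finite κ] {Z : κ → EtOver X}
    [∀ k, IsAffine (Z k).obj.left.left] (p : ∀ k, Z k ⟶ E) :
    IsBC (qPi M g p (fun k => EtOver.pullbackFst g (p k)) (fun k => EtOver.pullbackSnd g (p k))
      (fun k => (EtOver.pullback_condition g (p k)).symm)) :=
  isBC_pi _ (fun k => isBC_qVia_of_hasBC hM g (p k)) _ fun _ _ => rfl

theorem cechD_qPi (M : ModEt X) {E E' : EtOver X} (g : E' ⟶ E) {ι κ : Type} {Z : ι → EtOver X} {D : κ → EtOver X}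
    (a : ∀ k, Z k ⟶ E) (d : ∀ l, D l ⟶ E) (i₁ i₂ : κ → ι) (u₁ : ∀ l, D l ⟶ Z (i₁ l))
    (hu₁ : ∀ l, u₁ l ≫ a (i₁ l) = d l) (u₂ : ∀ l, D l ⟶ Z (i₂ l)) (hu₂ : ∀ l, u₂ l ≫ a (i₂ l) = d l)
    {Z' : ι → EtOver X} {D' : κ → EtOver X} (a' : ∀ k, Z' k ⟶ E') (d' : ∀ l, D' l ⟶ E')
    (v₁ : ∀ l, D' l ⟶ Z' (i₁ l)) (hv₁ : ∀ l, v₁ l ≫ a' (i₁ l) = d' l) (v₂ : ∀ l, D' l ⟶ Z' (i₂ l))
    (hv₂ : ∀ l, v₂ l ≫ a' (i₂ l) = d' l) (s : ∀ k, Z' k ⟶ Z k) (hs : ∀ k, s k ≫ a k = a' k ≫ g)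
    (t : ∀ l, D' l ⟶ D l) (ht : ∀ l, t l ≫ d l = d' l ≫ g)
    (c₁ : ∀ l, v₁ l ≫ s (i₁ l) = t l ≫ u₁ l) (c₂ : ∀ l, v₂ l ≫ s (i₂ l) = t l ≫ u₂ l) (y : ∀ k, SecVia M (a k)) :
    qPi M g d d' t ht (cechD M a d i₁ i₂ u₁ hu₁ u₂ hu₂ y) =
      cechD M a' d' i₁ i₂ v₁ hv₁ v₂ hv₂ (qPi M g a a' s hs y) := funext fun l => by
  show (qPi M g d d' t ht (cechD M a d i₁ i₂ u₁ hu₁ u₂ hu₂ y) l : sectModEt M (D' l)) =
    (cechD M a' d' i₁ i₂ v₁ hv₁ v₂ hv₂ (qPi M g a a' s hs y) l : sectModEt M (D' l))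
  rw [qPi_apply, cechD_apply, cechD_apply, map_sub, qPi_apply, qPi_apply, ← resM_comp, ← resM_comp, ← resM_comp,
    ← resM_comp, c₁, c₂]

/-- The first Cech cohomology of a module with base change vanishes on finite affine covers of affine objects. -/
theorem exists_coboundary {M : ModEt X} (hM : HasBC M) {E : EtOver X} [IsAffine E.obj.left.left] {n : ℕ}
    {Z : Fin n → EtOver X} [∀ k, IsAffine (Z k).obj.left.left] (a : ∀ k, Z k ⟶ E) (hcov : JointlySurj a)
    (c : ∀ k l, sectModEt M (EtOver.pullbackObj (a k) (a l)))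
    (hc : ∀ (k l m : Fin n) {T : EtOver X} (p : T ⟶ EtOver.pullbackObj (a k) (a l))
      (q : T ⟶ EtOver.pullbackObj (a l) (a m)) (r : T ⟶ EtOver.pullbackObj (a k) (a m)),
      r ≫ EtOver.pullbackFst _ _ = p ≫ EtOver.pullbackFst _ _ →
      q ≫ EtOver.pullbackFst _ _ = p ≫ EtOver.pullbackSnd _ _ →
      r ≫ EtOver.pullbackSnd _ _ = q ≫ EtOver.pullbackSnd _ _ →
      resM M r (c k m) = resM M p (c k l) + resM M q (c l m)) :
    ∃ x : ∀ k, sectModEt M (Z k), ∀ k l,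
      resM M (EtOver.pullbackSnd (a k) (a l)) (x l) - resM M (EtOver.pullbackFst (a k) (a l)) (x k) = c k l := by
  let d : ∀ kl : Fin n × Fin n, EtOver.pullbackObj (a kl.1) (a kl.2) ⟶ E :=
    fun kl => EtOver.pullbackFst (a kl.1) (a kl.2) ≫ a kl.1
  have w₂ : ∀ kl : Fin n × Fin n, EtOver.pullbackSnd (a kl.1) (a kl.2) ≫ a kl.2 = d kl := fun kl =>
    (EtOver.pullback_condition (a kl.1) (a kl.2)).symm
  have : ∀ kl : Fin n × Fin n, IsAffine (EtOver.pullbackObj (a kl.1) (a kl.2)).obj.left.left := fun kl =>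
    isAffine_pullbackObj (a kl.1) (a kl.2)
  let δ := cechD M a d Prod.fst Prod.snd (fun kl => EtOver.pullbackFst (a kl.1) (a kl.2)) (fun _ => rfl)
    (fun kl => EtOver.pullbackSnd (a kl.1) (a kl.2)) w₂
  let cc : ∀ kl, SecVia M (d kl) := fun kl => c kl.1 kl.2
  suffices h : cc ∈ LinearMap.range δ by
    obtain ⟨x, hx⟩ := h
    exact ⟨x, fun k l => congrFun hx (k, l)⟩
  rw [← Submodule.Quotient.mk_eq_zero]
  let : ∀ i, Algebra (fnA E) (fnA (Z i)) := fun i => (resA (a i)).toAlgebra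
  have : ∀ i, Module.Flat (fnA E) (fnA (Z i)) := fun i => flat_resA (a i)
  refine eq_zero_of_forall_one_tmul (B := fun i => fnA (Z i)) (fun m hm => exists_prime_over hcov m) fun i => ?_
  -- after base change along `a i` the cocycle is the coboundary of the family `c i k`
  let g := a i
  let a' : ∀ k, EtOver.pullbackObj g (a k) ⟶ Z i := fun k => EtOver.pullbackFst g (a k)
  let d' : ∀ kl, EtOver.pullbackObj g (d kl) ⟶ Z i := fun kl => EtOver.pullbackFst g (d kl)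
  have e₁ : ∀ kl : Fin n × Fin n, ∃ u : EtOver.pullbackObj g (d kl) ⟶ EtOver.pullbackObj g (a kl.1),
      u ≫ a' kl.1 = d' kl ∧ u ≫ EtOver.pullbackSnd g (a kl.1) =
        EtOver.pullbackSnd g (d kl) ≫ EtOver.pullbackFst (a kl.1) (a kl.2) := fun kl => by
    have w : d' kl ≫ g = (EtOver.pullbackSnd g (d kl) ≫ EtOver.pullbackFst (a kl.1) (a kl.2)) ≫ a kl.1 := by
      rw [Category.assoc]; exact EtOver.pullback_condition g (d kl)
    exact ⟨(EtOver.isPullback g (a kl.1)).lift _ _ w, (EtOver.isPullback g (a kl.1)).lift_fst _ _ w,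
      (EtOver.isPullback g (a kl.1)).lift_snd _ _ w⟩
  have e₂ : ∀ kl : Fin n × Fin n, ∃ u : EtOver.pullbackObj g (d kl) ⟶ EtOver.pullbackObj g (a kl.2),
      u ≫ a' kl.2 = d' kl ∧ u ≫ EtOver.pullbackSnd g (a kl.2) =
        EtOver.pullbackSnd g (d kl) ≫ EtOver.pullbackSnd (a kl.1) (a kl.2) := fun kl => by
    have w : d' kl ≫ g = (EtOver.pullbackSnd g (d kl) ≫ EtOver.pullbackSnd (a kl.1) (a kl.2)) ≫ a kl.2 := by
      rw [Category.assoc, w₂ kl]; exact EtOver.pullback_condition g (d kl)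
    exact ⟨(EtOver.isPullback g (a kl.2)).lift _ _ w, (EtOver.isPullback g (a kl.2)).lift_fst _ _ w,
      (EtOver.isPullback g (a kl.2)).lift_snd _ _ w⟩
  choose u₁ hu₁ hu₁' using e₁
  choose u₂ hu₂ hu₂' using e₂
  let qq := qPi M g a a' (fun k => EtOver.pullbackSnd g (a k)) fun k => (EtOver.pullback_condition g (a k)).symm
  let qq₂ := qPi M g d d' (fun kl => EtOver.pullbackSnd g (d kl)) fun kl => (EtOver.pullback_condition g (d kl)).symm
  let δ' := cechD M a' d' Prod.fst Prod.snd u₁ hu₁ u₂ hu₂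
  have hδ : ∀ y, qq₂ (δ y) = δ' (qq y) := fun y => cechD_qPi M g a d _ _ _ _ _ _ a' d' u₁ hu₁ u₂ hu₂ _ _ _ _
    hu₁' hu₂' y
  obtain ⟨z, hz⟩ := (isBC_qPi hM g a).2 (fun k => c i k)
  have key : mapN (resA g) δ z = (1 : fnA (Z i)) ⊗ₜ[fnA E] cc := by
    refine (isBC_qPi hM g d).1 ?_
    refine (bcLift_mapN qq qq₂ δ δ' hδ z).trans ((congrArg δ' hz).trans ?_)
    refine Eq.trans ?_ ((bcLift_tmul qq₂ 1 cc).trans (one_smul _ _)).symm
    refine funext fun kl => ?_
    show (δ' (fun k => c i k) kl : sectModEt M _) = (qq₂ cc kl : sectModEt M _)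
    rw [cechD_apply, qPi_apply]
    exact sub_eq_of_eq_add' (hc i kl.1 kl.2 (u₁ kl) (EtOver.pullbackSnd g (d kl)) (u₂ kl)
      ((hu₂ kl).trans (hu₁ kl).symm) (hu₁' kl).symm (hu₂' kl))
  show (LinearMap.lTensor (fnA (Z i)) (LinearMap.range δ).mkQ) (1 ⊗ₜ cc) = 0
  rw [← key]
  exact mapN_mapN_eq_zero (resA g) (LinearMap.range_mkQ_comp δ) z

/-- An extension by a module with base change is surjective on affine sections. -/
theorem appM_surjective_of_shortExact {C : ShortComplex (ModEt X)} (hC : C.ShortExact) (h₁ : HasBC C.X₁)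
    (E : EtOver X) [IsAffine E.obj.left.left] : Function.Surjective (appM C.g E) := by
  haveI := hC.epi_g
  haveI := hC.mono_f
  intro s
  obtain ⟨n, Z, a, hZ, hcov, hl⟩ := exists_affine_cover (imageSieve_mem_of_epi C.g (X := E) s)
  have hl' : ∀ k, ∃ t : sectModEt C.X₂ (Z k), appM C.g (Z k) t = resM C.X₃ (a k) s := hl
  choose t ht' using hl' 
  have hdiff : ∀ k l, ∃ c, appM C.f (EtOver.pullbackObj (a k) (a l)) c =
      resM C.X₂ (EtOver.pullbackSnd (a k) (a l)) (t l) - resM C.X₂ (EtOver.pullbackFst (a k) (a l)) (t k) :=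
    fun k l => exists_preimage_of_shortExact hC (by
      rw [map_sub, appM_resM, appM_resM, ht', ht', ← resM_comp, ← resM_comp, EtOver.pullback_condition, sub_self])
  choose c hc using hdiff
  obtain ⟨x, hx⟩ := exists_coboundary h₁ a hcov c fun k l m T p q r h1 h2 h3 => by
    apply appM_injective_of_mono C.f T
    rw [map_add, appM_resM, appM_resM, appM_resM, hc, hc, hc]
    simp only [map_sub, ← resM_comp]
    rw [h1, h2, h3]
    abel
  obtain ⟨s', hs'⟩ := exists_resM_eq C.X₂ hcov (fun k => t k - appM C.f (Z k) (x k)) fun k l => by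
    rw [map_sub, map_sub, ← appM_resM, ← appM_resM, eq_comm, ← sub_eq_zero, sub_sub_sub_comm, ← hc, ← map_sub, hx,
      sub_self]
  refine ⟨s', resM_ext C.X₃ hcov fun k => ?_⟩
  rw [← appM_resM, hs', map_sub, ht', appM_comp_eq_zero C.zero, sub_zero]

end Groth.ModEtQCoh
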