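import Groth.Agent.ModEtQCoh.Charts
import Groth.Agent.AlgSpBasic.AffineMor
import Groth.Prelude.Def_AlgSpOX2
import Groth.Prelude.Def_AlgSp3

/-!
# Weakly associated points of direct images along affine morphisms
-/

set_option autoImplicit false
set_option backward.isDefEq.respectTransparency.types false
universe u

open CategoryTheory CategoryTheory.Limits AlgebraicGeometry Opposite AlgSp

namespace Groth.ModEtQCoh

variable {S : Scheme.{u}} {X Y : Sp S} {f : X ⟶ Y} (hf : Representable f)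

theorem isAffine_bc (haff : RepWith @IsAffineHom f) (E : EtOver Y) [IsAffine E.obj.left.left] :
    IsAffine (EtOver.bcObj hf E).obj.left.left := by
  have : IsAffineHom (EtOver.bcπ hf E).left :=
    haff.property E.obj.hom (EtOver.bcObj hf E).obj.hom (EtOver.bcπ hf E) (EtOver.isPullback_bcObj hf E)
  exact isAffine_of_isAffineHom (EtOver.bcπ hf E).left

/-- A section of the direct image as a section of the module over the base change. -/
abbrev pushSect (M : ModEt X) (E : EtOver Y) (s : sectModEt ((pushModEt hf).obj M) E) :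
    sectModEt M (EtOver.bcObj hf E) := s

theorem annSect_push (M : ModEt X) (E : EtOver Y) (s : sectModEt ((pushModEt hf).obj M) E) :
    annSect s = (annSect (pushSect hf M E s)).comap (EtOver.bcπ hf E).left.appTop.hom := by
  ext a
  rw [Ideal.mem_comap, mem_annSect_iff, mem_annSect_iff]
  exact Iff.rfl

theorem comap_primeAtPt_scheme {U V : Scheme.{u}} (g : U ⟶ V) (u : U) :
    (primeAtPt U u).comap g.appTop.hom = primeAtPt V (g u) := by
  ext a
  show U.presheaf.Γgerm u (g.appTop a) ∈ IsLocalRing.maximalIdeal _ ↔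
    V.presheaf.Γgerm (g u) a ∈ IsLocalRing.maximalIdeal _
  rw [show U.presheaf.Γgerm u (g.appTop a) = g.stalkMap u (V.presheaf.Γgerm (g u) a) from
    (Scheme.Hom.germ_stalkMap_apply g ⊤ u trivial a).symm]
  simp only [IsLocalRing.mem_maximalIdeal, mem_nonunits_iff, isUnit_map_iff]

theorem exists_point_of_prime (U : Scheme.{u}) [IsAffine U] (P : Ideal Γ(U, ⊤)) [hP : P.IsPrime] :
    ∃ u : U, primeAtPt U u = P :=
  ⟨(isAffineOpen_top U).fromSpec ⟨P, hP⟩, Groth.AlgSpCartier.primeAtPt_fromSpec U ⟨P, hP⟩⟩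

theorem primeAtPt_injective (U : Scheme.{u}) [IsAffine U] : Function.Injective (primeAtPt U) := by
  intro u v h
  have hs : ∀ w : U, ∃ P, (isAffineOpen_top U).fromSpec P = w := fun w =>
    ⟨_, (isAffineOpen_top U).fromSpec_primeIdealOf ⟨w, trivial⟩⟩
  obtain ⟨P, rfl⟩ := hs u
  obtain ⟨Q, rfl⟩ := hs v
  rw [Groth.AlgSpCartier.primeAtPt_fromSpec, Groth.AlgSpCartier.primeAtPt_fromSpec] at h
  exact congrArg _ (PrimeSpectrum.ext h)

theorem map_ofPt_bc (E : EtOver Y) (v : (EtOver.bcObj hf E).obj.left.left) :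
    Points.map f (Points.ofPt (EtOver.bcObj hf E).obj.hom v) =
      Points.ofPt E.obj.hom ((EtOver.bcπ hf E).left v) :=
  (Groth.AlgSpBasic.map_eq_ofPt_iff (EtOver.isPullback_bcObj hf E) _ _).2 ⟨v, rfl, rfl⟩

/-- Weakly associated points of a direct image come from weakly associated points. -/
theorem weakAssEt_push_subset (haff : RepWith @IsAffineHom f) (M : ModEt X) :
    WeakAssEt ((pushModEt hf).obj M) ⊆ Points.map f '' WeakAssEt M := by
  rintro y ⟨E, hE, u, rfl, s, hs⟩
  have hbc := isAffine_bc hf haff E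
  rw [annSect_push hf M E s] at hs
  obtain ⟨Q, hQ, hQc⟩ := Ideal.exists_minimalPrimes_comap_eq _ _ hs
  have : Q.IsPrime := hQ.1.1
  obtain ⟨v, hv⟩ := exists_point_of_prime (EtOver.bcObj hf E).obj.left.left Q
  refine ⟨_, ⟨EtOver.bcObj hf E, hbc, v, rfl, pushSect hf M E s, hv.symm ▸ hQ⟩, ?_⟩
  rw [map_ofPt_bc]
  refine congrArg _ (primeAtPt_injective E.obj.left.left ?_)
  rw [← comap_primeAtPt_scheme, hv, hQc]

/-- Weakly associated points map to those of the direct image when this holds on charts. -/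
theorem image_weakAssEt_subset (haff : RepWith @IsAffineHom f) (M : ModEt X) [M.IsQuasicoherent]
    (hY : IsAlgSpace Y)
    (key : ∀ (E : EtOver Y) [IsAffine E.obj.left.left] [IsAffine (EtOver.bcObj hf E).obj.left.left]
      (v : (EtOver.bcObj hf E).obj.left.left), IsWeakAssOn M (EtOver.bcObj hf E) v →
      IsWeakAssOn ((pushModEt hf).obj M) E ((EtOver.bcπ hf E).left v)) :
    Points.map f '' WeakAssEt M ⊆ WeakAssEt ((pushModEt hf).obj M) := by
  rintro _ ⟨x, hx, rfl⟩
  obtain ⟨U, p, hp, hps⟩ := hY.atlas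
  obtain ⟨u₀, hu₀⟩ := Groth.AlgSpBasic.surjective_ofPt_of_repWith hps (Points.map f x)
  obtain ⟨E, k, u, hE, hku⟩ := exists_affine_chart_of_ofPt (EtOver.mk p hp) u₀
  have hxu : Points.map f x = Points.ofPt E.obj.hom u := by
    rw [← EtOver.w k, Groth.AlgSpBasic.ofPt_comp_yon, hku]
    exact hu₀.symm
  obtain ⟨v, hv, hvu⟩ := (Groth.AlgSpBasic.map_eq_ofPt_iff (EtOver.isPullback_bcObj hf E) x u).1 hxu
  have hbc := isAffine_bc hf haff E
  have hw : IsWeakAssOn M (EtOver.bcObj hf E) v :=
    (mem_weakAssEt_iff M x ⟨EtOver.bcObj hf E, v, hv⟩).1 hx _ v hv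
  exact ⟨E, hE, u, hxu.symm, hvu ▸ key E v hw⟩

theorem isWeakAssOn_push_of_noetherian (M : ModEt X) (E : EtOver Y) [IsAffine E.obj.left.left]
    [IsAffine (EtOver.bcObj hf E).obj.left.left] [IsLocallyNoetherian (EtOver.bcObj hf E).obj.left.left]
    (v : (EtOver.bcObj hf E).obj.left.left) (h : IsWeakAssOn M (EtOver.bcObj hf E) v) :
    IsWeakAssOn ((pushModEt hf).obj M) E ((EtOver.bcπ hf E).left v) := by
  have : IsNoetherianRing (fnA (EtOver.bcObj hf E)) :=
    IsLocallyNoetherian.component_noetherian ⟨⊤, isAffineOpen_top _⟩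
  rw [isWeakAssOn_iff] at h
  obtain ⟨-, x, hx⟩ := Groth.Calg5.mem_ass_of_fg_of_mem_weakAss (IsNoetherian.noetherian _) h
  refine ⟨(x : sectModEt ((pushModEt hf).obj M) E), ?_⟩
  have he : annSect (pushSect hf M E x) = primeAtPt (EtOver.bcObj hf E).obj.left.left v := by
    rw [hx]; ext a
    rw [mem_annSect_iff, Submodule.mem_annihilator_span_singleton]; rfl
  rw [annSect_push hf M E x, he, comap_primeAtPt_scheme, Ideal.minimalPrimes_eq_subsingleton_self]
  rfl

theorem isWeakAssOn_push_of_finite (M : ModEt X) (E : EtOver Y) [IsAffine E.obj.left.left]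
    [IsAffine (EtOver.bcObj hf E).obj.left.left] (hfin : IsFinite (EtOver.bcπ hf E).left)
    (v : (EtOver.bcObj hf E).obj.left.left) (h : IsWeakAssOn M (EtOver.bcObj hf E) v) :
    IsWeakAssOn ((pushModEt hf).obj M) E ((EtOver.bcπ hf E).left v) := by
  rw [isWeakAssOn_iff] at h
  let φ : fnA E →+* fnA (EtOver.bcObj hf E) := (EtOver.bcπ hf E).left.appTop.hom
  let N := sectModEt M (EtOver.bcObj hf E)
  letI : Algebra (fnA E) (fnA (EtOver.bcObj hf E)) := φ.toAlgebra
  letI : Module (fnA E) N := Module.compHom N φ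
  have : IsScalarTower (fnA E) (fnA (EtOver.bcObj hf E)) N :=
    IsScalarTower.of_algebraMap_smul fun _ _ => rfl
  have : Module.Finite (fnA E) (fnA (EtOver.bcObj hf E)) :=
    hfin.finite_app ⊤ (isAffineOpen_top _)
  have : (primeAtPt (EtOver.bcObj hf E).obj.left.left v).LiesOver
      (primeAtPt E.obj.left.left ((EtOver.bcπ hf E).left v)) :=
    ⟨(comap_primeAtPt_scheme (EtOver.bcπ hf E).left v).symm⟩
  obtain ⟨s, hs⟩ := WeakAssFinite.mem_weakAss_of_finite (N := N) (p := primeAtPt E.obj.left.left ((EtOver.bcπ hf E).left v)) h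
  refine ⟨(s : sectModEt ((pushModEt hf).obj M) E), ?_⟩
  convert hs using 2
  ext a
  rw [annSect_push, Ideal.mem_comap, mem_annSect_iff, Submodule.mem_annihilator_span_singleton]
  rfl

end Groth.ModEtQCoh
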