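import Groth.Agent.ModEtQCoh.Criterion
import Groth.Agent.ModEtQCoh.Exact
import Groth.Agent.ModEtQCoh.Push
import Groth.Agent.AlgSpBasic.QComp
import Groth.Agent.AlgSpBasic.DiagBaseChange
import Groth.Prelude.Def_AlgSp4
import Mathlib.AlgebraicGeometry.Morphisms.QuasiSeparated

/-!
# Direct images along quasi-compact quasi-separated representable morphisms preserve quasi-coherence
-/

set_option autoImplicit false
set_option backward.isDefEq.respectTransparency.types false
set_option linter.style.haveILetI false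
universe u

open CategoryTheory CategoryTheory.Limits AlgebraicGeometry Opposite AlgSp

namespace Groth.ModEtQCoh

variable {S : Scheme.{u}} {X : Sp S}

/-- A compact object of the site has a finite cover by affine objects. -/
theorem exists_affine_cover_of_compact (W : EtOver X) [CompactSpace W.obj.left.left] :
    ∃ (n : ℕ) (Z : Fin n → EtOver X) (a : ∀ i, Z i ⟶ W), (∀ i, IsAffine (Z i).obj.left.left) ∧ JointlySurj a := by
  choose Z h z hZ hx using exists_affine_chart_of_ofPt W
  obtain ⟨t, ht⟩ := (isCompact_univ : IsCompact (Set.univ : Set W.obj.left.left)).elim_finite_subcover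
    (fun x => Set.range (h x).hom.left.left)
    (fun x => haveI := EtOver.etale_left (h x); (h x).hom.left.left.isOpenMap.isOpen_range)
    (fun x _ => Set.mem_iUnion.2 ⟨x, z x, hx x⟩)
  refine ⟨t.card, fun j => Z (t.equivFin.symm j), fun j => h _, fun j => hZ _, fun x => ?_⟩
  obtain ⟨y, hy, hxy⟩ := Set.mem_iUnion₂.1 (ht (Set.mem_univ x))
  exact ⟨t.equivFin ⟨y, hy⟩, (congrArg (fun w : t => x ∈ Set.range (h w.1).hom.left.left)
    (t.equivFin.symm_apply_apply ⟨y, hy⟩)).mpr hxy⟩

section SecRing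

variable (M : ModEt X) {A A' : Type u} [CommRing A] [CommRing A']

/-- Sections over `T` as a module over a ring mapping to the functions on `T`. -/
def SecRing (T : EtOver X) (_φ : A →+* fnA T) : Type (u + 1) := sectModEt M T

noncomputable instance (T : EtOver X) (φ : A →+* fnA T) : AddCommGroup (SecRing M T φ) :=
  inferInstanceAs (AddCommGroup (sectModEt M T))

noncomputable instance secRingFn (T : EtOver X) (φ : A →+* fnA T) : Module (fnA T) (SecRing M T φ) :=
  inferInstanceAs (Module (fnA T) (sectModEt M T))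

noncomputable instance secRingModule (T : EtOver X) (φ : A →+* fnA T) : Module A (SecRing M T φ) :=
  Module.compHom (SecRing M T φ) φ

/-- Restriction, linear over a ring mapping compatibly to the functions. -/
noncomputable def resRing {T T' : EtOver X} (φ : A →+* fnA T) (φ' : A →+* fnA T') (k : T' ⟶ T)
    (hk : (resA k).comp φ = φ') : SecRing M T φ →ₗ[A] SecRing M T' φ' where
  toFun s := resM M k s
  map_add' := map_add (resM M k)
  map_smul' a s := by
    subst hk
    exact (resM M k).map_smulₛₗ (φ a) s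

/-- Restriction, semilinear over a compatible map of rings. -/
noncomputable def qRing {T T' : EtOver X} (fA : A →+* A') (φ : A →+* fnA T) (φ' : A' →+* fnA T') (k : T' ⟶ T)
    (hk : (resA k).comp φ = φ'.comp fA) : SecRing M T φ →ₛₗ[fA] SecRing M T' φ' where
  toFun s := resM M k s
  map_add' := map_add (resM M k)
  map_smul' a s := by
    refine ((resM M k).map_smulₛₗ (φ a) s).trans ?_
    show (resA k (φ a)) • resM M k s = φ' (fA a) • resM M k s
    rw [show resA k (φ a) = φ' (fA a) from RingHom.congr_fun hk a]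

/-- Restriction along a family. -/
noncomputable def resFam {W : EtOver X} (φ : A →+* fnA W) {ι κ : Type} {Z : ι → EtOver X} {D : κ → EtOver X}
    (a : ∀ i, Z i ⟶ W) (d : ∀ l, D l ⟶ W) (j : κ → ι) (k : ∀ l, D l ⟶ Z (j l)) (hk : ∀ l, k l ≫ a (j l) = d l) :
    (∀ i, SecRing M (Z i) ((resA (a i)).comp φ)) →ₗ[A] (∀ l, SecRing M (D l) ((resA (d l)).comp φ)) :=
  LinearMap.pi fun l => (resRing M _ _ (k l) (by rw [← hk l]; rfl)).comp (LinearMap.proj (j l))

theorem resFam_apply {W : EtOver X} (φ : A →+* fnA W) {ι κ : Type} {Z : ι → EtOver X} {D : κ → EtOver X}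
    (a : ∀ i, Z i ⟶ W) (d : ∀ l, D l ⟶ W) (j : κ → ι) (k : ∀ l, D l ⟶ Z (j l)) (hk : ∀ l, k l ≫ a (j l) = d l)
    (y : ∀ i, SecRing M (Z i) ((resA (a i)).comp φ)) (l : κ) :
    (resFam M φ a d j k hk y l : sectModEt M (D l)) = resM M (k l) (y (j l)) := rfl

/-- Semilinear restriction to a base change. -/
noncomputable def qPart {W W' : EtOver X} (fA : A →+* A') (φ : A →+* fnA W) (φ' : A' →+* fnA W') (h : W' ⟶ W)
    (hφ : (resA h).comp φ = φ'.comp fA) {Z : EtOver X} (a : Z ⟶ W) :
    SecRing M Z ((resA a).comp φ) →ₛₗ[fA]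
      SecRing M (EtOver.pullbackObj h a) ((resA (EtOver.pullbackFst h a)).comp φ') :=
  qRing M fA _ _ (EtOver.pullbackSnd h a) (by
    rw [RingHom.comp_assoc, ← hφ, ← RingHom.comp_assoc, ← RingHom.comp_assoc, ← resA_comp, ← resA_comp,
      EtOver.pullback_condition])

/-- Semilinear restriction of families along a base change. -/
noncomputable def qFam {W W' : EtOver X} (fA : A →+* A') (φ : A →+* fnA W) (φ' : A' →+* fnA W') (h : W' ⟶ W)
    (hφ : (resA h).comp φ = φ'.comp fA) {ι : Type} {Z : ι → EtOver X} (a : ∀ i, Z i ⟶ W) :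
    (∀ i, SecRing M (Z i) ((resA (a i)).comp φ)) →ₛₗ[fA]
      (∀ i, SecRing M (EtOver.pullbackObj h (a i)) ((resA (EtOver.pullbackFst h (a i))).comp φ')) where
  toFun y i := qPart M fA φ φ' h hφ (a i) (y i)
  map_add' x y := funext fun i => map_add _ _ _
  map_smul' r x := funext fun i => LinearMap.map_smulₛₗ _ r (x i)

theorem isBC_qFam [M.IsQuasicoherent] {W W' : EtOver X} (fA : A →+* A') (φ : A →+* fnA W) (φ' : A' →+* fnA W')
    (h : W' ⟶ W) (hφ : (resA h).comp φ = φ'.comp fA)
    (hbase : ∀ (Z : EtOver X) [IsAffine Z.obj.left.left] (a : Z ⟶ W),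
      IsAffine (EtOver.pullbackObj h a).obj.left.left ∧
        IsPushout (CommRingCat.ofHom fA) (CommRingCat.ofHom ((resA a).comp φ))
          (CommRingCat.ofHom ((resA (EtOver.pullbackFst h a)).comp φ')) (CommRingCat.ofHom (resA (EtOver.pullbackSnd h a))))
    {ι : Type} [Finite ι] {Z : ι → EtOver X} [∀ i, IsAffine (Z i).obj.left.left] (a : ∀ i, Z i ⟶ W) :
    IsBC (qFam M fA φ φ' h hφ a) := by
  refine isBC_pi (fun i => qPart M fA φ φ' h hφ (a i)) (fun i => ?_) _ fun _ _ => rfl
  obtain ⟨hP, hpo⟩ := hbase (Z i) (a i)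
  refine isBC_of_isPushout ((resA (a i)).comp φ) (resA (EtOver.pullbackSnd h (a i))) _ hpo
    (N := SecRing M (Z i) ((resA (a i)).comp φ))
    (W := SecRing M (EtOver.pullbackObj h (a i)) ((resA (EtOver.pullbackFst h (a i))).comp φ'))
    (fun _ _ => rfl) (fun _ _ => rfl)
    (resM M (EtOver.pullbackSnd h (a i)) : SecRing M (Z i) ((resA (a i)).comp φ) →ₛₗ[resA (EtOver.pullbackSnd h (a i))]
      SecRing M (EtOver.pullbackObj h (a i)) ((resA (EtOver.pullbackFst h (a i))).comp φ'))
    _ (fun _ => rfl) (isBC_resM M _)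

/-- Flat base change for sections of a quasi-coherent module over a quasi-compact quasi-separated object. -/
theorem isBC_qRing [M.IsQuasicoherent] {W W' : EtOver X} [CompactSpace W.obj.left.left]
    [QuasiSeparatedSpace W.obj.left.left] (fA : A →+* A') (hfA : fA.Flat) (φ : A →+* fnA W) (φ' : A' →+* fnA W')
    (h : W' ⟶ W) (hφ : (resA h).comp φ = φ'.comp fA)
    (hbase : ∀ (Z : EtOver X) [IsAffine Z.obj.left.left] (a : Z ⟶ W),
      IsAffine (EtOver.pullbackObj h a).obj.left.left ∧
        IsPushout (CommRingCat.ofHom fA) (CommRingCat.ofHom ((resA a).comp φ))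
          (CommRingCat.ofHom ((resA (EtOver.pullbackFst h a)).comp φ')) (CommRingCat.ofHom (resA (EtOver.pullbackSnd h a)))) :
    IsBC (qRing M fA φ φ' h hφ) := by
  obtain ⟨n, Z, a, hZ, hcov⟩ := exists_affine_cover_of_compact W
  have hcomp : ∀ kl : Fin n × Fin n, CompactSpace (EtOver.pullbackObj (a kl.1) (a kl.2)).obj.left.left := by
    intro kl
    haveI := hZ kl.1
    haveI := hZ kl.2
    haveI : CompactSpace ↥((EtOver.toScheme X).obj (Z kl.2)) :=
      inferInstanceAs (CompactSpace (Z kl.2).obj.left.left)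
    haveI : QuasiSeparatedSpace ↥((EtOver.toScheme X).obj W) :=
      inferInstanceAs (QuasiSeparatedSpace W.obj.left.left)
    have sq := (EtOver.isPullback (a kl.1) (a kl.2)).map (EtOver.toScheme X)
    haveI : QuasiCompact (EtOver.pullbackFst (a kl.1) (a kl.2)).hom.left.left :=
      MorphismProperty.of_isPullback (P := @QuasiCompact) sq.flip (quasiCompact_of_compactSpace _)
    exact QuasiCompact.compactSpace_of_compactSpace (EtOver.pullbackFst (a kl.1) (a kl.2)).hom.left.left
  choose m D' b hD' hb using fun kl => haveI := hcomp kl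
    exists_affine_cover_of_compact (EtOver.pullbackObj (a kl.1) (a kl.2))
  let κ := Σ kl : Fin n × Fin n, Fin (m kl)
  let D : κ → EtOver X := fun l => D' l.1 l.2
  haveI : ∀ l, IsAffine (D l).obj.left.left := fun l => hD' l.1 l.2
  let u₁ : ∀ l : κ, D l ⟶ Z l.1.1 := fun l => b l.1 l.2 ≫ EtOver.pullbackFst _ _
  let u₂ : ∀ l : κ, D l ⟶ Z l.1.2 := fun l => b l.1 l.2 ≫ EtOver.pullbackSnd _ _
  let d : ∀ l : κ, D l ⟶ W := fun l => u₁ l ≫ a l.1.1
  have hu₂ : ∀ l, u₂ l ≫ a l.1.2 = d l := fun l => by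
    simp only [u₂, d, u₁, Category.assoc, EtOver.pullback_condition]
  have e₁ : ∀ l : κ, ∃ u : EtOver.pullbackObj h (d l) ⟶ EtOver.pullbackObj h (a l.1.1),
      u ≫ EtOver.pullbackFst h (a l.1.1) = EtOver.pullbackFst h (d l) ∧
        u ≫ EtOver.pullbackSnd h (a l.1.1) = EtOver.pullbackSnd h (d l) ≫ u₁ l := fun l => by
    have w : EtOver.pullbackFst h (d l) ≫ h = (EtOver.pullbackSnd h (d l) ≫ u₁ l) ≫ a l.1.1 := by
      rw [Category.assoc]; exact EtOver.pullback_condition h (d l)
    exact ⟨(EtOver.isPullback h (a l.1.1)).lift _ _ w, (EtOver.isPullback h (a l.1.1)).lift_fst _ _ w,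
      (EtOver.isPullback h (a l.1.1)).lift_snd _ _ w⟩
  have e₂ : ∀ l : κ, ∃ u : EtOver.pullbackObj h (d l) ⟶ EtOver.pullbackObj h (a l.1.2),
      u ≫ EtOver.pullbackFst h (a l.1.2) = EtOver.pullbackFst h (d l) ∧
        u ≫ EtOver.pullbackSnd h (a l.1.2) = EtOver.pullbackSnd h (d l) ≫ u₂ l := fun l => by
    have w : EtOver.pullbackFst h (d l) ≫ h = (EtOver.pullbackSnd h (d l) ≫ u₂ l) ≫ a l.1.2 := by
      rw [Category.assoc, hu₂]; exact EtOver.pullback_condition h (d l)
    exact ⟨(EtOver.isPullback h (a l.1.2)).lift _ _ w, (EtOver.isPullback h (a l.1.2)).lift_fst _ _ w,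
      (EtOver.isPullback h (a l.1.2)).lift_snd _ _ w⟩
  choose v₁ hv₁ hv₁' using e₁
  choose v₂ hv₂ hv₂' using e₂
  have hcov' : JointlySurj fun k => EtOver.pullbackFst h (a k) := by
    intro x
    obtain ⟨k, y, hy⟩ := hcov (h.hom.left.left x)
    obtain ⟨z, hz, -⟩ :=
      Scheme.exists_preimage_of_isPullback ((EtOver.isPullback h (a k)).map (EtOver.toScheme X)) x y hy.symm
    exact ⟨k, z, hz⟩
  let j : SecRing M W φ →ₗ[A] (∀ k, SecRing M (Z k) ((resA (a k)).comp φ)) :=
    LinearMap.pi fun k => resRing M _ _ (a k) rfl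
  let j' : SecRing M W' φ' →ₗ[A']
      (∀ k, SecRing M (EtOver.pullbackObj h (a k)) ((resA (EtOver.pullbackFst h (a k))).comp φ')) :=
    LinearMap.pi fun k => resRing M _ _ (EtOver.pullbackFst h (a k)) rfl
  refine isBC_of_equalizer hfA _ (qFam M fA φ φ' h hφ a) (qFam M fA φ φ' h hφ d) j
    (resFam M φ a d (fun l => l.1.1) u₁ fun _ => rfl) (resFam M φ a d (fun l => l.1.2) u₂ hu₂) j'
    (resFam M φ' (fun k => EtOver.pullbackFst h (a k)) (fun l => EtOver.pullbackFst h (d l)) (fun l => l.1.1) v₁ hv₁)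
    (resFam M φ' (fun k => EtOver.pullbackFst h (a k)) (fun l => EtOver.pullbackFst h (d l)) (fun l => l.1.2) v₂ hv₂)
    ?_ ?_ ?_ ?_ ?_ ?_ ?_ ?_ (isBC_qFam M fA φ φ' h hφ hbase a) (isBC_qFam M fA φ φ' h hφ hbase d)
  · intro s t hst
    exact resM_ext M (g := a) hcov fun k => congrFun hst k
  · intro s
    funext l
    show resM M (u₁ l) (resM M (a l.1.1) s) = resM M (u₂ l) (resM M (a l.1.2) s)
    rw [← resM_comp, ← resM_comp, hu₂]
  · intro y hy
    have hy' : ∀ k l, resM M (EtOver.pullbackFst (a k) (a l)) (y k) = resM M (EtOver.pullbackSnd (a k) (a l)) (y l) := by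
      intro k l
      refine resM_ext M (g := b (k, l)) (hb (k, l)) fun i => ?_
      rw [← resM_comp, ← resM_comp]
      exact congrFun hy ⟨(k, l), i⟩
    obtain ⟨s, hs⟩ := exists_resM_eq M hcov y hy'
    exact ⟨s, funext hs⟩
  · intro s t hst
    exact resM_ext M (g := fun k => EtOver.pullbackFst h (a k)) hcov' fun k => congrFun hst k
  · intro s
    funext l
    show resM M (v₁ l) (resM M (EtOver.pullbackFst h (a l.1.1)) s) =
      resM M (v₂ l) (resM M (EtOver.pullbackFst h (a l.1.2)) s)
    rw [← resM_comp, ← resM_comp, hv₁, hv₂]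
  · intro s
    funext k
    show resM M (EtOver.pullbackFst h (a k)) (resM M h s) = resM M (EtOver.pullbackSnd h (a k)) (resM M (a k) s)
    rw [← resM_comp, ← resM_comp, EtOver.pullback_condition]
  · intro y
    funext l
    show resM M (v₁ l) (resM M (EtOver.pullbackSnd h (a l.1.1)) (y l.1.1)) =
      resM M (EtOver.pullbackSnd h (d l)) (resM M (u₁ l) (y l.1.1))
    rw [← resM_comp, ← resM_comp, hv₁']
  · intro y
    funext l
    show resM M (v₂ l) (resM M (EtOver.pullbackSnd h (a l.1.2)) (y l.1.2)) =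
      resM M (EtOver.pullbackSnd h (d l)) (resM M (u₂ l) (y l.1.2))
    rw [← resM_comp, ← resM_comp, hv₂']

end SecRing

/-- Base change passes along isomorphisms of the modules. -/
theorem isBC_of_equiv {A A' : Type u} [CommRing A] [CommRing A'] {fA : A →+* A'} {N N' W W' : Type (u + 1)}
    [AddCommGroup N] [Module A N] [AddCommGroup N'] [Module A N'] [AddCommGroup W] [Module A' W] [AddCommGroup W']
    [Module A' W'] (ψ : N →ₛₗ[fA] W) (ψ' : N' →ₛₗ[fA] W') (e : N ≃ₗ[A] N') (e' : W ≃ₗ[A'] W')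
    (he : ∀ n, ψ' (e n) = e' (ψ n)) (h : IsBC ψ) : IsBC ψ' := by
  have key : ∀ z, bcLift ψ' (mapN fA e.toLinearMap z) = e' (bcLift ψ z) := fun z =>
    bcLift_mapN ψ ψ' e.toLinearMap e'.toLinearMap he z
  have hs : Function.Surjective (mapN fA e.toLinearMap) := mapN_surjective fA e.surjective
  refine ⟨fun z z' hzz => ?_, fun w => ?_⟩
  · obtain ⟨a, rfl⟩ := hs z
    obtain ⟨a', rfl⟩ := hs z'
    rw [key, key] at hzz
    rw [h.1 (e'.injective hzz)]
  · obtain ⟨z, hz⟩ := h.2 (e'.symm w)
    exact ⟨mapN fA e.toLinearMap z, by rw [key, hz, LinearEquiv.apply_symm_apply]⟩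

section push

variable {Y : Sp S} {f : X ⟶ Y} (hf : Representable f)

theorem resA_bcπ {E E' : EtOver Y} (g : E' ⟶ E) :
    (resA (EtOver.bcMap hf g)).comp (EtOver.bcπ hf E).left.appTop.hom =
      (EtOver.bcπ hf E').left.appTop.hom.comp (resA g) := by
  have e := congrArg (fun k => CommRingCat.Hom.hom (Scheme.Hom.appTop k))
    (congrArg CommaMorphism.left (EtOver.bcMap_snd hf g))
  simp only [Over.comp_left, Scheme.Hom.comp_appTop, CommRingCat.hom_comp] at e
  exact e

theorem isPullback_bc_affine {E E' : EtOver Y} (g : E' ⟶ E) {Z : EtOver X} (a : Z ⟶ EtOver.bcObj hf E) :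
    IsPullback (EtOver.pullbackSnd (EtOver.bcMap hf g) a).hom.left.left
      ((EtOver.pullbackFst (EtOver.bcMap hf g) a).hom.left.left ≫ (EtOver.bcπ hf E').left)
      (a.hom.left.left ≫ (EtOver.bcπ hf E).left) g.hom.left.left :=
  ((EtOver.isPullback (EtOver.bcMap hf g) a).map (EtOver.toScheme X)).flip.paste_vert
    (EtOver.isPullback_bcMap_left hf g)

theorem hbase_bc {E E' : EtOver Y} [IsAffine E.obj.left.left] [IsAffine E'.obj.left.left] (g : E' ⟶ E)
    {Z : EtOver X} [IsAffine Z.obj.left.left] (a : Z ⟶ EtOver.bcObj hf E) :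
    IsAffine (EtOver.pullbackObj (EtOver.bcMap hf g) a).obj.left.left ∧
      IsPushout (CommRingCat.ofHom (resA g))
        (CommRingCat.ofHom ((resA a).comp (EtOver.bcπ hf E).left.appTop.hom))
        (CommRingCat.ofHom ((resA (EtOver.pullbackFst (EtOver.bcMap hf g) a)).comp (EtOver.bcπ hf E').left.appTop.hom))
        (CommRingCat.ofHom (resA (EtOver.pullbackSnd (EtOver.bcMap hf g) a))) := by
  haveI : IsAffine (EtOver.pullbackObj (EtOver.bcMap hf g) a).obj.left.left :=
    IsAffine.of_isPullback (isPullback_bc_affine hf g a)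
  refine ⟨inferInstance, ?_⟩
  have e := (isPushout_appTop_of_isPullback (isPullback_bc_affine hf g a)).flip
  simp only [Scheme.Hom.comp_appTop] at e
  exact e

/-- Sections of a direct image as sections over the base change. -/
noncomputable def pushSecEquiv (M : ModEt X) (E : EtOver Y) :
    SecRing M (EtOver.bcObj hf E) (EtOver.bcπ hf E).left.appTop.hom ≃ₗ[fnA E]
      sectModEt ((pushModEt hf).obj M) E where
  toFun s := s
  invFun s := s
  map_add' _ _ := rfl
  map_smul' _ _ := rfl
  left_inv _ := rfl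
  right_inv _ := rfl

/-- Direct image along a quasi-compact quasi-separated representable morphism preserves quasi-coherence. -/
theorem isQuasicoherent_push (hqc : RepWith @QuasiCompact f) (hqs : RepWith @QuasiSeparated f) (M : ModEt X)
    [M.IsQuasicoherent] : ((pushModEt hf).obj M).IsQuasicoherent := by
  refine isQuasicoherent_of_hasBC fun E E' _ _ g => ?_
  haveI : QuasiCompact (EtOver.bcπ hf E).left :=
    hqc.property E.obj.hom (EtOver.bcObj hf E).obj.hom (EtOver.bcπ hf E) (EtOver.isPullback_bcObj hf E)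
  haveI : QuasiSeparated (EtOver.bcπ hf E).left :=
    hqs.property E.obj.hom (EtOver.bcObj hf E).obj.hom (EtOver.bcπ hf E) (EtOver.isPullback_bcObj hf E)
  haveI : CompactSpace (EtOver.bcObj hf E).obj.left.left :=
    QuasiCompact.compactSpace_of_compactSpace (EtOver.bcπ hf E).left
  haveI : QuasiSeparatedSpace (EtOver.bcObj hf E).obj.left.left :=
    quasiSeparatedSpace_of_quasiSeparated (EtOver.bcπ hf E).left
  have key := isBC_qRing M (resA g) (flat_resA g) _ _ (EtOver.bcMap hf g) (resA_bcπ hf g)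
    (fun Z _ a => hbase_bc hf g a)
  exact isBC_of_equiv _ _ (pushSecEquiv hf M E) (pushSecEquiv hf M E') (fun _ => rfl) key

/-- Quasi-separatedness of a representable morphism as a property of its base changes. -/
theorem repWith_quasiSeparated (hf : Representable f) (hqs : IsQuasiSeparatedMor f) : RepWith @QuasiSeparated f :=
  (Groth.AlgSpBasic.repWith_diagonal_iff_of_representable (@QuasiCompact) (@QuasiSeparated)
    (fun _ _ g => quasiSeparated_iff g) hf).1 hqs

end push

end Groth.ModEtQCoh
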