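import Groth.Agent.ModEtQCoh.Criterion
import Groth.Agent.ModEtQCoh.Coherent
import Groth.Agent.AlgSpBasic.AffineMor
import Groth.Prelude.Def_AlgSpOX2
import Mathlib.Algebra.Category.ModuleCat.Sheaf.PullbackContinuous

/-!
# Inverse image along a representable etale morphism is restriction; quasi-coherence descends
-/

set_option autoImplicit false
set_option backward.isDefEq.respectTransparency.types false
set_option backward.isDefEq.respectTransparency false
universe u

open CategoryTheory CategoryTheory.Limits AlgebraicGeometry Opposite AlgSp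

namespace Groth.ModEtQCoh

variable {S : Scheme.{u}} {X Y : Sp S} {f : X ⟶ Y} (hf : Representable f) (he : RepWith @Etale f)

/-- An etale scheme over `X` is one over `Y`. -/
noncomputable def postEt : EtOver X ⥤ EtOver Y :=
  EtOver.postcomp f fun _ _ ha => Groth.AlgSpBasic.repWith_comp ha he

/-- Morphisms into a base change. -/
noncomputable def postEtHomEquiv (W : EtOver X) (E : EtOver Y) :
    ((postEt he).obj W ⟶ E) ≃ (W ⟶ (EtOver.bc hf).obj E) where
  toFun g := EtOver.homMk (hf.lift W.obj.hom g.hom.left (EtOver.w g).symm) (hf.lift_fst _ _ _)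
  invFun c := EtOver.homMk (c.hom.left ≫ hf.snd E.obj.hom) (by
    refine Eq.trans (congrArg (· ≫ E.obj.hom) ((yon S).map_comp _ _)) ?_
    refine (Category.assoc _ _ _).trans ((congrArg (_ ≫ ·) (hf.w E.obj.hom).symm).trans ?_)
    exact (Category.assoc _ _ _).symm.trans (congrArg (· ≫ f) (EtOver.w c)))
  left_inv g := EtOver.hom_ext _ _ (hf.lift_snd _ _ _)
  right_inv c := EtOver.hom_ext _ _ (hf.hom_ext
    ((hf.lift_fst _ _ _).trans (EtOver.w c).symm) (hf.lift_snd _ _ _))

theorem postEtHomEquiv_symm_left {W W' : EtOver X} {E : EtOver Y} (a : W' ⟶ W) (c : W ⟶ (EtOver.bc hf).obj E) :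
    (postEtHomEquiv hf he W' E).symm (a ≫ c) = (postEt he).map a ≫ (postEtHomEquiv hf he W E).symm c :=
  EtOver.hom_ext _ _ (Category.assoc _ _ _)

theorem postEtHomEquiv_right {W : EtOver X} {E E' : EtOver Y} (g : (postEt he).obj W ⟶ E) (k : E ⟶ E') :
    postEtHomEquiv hf he W E' (g ≫ k) = postEtHomEquiv hf he W E g ≫ (EtOver.bc hf).map k := by
  refine (postEtHomEquiv hf he W E').symm.injective ?_
  rw [Equiv.symm_apply_apply]
  refine EtOver.hom_ext _ _ ?_
  show g.hom.left ≫ k.hom.left = (_ ≫ (EtOver.bcMap hf k).hom.left) ≫ hf.snd E'.obj.hom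
  rw [Category.assoc, EtOver.bcMap_snd, ← Category.assoc]
  exact congrArg (· ≫ k.hom.left) (hf.lift_snd _ _ _).symm

/-- The adjunction between composition with `f` and base change along `f`. -/
noncomputable def postEtAdj : postEt he ⊣ EtOver.bc hf :=
  Adjunction.mkOfHomEquiv
    { homEquiv := postEtHomEquiv hf he
      homEquiv_naturality_left_symm := fun a c => postEtHomEquiv_symm_left hf he a c
      homEquiv_naturality_right := fun g k => postEtHomEquiv_right hf he g k }

instance preservesLimit_cospan_postEt {E₁ E₂ E₀ : EtOver X} (g₁ : E₁ ⟶ E₀) (g₂ : E₂ ⟶ E₀) :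
    PreservesLimit (cospan g₁ g₂) (postEt he) :=
  preservesLimit_of_preserves_limit_cone (EtOver.pullbackIsLimit g₁ g₂)
    ((isLimitMapConePullbackConeEquiv _ _).symm
      (IsPullback.of_map (EtOver.forget Y)
        (((postEt he).map_comp (EtOver.pullbackFst g₁ g₂) g₁).symm.trans
          ((congrArg (postEt he).map (EtOver.pullback_condition g₁ g₂)).trans
            ((postEt he).map_comp (EtOver.pullbackSnd g₁ g₂) g₂)))
        (show IsPullback ((EtOver.forget Y).map ((postEt he).map (EtOver.pullbackFst g₁ g₂)))
            ((EtOver.forget Y).map ((postEt he).map (EtOver.pullbackSnd g₁ g₂)))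
            ((EtOver.forget Y).map ((postEt he).map g₁)) ((EtOver.forget Y).map ((postEt he).map g₂)) from
          IsPullback.of_hasPullback g₁.hom.left g₂.hom.left)).isLimit)

instance preservesPullbacks_postEt : PreservesLimitsOfShape WalkingCospan (postEt he) where
  preservesLimit {K} := preservesLimit_of_iso_diagram _ (diagramIsoCospan K).symm

instance isContinuous_postEt : (postEt he).IsContinuous (etTop X) (etTop Y) := by
  change (postEt he).IsContinuous (etPre X).toGrothendieck (etPre Y).toGrothendieck
  exact Functor.isContinuous_toGrothendieck_of_pullbacksPreservedBy (postEt he) (etPre X) (etPre Y)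
    (le_of_eq (Precoverage.comap_comp (postEt he) (EtOver.toScheme Y) Scheme.etalePrecoverage))

/-- The identity on functions. -/
noncomputable def postHomEt :
    OEtRing X ⟶ ((postEt he).sheafPushforwardContinuous RingCat.{u + 1} (etTop X) (etTop Y)).obj (OEtRing Y) :=
  ObjectProperty.homMk
    { app := fun _ => 𝟙 _
      naturality := fun _ _ _ => (Category.comp_id _).trans (Category.id_comp _).symm }

/-- Restriction along `f` is left adjoint to direct image. -/
noncomputable def restrictEtAdj :
    SheafOfModules.pushforward.{u + 1} (postHomEt he) ⊣ pushModEt hf :=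
  SheafOfModules.pushforwardPushforwardAdj (postEtAdj hf he) (postHomEt he) (bcRingHom hf)
    (by
      ext E : 2
      show (BigSite.ORing Scheme.etalePrecoverage S).obj.map _ = (BigSite.ORing Scheme.etalePrecoverage S).obj.map _ ≫ 𝟙 _
      rw [Category.comp_id]
      congr 2
      )
    (by
      ext W : 2
      show 𝟙 _ ≫ (BigSite.ORing Scheme.etalePrecoverage S).obj.map _ ≫ (BigSite.ORing Scheme.etalePrecoverage S).obj.map _ = 𝟙 _
      rw [Category.id_comp, ← Functor.map_comp]
      refine (congrArg _ ?_).trans (CategoryTheory.Functor.map_id _ _)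
      exact congrArg Quiver.Hom.op (hf.lift_snd _ _ _))

/-- Inverse image along a representable etale morphism is restriction. -/
noncomputable def pullIsoRestrict [(SheafOfModules.pushforward.{u + 1} (bcRingHom hf)).IsRightAdjoint] :
    pullModEt hf ≅ SheafOfModules.pushforward.{u + 1} (postHomEt he) :=
  (pullPushAdjModEt hf).leftAdjointUniq (restrictEtAdj hf he)

/-- A module whose sections over etale schemes over `E` are given by base change is presented on `E`. -/
theorem exists_presentation_of_local_hasBC {M : ModEt Y} (E : EtOver Y) [IsAffine E.obj.left.left]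
    (h : ∀ (Z : EtOver Y) [IsAffine Z.obj.left.left] (g : Z ⟶ E), IsBC (resM M g)) :
    Nonempty (M.over E).Presentation := by
  let c := Finsupp.linearCombination (fnA E) (id : sectModEt M E → sectModEt M E)
  have hc : Function.Surjective c := fun s => ⟨Finsupp.single s 1, by simp [c]⟩
  haveI : IsAffine (topO E).left.obj.left.left := ‹IsAffine E.obj.left.left›
  obtain ⟨π, hπ, ρ, hρ⟩ := exists_epi_pair M (fun U _ => h U.left (toTopO U).left) (I := sectModEt M E) id hc
    (J := LinearMap.ker c) (fun j => j.1) (by
      rw [Finsupp.range_linearCombination]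
      exact (congrArg (Submodule.span (fnA E)) Subtype.range_val).trans (Submodule.span_eq _))
  let gens : (M.over E).GeneratingSections :=
    ⟨_, (M.over E).freeHomEquiv π, by rw [Equiv.symm_apply_apply]; exact hπ⟩
  have hg : π = gens.π := (Equiv.symm_apply_apply _ _).symm
  exact ⟨⟨gens, ⟨_, (kernel gens.π).freeHomEquiv (ρ ≫ (kernelIsoOfEq hg).hom), by
    rw [Equiv.symm_apply_apply]; infer_instance⟩⟩⟩

/-- Quasi-coherence of the restriction to an etale surjective cover implies quasi-coherence. -/
theorem isQuasicoherent_of_pull (he : RepWith @Etale f) (hs : RepWith @Surjective f)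
    [(SheafOfModules.pushforward.{u + 1} (bcRingHom hf)).IsRightAdjoint]
    (G : ModEt Y) [((pullModEt hf).obj G).IsQuasicoherent] : G.IsQuasicoherent := by
  haveI : ((SheafOfModules.pushforward.{u + 1} (postHomEt he)).obj G).IsQuasicoherent :=
    ObjectProperty.prop_of_iso (SheafOfModules.isQuasicoherent (OEtRing X)) ((pullIsoRestrict hf he).app G)
      (inferInstanceAs ((pullModEt hf).obj G).IsQuasicoherent)
  have hloc : ∀ (W : {W : EtOver X // IsAffine W.obj.left.left}) (Z : EtOver Y) [IsAffine Z.obj.left.left]
      (g : Z ⟶ (postEt he).obj W.1), IsBC (resM G g) := by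
    intro W Z _ g
    haveI := W.2
    let Z' : EtOver X := EtOver.mk ((yon S).map g.hom.left ≫ W.1.obj.hom)
      (Groth.AlgSpBasic.repWith_comp ((repWith_yon_map_iff _ g.hom.left).2 (EtOver.etale_left g)) W.1.property)
    haveI : IsAffine Z'.obj.left.left := by assumption
    have h1 := isBC_resM ((SheafOfModules.pushforward.{u + 1} (postHomEt he)).obj G)
      (EtOver.homMk g.hom.left rfl : Z' ⟶ W.1)
    have key : ∀ (Z₁ : EtOver Y) (g₁ : Z₁ ⟶ (postEt he).obj W.1), Z₁ = (postEt he).obj Z' →
        HEq g₁.hom.left g.hom.left → ∀ [IsAffine Z₁.obj.left.left], IsBC (resM G g₁) := by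
      intro Z₁ g₁ e he' _
      subst e
      obtain rfl : g₁ = (postEt he).map (EtOver.homMk g.hom.left rfl : Z' ⟶ W.1) :=
        EtOver.hom_ext _ _ (eq_of_heq he')
      exact h1
    refine key _ g ?_ HEq.rfl
    exact ObjectProperty.FullSubcategory.ext ((CostructuredArrow.eq_mk Z.obj).trans
      (congrArg CostructuredArrow.mk ((EtOver.w g).symm.trans (Category.assoc _ _ _).symm)))
  refine (SheafOfModules.QuasicoherentData.mk (M := G) {W : EtOver X // IsAffine W.obj.left.left}
    (fun W => (postEt he).obj W.1) ?_ (fun W =>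
      (haveI : IsAffine ((postEt he).obj W.1).obj.left.left := W.2
      (exists_presentation_of_local_hasBC ((postEt he).obj W.1) (hloc W)).some))).isQuasicoherent
  intro E
  choose W k w hW hk using exists_affine_chart_of_ofPt (EtOver.bcObj hf E)
  have : Surjective (EtOver.bcπ hf E).left :=
    hs.property E.obj.hom (EtOver.bcObj hf E).obj.hom (EtOver.bcπ hf E) (EtOver.isPullback_bcObj hf E)
  refine (etTop Y).superset_covering ?_ (ofArrows_mem_etTop (fun v => (postEt he).obj (W v))
    (fun v => (postEtHomEquiv hf he (W v) E).symm (k v)) fun x => ?_)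
  · rw [Sieve.ofArrows, Sieve.generate_le_iff]
    rintro T g ⟨v⟩
    exact ⟨⟨W v, hW v⟩, ⟨𝟙 _⟩⟩
  · obtain ⟨v, hv⟩ := (EtOver.bcπ hf E).left.surjective x
    exact ⟨v, w v, (congrArg (EtOver.bcπ hf E).left (hk v)).trans hv⟩

end Groth.ModEtQCoh
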