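import Groth.Prelude.Def_AlgSpModX
import Mathlib.Algebra.Category.ModuleCat.Sheaf.PullbackContinuous
import Mathlib.CategoryTheory.Category.ULift

/-!
# Existence of inverse images of modules on small etale sites of algebraic spaces
-/

set_option autoImplicit false
universe u

open CategoryTheory CategoryTheory.Limits Opposite AlgebraicGeometry AlgSp

namespace Groth.ModEtQCoh.PullExist

variable {C D : Type (u + 1)} [Category.{u} C] [Category.{u} D]

abbrev Big (C : Type (u + 1)) [Category.{u} C] : Type (u + 1) := ULiftHom.{u + 1} C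

abbrev bigUp (C : Type (u + 1)) [Category.{u} C] : C ⥤ Big C := ULiftHom.up
abbrev bigDown (C : Type (u + 1)) [Category.{u} C] : Big C ⥤ C := ULiftHom.down

variable (R : Dᵒᵖ ⥤ RingCat.{u + 1})

set_option backward.isDefEq.respectTransparency false in
noncomputable def bigEquiv :
    PresheafOfModules.{u + 1} R ≌ PresheafOfModules.{u + 1} ((bigDown D).op ⋙ R) :=
  CategoryTheory.Equivalence.mk (PresheafOfModules.pushforward (F := bigDown D) (𝟙 ((bigDown D).op ⋙ R)))
    (PresheafOfModules.pushforward (S := R) (F := bigUp D) (R := (bigDown D).op ⋙ R) (𝟙 R))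
    ((PresheafOfModules.pushforwardId R).symm ≪≫
      (PresheafOfModules.pushforwardComp (F := bigUp D) (G := bigDown D) (𝟙 R) (𝟙 ((bigDown D).op ⋙ R))).symm)
    ((PresheafOfModules.pushforwardComp (F := bigDown D) (G := bigUp D) (T := (bigDown D).op ⋙ R) (𝟙 ((bigDown D).op ⋙ R)) (𝟙 R)) ≪≫
      (PresheafOfModules.pushforwardId ((bigDown D).op ⋙ R)))

variable {R}

set_option backward.isDefEq.respectTransparency false in
/-- Presheaves of modules on locally small categories have inverse images. -/
theorem isRightAdjoint_pushforward {F : C ⥤ D} {S : Cᵒᵖ ⥤ RingCat.{u + 1}} (φ : S ⟶ F.op ⋙ R) :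
    (PresheafOfModules.pushforward.{u + 1} φ).IsRightAdjoint := by
  let F' : Big C ⥤ Big D := bigDown C ⋙ F ⋙ bigUp D
  let φ' : (bigDown C).op ⋙ S ⟶ F'.op ⋙ ((bigDown D).op ⋙ R) := Functor.whiskerLeft (bigDown C).op φ
  haveI : (PresheafOfModules.pushforward.{u + 1} φ').IsRightAdjoint := inferInstance
  let e : (bigEquiv R).functor ⋙ PresheafOfModules.pushforward φ' ⋙ (bigEquiv S).inverse ≅
      PresheafOfModules.pushforward φ :=
    Functor.isoWhiskerLeft _ (PresheafOfModules.pushforwardComp (F := bigUp C) (R := (bigDown C).op ⋙ S) (S := S) (𝟙 S) φ') ≪≫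
      PresheafOfModules.pushforwardComp (F := bigUp C ⋙ F') (S := S) _ (𝟙 ((bigDown D).op ⋙ R))
  exact Functor.isRightAdjoint_of_iso e

variable {S : Scheme.{u}} {X Y : Sp S} {f : X ⟶ Y} (hf : Representable f)

/-- The inverse image functor of modules on small etale sites exists. -/
theorem isRightAdjoint_push : (SheafOfModules.pushforward.{u + 1} (bcRingHom hf)).IsRightAdjoint := by
  haveI := isRightAdjoint_pushforward (bcRingHom hf).hom
  infer_instance

end Groth.ModEtQCoh.PullExist
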