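import Groth.Agent.ModEtQCoh.StalkOpen
import Groth.Agent.ModEtQCoh.EtaleRestrict
import Groth.Agent.ModEtQCoh.PushQCoh
import Groth.Agent.ModEtQCoh.PullExist
import Groth.Agent.ModEtQCoh.PullEt
import Groth.Agent.AlgSpBasic.Topology

/-!
# Splitting the support of a coherent module
-/

set_option autoImplicit false
set_option backward.isDefEq.respectTransparency.types false
set_option linter.style.haveILetI false
universe u

open CategoryTheory CategoryTheory.Limits AlgebraicGeometry Opposite AlgSp TopologicalSpace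
open Groth.ModEtQCoh.StalkOpen (zeroLocus mem_zeroLocus resM_eq_zero_iff)

namespace Groth.ModEtQCoh.SuppSplit

section generic
universe v v₁ v₂ u₁ u₂ w
open CategoryTheory.Functor
variable {C : Type u₁} [Category.{v₁} C] {D : Type u₂} [Category.{v₂} D] {J : GrothendieckTopology C}
  {K : GrothendieckTopology D} {F : C ⥤ D} {G : D ⥤ C} (adj : F ⊣ G) {R : Sheaf J RingCat.{w}} {R' : Sheaf K RingCat.{w}}
  [F.IsContinuous J K] [G.IsContinuous K J]
  (φ : R ⟶ (F.sheafPushforwardContinuous RingCat.{w} J K).obj R')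
  (ψ : R' ⟶ (G.sheafPushforwardContinuous RingCat.{w} K J).obj R)
  (H₁ : Functor.whiskerRight (NatTrans.op adj.counit) R'.obj = ψ.hom ≫ G.op.whiskerLeft φ.hom)
  (H₂ : φ.hom ≫ F.op.whiskerLeft ψ.hom ≫ Functor.whiskerRight (NatTrans.op adj.unit) R.obj = 𝟙 R.obj)

/-- The unit of a pushforward adjunction on sections. -/
theorem unit_zero_iff (M : SheafOfModules.{v} R') (U : Dᵒᵖ) (x : M.val.obj U) :
    (((SheafOfModules.pushforwardPushforwardAdj adj φ ψ H₁ H₂).unit.app M).val.app U).hom x = 0 ↔
      (M.val.map (adj.counit.app U.unop).op).hom x = 0 := by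
  exact Iff.rfl

end generic

variable {S : Scheme.{u}} {X : Space S}

/-- Sections over objects in the locus of vanishing stalks vanish. -/
theorem eq_zero_of_stalks (M : ModEt X.obj) {E : EtOver X.obj}
    (h : ∀ p : FieldPt X.obj, p.IsGeometric → Points.mk p ∈ Set.range (Points.ofPt E.obj.hom) →
      IsZero (stalkEt p ((toAbEt X.obj).obj M)))
    (s : sectModEt M E) : s = 0 := by
  have := (resM_eq_zero_iff s (𝟙 E)).2 fun v => by
    obtain ⟨p, w, hp, hw⟩ := Groth.AlgSpEt.exists_geometric_lift E v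
    show v ∈ zeroLocus M s
    rw [← hw]
    refine (StalkOpen.germ_eq_zero_iff hp ⟨E, w⟩ s).1 ?_
    haveI := AddCommGrpCat.subsingleton_of_isZero
      (h p hp ⟨_, Groth.AlgSpEt.ofPt_lift w⟩)
    exact Subsingleton.elim _ _
  rwa [resM_id] at this

/-- Open immersions into locally Noetherian spaces are quasi-compact. -/
theorem repWith_quasiCompact (hN : IsLocNoethSp X.obj) {U : Sp S} {j : U ⟶ X.obj}
    (hj : RepWith @IsOpenImmersion j) : RepWith @QuasiCompact j := by
  haveI : MorphismProperty.IsLocalAtTarget @QuasiCompact.{u} Scheme.fppfPrecoverage :=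
    Groth.AlgSpBasic.isLocalAtTarget_fppf _
  obtain ⟨V, b, hb, hbs⟩ := X.property.atlas
  obtain ⟨T, snd, fst, sq⟩ := hj.rep b
  haveI : IsOpenImmersion snd.left := hj.property b fst snd sq
  haveI : IsLocallyNoetherian V.left := Groth.AlgSp2.isLocallyNoetherian_of_etale X.property hN hb
  haveI := Groth.AlgSpBasic.isLocallySurjective_of_etale b hb hbs
  exact Groth.AlgSpBasic.repWith_of_isLocallySurjective j hj.rep b fst _ sq
    ((repWith_yon_map_iff _ snd).2 inferInstance)

/-- The cokernel of a morphism surjective on sections vanishes there. -/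
theorem coker_eq_zero {K M : ModEt X.obj} (a : K ⟶ M) [M.IsQuasicoherent] [(cokernel a).IsQuasicoherent]
    (T : EtOver X.obj) [IsAffine T.obj.left.left] (h : ∀ y, ∃ κ, appM a T κ = y) (s : sectModEt (cokernel a) T) :
    s = 0 := by
  obtain ⟨y, rfl⟩ := appM_surjective_of_epi (cokernel.π a) T s
  obtain ⟨κ, rfl⟩ := h y
  exact appM_comp_eq_zero (cokernel.condition a) T κ

variable {U : Space S} (j : U ⟶ X) (he : RepWith @Etale j.hom)

/-- The part of a section lying over `U`. -/
noncomputable abbrev partU (E : EtOver X.obj) : (postEt he).obj ((EtOver.bc he.1).obj E) ⟶ E :=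
  (postEtAdj he.1 he).counit.app E

theorem appM_eq_zero_iff {M N : ModEt X.obj} (η : M ⟶ N) (E : EtOver X.obj) (s : sectModEt M E) :
    appM η E s = 0 ↔ (η.val.app (op E)).hom s = 0 := Iff.rfl

theorem appM_unit_eq_zero_iff (F : ModEt X.obj) (E : EtOver X.obj) (s : sectModEt F E) :
    (((restrictEtAdj he.1 he).unit.app F).val.app (op E)).hom s = 0 ↔ (F.val.map (partU j he E).op).hom s = 0 := by
  delta restrictEtAdj
  exact unit_zero_iff (postEtAdj he.1 he) (postHomEt he) (bcRingHom he.1) _ _ F (op E) s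

/-- Restriction to the part over `U`, as a morphism. -/
noncomputable def unitU (F : ModEt X.obj) :
    F ⟶ (pushModEt he.1).obj ((SheafOfModules.pushforward.{u + 1} (postHomEt he)).obj F) :=
  (restrictEtAdj he.1 he).unit.app F

theorem unitU_eq_zero_iff (F : ModEt X.obj) (E : EtOver X.obj) (s : sectModEt F E) :
    appM (unitU j he F) E s = 0 ↔ resM F (partU j he E) s = 0 :=
  (appM_eq_zero_iff (unitU j he F) E s).trans (appM_unit_eq_zero_iff j he F E s)

/-- The part over `U` is the projection of the base change. -/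
theorem partU_left (E : EtOver X.obj) : (partU j he E).hom.left.left = (EtOver.bcπ he.1 E).left := by
  show (((postEtHomEquiv he.1 he _ E).symm (𝟙 _)).hom.left).left = _
  exact Category.id_comp (he.1.snd E.obj.hom).left

/-- The points of the part over `U`. -/
theorem ofPt_partU_mem (E : EtOver X.obj) (v : ((postEt he).obj ((EtOver.bc he.1).obj E)).obj.left.left) :
    Points.ofPt ((postEt he).obj ((EtOver.bc he.1).obj E)).obj.hom v ∈ Set.range (Points.map j.hom) ∧
      Points.ofPt ((postEt he).obj ((EtOver.bc he.1).obj E)).obj.hom v ∈ Set.range (Points.ofPt E.obj.hom) := by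
  refine ⟨⟨Points.ofPt (EtOver.bcObj he.1 E).obj.hom v, Points.map_ofPt _ _ _⟩, ⟨(partU j he E).hom.left.left v, ?_⟩⟩
  rw [← EtOver.w (partU j he E), Groth.AlgSpBasic.ofPt_comp_yon]

/-- Surjectivity of the part over `U` for objects over `U`. -/
theorem jointlySurj_partU (E : EtOver X.obj) (hE : Set.range (Points.ofPt E.obj.hom) ⊆ Set.range (Points.map j.hom)) :
    JointlySurj (fun _ : PUnit.{1} => partU j he E) := by
  intro e
  obtain ⟨z, hz⟩ := hE ⟨e, rfl⟩
  obtain ⟨v, -, hv⟩ := (Groth.AlgSpBasic.map_eq_ofPt_iff (EtOver.isPullback_bcObj he.1 E) z e).1 hz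
  refine ⟨⟨⟩, v, ?_⟩
  show (partU j he E).hom.left.left v = e
  rw [partU_left]
  exact hv

set_option maxHeartbeats 1000000 in
/-- A coherent module supported in `Z ∪ Z'` is an extension of modules supported in `Z` and `Z'`. -/
theorem exists_split (hN : IsLocNoethSp X.obj) (F : ModEt X.obj) [F.IsFinitePresentation]
    (Z Z' : Set (Points X.obj)) (hZ : IsClosed Z) (hZ' : IsClosed Z')
    (hsupp : ∀ x : FieldPt X.obj, x.IsGeometric → Points.mk x ∉ Z ∪ Z' →
      IsZero (stalkEt x ((toAbEt X.obj).obj F))) :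
    ∃ (G' : ModEt X.obj) (a : G' ⟶ F), Mono a ∧ G'.IsFinitePresentation ∧
      (cokernel a).IsFinitePresentation ∧
        (∀ x : FieldPt X.obj, x.IsGeometric → Points.mk x ∉ Z' →
          IsZero (stalkEt x ((toAbEt X.obj).obj G'))) ∧
        (∀ x : FieldPt X.obj, x.IsGeometric → Points.mk x ∉ Z →
          IsZero (stalkEt x ((toAbEt X.obj).obj (cokernel a)))) := by
  obtain ⟨U, j, hj, hr⟩ := StalkOpen.exists_openSpace hZ'.isOpen_compl
  have he : RepWith @Etale j.hom :=
    MorphismProperty.relative_monotone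
      (fun _ _ g (hg : IsOpenImmersion ((Over.forget S).map g)) =>
        (inferInstanceAs (Etale ((Over.forget S).map g)))) _ hj
  have hqs : RepWith @QuasiSeparated j.hom :=
    MorphismProperty.relative_monotone
      (fun _ _ g (hg : IsOpenImmersion ((Over.forget S).map g)) =>
        (inferInstanceAs (QuasiSeparated ((Over.forget S).map g)))) _ hj
  haveI := PullExist.isRightAdjoint_push he.1
  let N := (SheafOfModules.pushforward.{u + 1} (postHomEt he)).obj F
  haveI : N.IsQuasicoherent :=
    ObjectProperty.prop_of_iso (SheafOfModules.isQuasicoherent (OEtRing U.obj)) ((pullIsoRestrict he.1 he).app F)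
      (isQuasicoherent_pull he.1 X.property F)
  haveI := isQuasicoherent_push he.1 (repWith_quasiCompact hN hj) hqs N
  let η : F ⟶ (pushModEt he.1).obj N := unitU j he F
  let a := kernel.ι η
  haveI hq : (kernel η).IsQuasicoherent :=
    isQuasicoherent_of_hasBC (hasBC_kernel (hasBC_of_isQuasicoherent F) (hasBC_of_isQuasicoherent _) η)
  haveI : (cokernel a).IsQuasicoherent :=
    isQuasicoherent_of_hasBC (hasBC_cokernel (hasBC_of_isQuasicoherent _) (hasBC_of_isQuasicoherent F) a)
  refine ⟨kernel η, a, inferInstance,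
    isFinitePresentation_of_forall_finite X.property hN _ (fun E _ => finite_of_mono X.property hN a E),
    isFinitePresentation_of_forall_finite X.property hN _ (fun E _ => finite_of_epi (cokernel.π a) E),
    fun x hx hxZ => ?_, fun x hx hxZ => ?_⟩
  · by_contra h
    obtain ⟨E, σ, u, hu, hnot⟩ := (Groth.AlgSpEt.not_isZero_stalkEt_iff X _ hx).1 h
    have hz : resM (kernel η) (partU j he E) (show sectModEt (kernel η) E from σ) = 0 := by
      refine appM_injective_of_mono a _ ?_
      rw [appM_resM, map_zero]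
      exact (unitU_eq_zero_iff j he F E _).1 (appM_comp_eq_zero (kernel.condition η) E _)
    refine hnot (mem_zeroLocus.2 ⟨_, partU j he E, hz, ?_⟩)
    have hmem : Points.ofPt E.obj.hom u ∈ Set.range (Points.map j.hom) := by
      rw [hr, hu]
      exact hxZ
    obtain ⟨z, hz'⟩ := hmem
    obtain ⟨v, -, hv⟩ := (Groth.AlgSpBasic.map_eq_ofPt_iff (EtOver.isPullback_bcObj he.1 E) z u).1 hz'
    refine ⟨v, ?_⟩
    rw [partU_left]
    exact hv
  · by_contra h
    obtain ⟨E, σ, u, hu, hnot⟩ := (Groth.AlgSpEt.not_isZero_stalkEt_iff X _ hx).1 h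
    let O : E.obj.left.left.Opens :=
      ⟨Points.ofPt E.obj.hom ⁻¹' Zᶜ, hZ.isOpen_compl.preimage (Points.continuous_ofPt _)⟩
    let i : Over.mk (O.ι ≫ E.obj.left.hom) ⟶ E.obj.left := Over.homMk O.ι rfl
    let D : EtOver X.obj := EtOver.mk ((yon S).map i ≫ E.obj.hom)
      (Groth.AlgSpBasic.repWith_comp ((repWith_yon_map_iff _ i).2 (inferInstanceAs (Etale O.ι))) E.property)
    let k : D ⟶ E := EtOver.homMk i rfl
    have hD : ∀ d, Points.ofPt D.obj.hom d ∈ Zᶜ := fun d => by
      rw [show Points.ofPt D.obj.hom d = Points.ofPt E.obj.hom (O.ι d) from Groth.AlgSpBasic.ofPt_comp_yon i _ d]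
      exact d.2
    obtain ⟨T, g, t, hT, hg⟩ := exists_affine_chart_of_ofPt D (⟨u, show Points.ofPt E.obj.hom u ∈ Zᶜ by rw [hu]; exact hxZ⟩ : O)
    have hπ : resM (cokernel a) (g ≫ k) (show sectModEt (cokernel a) E from σ) = 0 := by
      refine coker_eq_zero a T (fun y => exists_preimage_kernel η ?_) _
      refine (unitU_eq_zero_iff j he F T y).2 ?_
      refine eq_zero_of_stalks F (fun p hp hpm => hsupp p hp ?_) _
      obtain ⟨v, hv⟩ := hpm
      rintro (hpZ | hpZ)
      · obtain ⟨w, hw⟩ := (ofPt_partU_mem j he T v).2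
        rw [hv, ← EtOver.w g, Groth.AlgSpBasic.ofPt_comp_yon] at hw
        exact hD _ (hw ▸ hpZ)
      · have hU := (ofPt_partU_mem j he T v).1
        rw [hv, hr] at hU
        exact hU hpZ
    exact hnot (mem_zeroLocus.2 ⟨T, g ≫ k, hπ, t, (Scheme.Hom.comp_apply _ _ t).trans (congrArg O.ι hg)⟩)

end Groth.ModEtQCoh.SuppSplit
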