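import Groth.Agent.ModEtQCoh.Generators
import Groth.Agent.ModEtQCoh.Coherent
import Groth.Agent.ModEtQCoh.PushQCoh
import Groth.Agent.AlgSpBasic.LocP
import Mathlib.RingTheory.Finiteness.ModuleFinitePresentation

/-!
# Finite presentation of sections over affine objects; finite direct images
-/

set_option autoImplicit false
set_option backward.isDefEq.respectTransparency.types false
set_option linter.style.haveILetI false
universe u

open CategoryTheory CategoryTheory.Limits AlgebraicGeometry Opposite AlgSp TensorProduct

namespace Groth.ModEtQCoh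

variable {S : Scheme.{u}} {X : Sp S}

theorem eq_zero_of_one_tmul_id {A : Type u} [CommRing A] {N : Type (u + 1)} [AddCommGroup N] [Module A N]
    (i : Algebra A A) (hi : ∀ a, @algebraMap A A _ _ i a = a) (n : N)
    (h : (letI := i; (1 : A) ⊗ₜ[A] n) = 0) : n = 0 := by
  obtain rfl : i = Algebra.id A := Algebra.algebra_ext _ _ hi
  simpa using congrArg (TensorProduct.lid A N) h

theorem injective_of_isBC_id {Y : EtOver X} {U : Over Y} {K : ModOver Y} {N : Type (u + 1)} [AddCommGroup N]
    [Module (fnA U.left) N] (φ : N →ₗ[fnA U.left] SecO K U) (h : IsBC (slO K φ (𝟙 U))) :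
    Function.Injective φ := by
  refine (injective_iff_map_eq_zero φ).2 fun n hn => ?_
  let := (resA (𝟙 U : U ⟶ U).left).toAlgebra
  have h0 : (1 : fnA U.left) ⊗ₜ[fnA U.left] n = 0 := by
    refine h.1 ((bcLift_tmul (slO K φ (𝟙 U)) 1 n).trans ?_)
    rw [one_smul]
    exact (congrArg (resO K (𝟙 U)) hn).trans ((map_zero _).trans (map_zero (bcLift (slO K φ (𝟙 U)))).symm)
  exact eq_zero_of_one_tmul_id _ (fun _ => rfl) n h0

/-- A finitely presented module on a slice has finitely presented sections on affine objects. -/
theorem finitePresentation_of_presentation {Y : EtOver X} {K : ModOver Y} (p : K.Presentation) [p.IsFinite]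
    (U : Over Y) [IsAffine U.left.obj.left.left] : Module.FinitePresentation (fnA U.left) (SecO K U) := by
  let I := p.generators.I
  let J := p.relations.I
  let π : freeO Y I ⟶ K := p.generators.π
  let ρ : freeO Y J ⟶ kernel π := p.relations.π
  haveI : Epi π := p.generators.epi
  haveI : Epi ρ := p.relations.epi
  haveI : Finite I := SheafOfModules.GeneratingSections.IsFiniteType.finite
  haveI : Finite J := SheafOfModules.GeneratingSections.IsFiniteType.finite
  choose t ht using fun j =>
    surjective_of_isBC_id (eFree I U) (isBC_eFree I U U (𝟙 U)) (appO (ρ ≫ kernel.ι π) U (gen J U j))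
  let T : (J →₀ fnA U.left) →ₗ[fnA U.left] (I →₀ fnA U.left) := Finsupp.linearCombination _ t
  have hT : ∀ n, eFree I U (T n) = appO (ρ ≫ kernel.ι π) U (eFree J U n) := by
    intro n
    induction n using Finsupp.induction_linear with
    | zero => simp
    | add a b ha hb => simp only [map_add, ha, hb]
    | single j a =>
      simp only [T, eFree, Finsupp.linearCombination_single, map_smul] at ht ⊢
      rw [ht j]
  let φ : (I →₀ fnA U.left) ⧸ LinearMap.range T →ₗ[fnA U.left] SecO K U :=
    (LinearMap.range T).liftQ (appO π U ∘ₗ eFree I U) (by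
      rintro _ ⟨n, rfl⟩
      have h0 : (ρ ≫ kernel.ι π) ≫ π = 0 := by simp
      rw [LinearMap.mem_ker, LinearMap.comp_apply, hT]
      exact congrArg (fun k : freeO Y J ⟶ K => appO k U (eFree J U n)) h0)
  have h := isBC_of_exact π ρ U T (LinearMap.range T).mkQ (Submodule.mkQ_surjective _)
    (LinearMap.range_mkQ_comp T) φ (fun n => rfl) hT U (𝟙 U)
  let e := LinearEquiv.ofBijective φ ⟨injective_of_isBC_id φ h, surjective_of_isBC_id φ h⟩
  haveI : Module.FinitePresentation (fnA U.left) ((I →₀ fnA U.left) ⧸ LinearMap.range T) :=
    Module.finitePresentation_of_surjective _ (Submodule.mkQ_surjective _)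
      (by rw [Submodule.ker_mkQ]; exact Submodule.fg_range T)
  exact Module.FinitePresentation.of_equiv e

/-- Finite presentation descends along a finite flat covering family. -/
theorem finitePresentation_of_forall_tensor {A : Type u} [CommRing A] {K : Type} [Finite K] {B : K → Type u}
    [∀ k, CommRing (B k)] [∀ k, Algebra A (B k)] [∀ k, Module.Flat A (B k)]
    {P : Type (u + 1)} [AddCommGroup P] [Module A P] [Module.Finite A P]
    (hcov : ∀ m : Ideal A, m.IsMaximal →
      ∃ k, ∃ q : Ideal (B k), q.IsPrime ∧ q.comap (algebraMap A (B k)) = m)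
    (h : ∀ k, Module.FinitePresentation (B k) (B k ⊗[A] P)) : Module.FinitePresentation A P := by
  obtain ⟨n, π₀, hπ₀⟩ := Module.Finite.exists_fin' A P
  let F := ULift.{u + 1} (Fin n → A)
  let π : F →ₗ[A] P := π₀ ∘ₗ (ULift.moduleEquiv : F ≃ₗ[A] (Fin n → A)).toLinearMap
  have hπ : Function.Surjective π := hπ₀.comp (ULift.moduleEquiv : F ≃ₗ[A] (Fin n → A)).surjective
  haveI : Module.Finite A F := Module.Finite.equiv (ULift.moduleEquiv : F ≃ₗ[A] (Fin n → A)).symm
  haveI : Module.Free A F := Module.Free.of_equiv (ULift.moduleEquiv : F ≃ₗ[A] (Fin n → A)).symm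
  refine Module.finitePresentation_of_free_of_surjective π hπ ?_
  have key : Module.Finite A (LinearMap.ker π) := finite_of_forall_finite_tensor (B := B) hcov fun k => by
    have hs : Function.Surjective (π.baseChange (B k)) := LinearMap.lTensor_surjective (B k) hπ
    have hfg := Module.FinitePresentation.fg_ker (π.baseChange (B k)) hs
    have hinj : Function.Injective ((LinearMap.ker π).subtype.baseChange (B k)) :=
      Module.Flat.lTensor_preserves_injective_linearMap (M := B k) _ Subtype.val_injective
    have hex : Function.Exact ((LinearMap.ker π).subtype.baseChange (B k)) (π.baseChange (B k)) :=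
      lTensor_exact (B k) π.exact_subtype_ker_map hπ
    rw [LinearMap.exact_iff] at hex
    rw [hex] at hfg
    haveI := Module.Finite.of_fg hfg
    exact Module.Finite.equiv (LinearEquiv.ofInjective _ hinj).symm
  exact key.fg_top.map (LinearMap.ker π).subtype |> fun h => by simpa using h

/-- Sections of a module of finite presentation over an affine object are finitely presented. -/
theorem finitePresentation_sectModEt (M : ModEt X) [M.IsFinitePresentation] (E : EtOver X)
    [IsAffine E.obj.left.left] : Module.FinitePresentation (fnA E) (sectModEt M E) := by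
  obtain ⟨σ, hσ⟩ := SheafOfModules.IsFinitePresentation.exists_quasicoherentData M
  obtain ⟨n, Z, a, hZ, hcov, hY⟩ := exists_affine_cover (σ.coversTop E)
  choose i hb using fun k => (Sieve.mem_ofObjects_iff _ _).1 (hY k)
  haveI := finite_sectModEt M E
  let : ∀ k, Algebra (fnA E) (fnA (Z k)) := fun k => (resA (a k)).toAlgebra
  have : ∀ k, Module.Flat (fnA E) (fnA (Z k)) := fun k => flat_resA (a k)
  refine finitePresentation_of_forall_tensor (B := fun k => fnA (Z k))
    (fun m hm => exists_prime_over hcov m) fun k => ?_
  have := hσ.isFinite_presentation (i k)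
  let U : Over (σ.X (i k)) := Over.mk (hb k).some
  haveI : IsAffine U.left.obj.left.left := hZ k
  haveI hfp : Module.FinitePresentation (fnA (Z k)) (sectModEt M (Z k)) :=
    finitePresentation_of_presentation (σ.presentation (i k)) U
  let := Module.compHom (sectModEt M (Z k)) (resA (a k))
  have : IsScalarTower (fnA E) (fnA (Z k)) (sectModEt M (Z k)) :=
    IsScalarTower.of_algebraMap_smul fun _ _ => rfl
  let r : sectModEt M E →ₗ[fnA E] sectModEt M (Z k) :=
    { toFun := resM M (a k), map_add' := map_add _, map_smul' := (resM M (a k)).map_smulₛₗ }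
  exact Module.FinitePresentation.of_equiv
    ((isBC_iff (resM M (a k)) rfl r fun _ => rfl).1 (isBC_resM M (a k))).equiv.symm

/-- A quasi-coherent module with finite sections on a covering by affine objects is of finite type. -/
theorem isFiniteType_of_cover (M : ModEt X) [M.IsQuasicoherent] {ι : Type (u + 1)} (E : ι → EtOver X)
    (hE : (etTop X).CoversTop E) (hA : ∀ i, IsAffine (E i).obj.left.left)
    (h : ∀ i, Module.Finite (fnA (E i)) (sectModEt M (E i))) : M.IsFiniteType := by
  have key : ∀ i, ∃ G : (M.over (E i)).GeneratingSections, G.IsFiniteType := by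
    intro i
    haveI := hA i
    obtain ⟨s, hs⟩ := (h i).fg_top
    let I := ULift.{u + 1} {x // x ∈ s}
    let v : I → sectModEt M (E i) := fun j => j.down.1
    have hv : Function.Surjective (Finsupp.linearCombination (fnA (E i)) v) := by
      rw [← LinearMap.range_eq_top, Finsupp.range_linearCombination, ← top_le_iff, ← hs]
      exact Submodule.span_mono fun x hx => ⟨ULift.up ⟨x, hx⟩, rfl⟩
    haveI : IsAffine (topO (E i)).left.obj.left.left := hA i
    obtain ⟨π, hπ, -⟩ := exists_epi_pair M (fun U _ => isBC_resM M (toTopO U).left) v hv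
      (J := LinearMap.ker (Finsupp.linearCombination (fnA (E i)) v)) (fun j => j.1) (by
        rw [Finsupp.range_linearCombination]
        exact (congrArg (Submodule.span (fnA (E i))) Subtype.range_val).trans (Submodule.span_eq _))
    exact ⟨⟨I, (M.over (E i)).freeHomEquiv π, by rw [Equiv.symm_apply_apply]; exact hπ⟩,
      { finite := (inferInstance : Finite I) }⟩
  choose G hG using key
  constructor
  refine ⟨SheafOfModules.LocalGeneratorsData.mk (M := M) ι E hE G, ?_⟩
  exact { isFiniteType := hG }

/-- A quasi-coherent module with finitely presented sections on a covering by affine objects is of finite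
presentation. -/
theorem isFinitePresentation_of_cover (M : ModEt X) [M.IsQuasicoherent] {ι : Type (u + 1)} (E : ι → EtOver X)
    (hE : (etTop X).CoversTop E) (hA : ∀ i, IsAffine (E i).obj.left.left)
    (h : ∀ i, Module.FinitePresentation (fnA (E i)) (sectModEt M (E i))) : M.IsFinitePresentation := by
  have key : ∀ i, ∃ p : (M.over (E i)).Presentation, p.IsFinite := by
    intro i
    haveI := hA i
    haveI := h i
    obtain ⟨s, hs, t, ht⟩ := (h i).out
    let I := ULift.{u + 1} {x // x ∈ s}
    let v : I → sectModEt M (E i) := fun j => j.down.1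
    have hv : Function.Surjective (Finsupp.linearCombination (fnA (E i)) v) := by
      rw [← LinearMap.range_eq_top, Finsupp.range_linearCombination, ← top_le_iff, ← hs]
      exact Submodule.span_mono fun x hx => ⟨ULift.up ⟨x, hx⟩, rfl⟩
    obtain ⟨t', ht'⟩ := Module.FinitePresentation.fg_ker _ hv
    exact exists_presentation M v hv (fun j : ULift.{u + 1} {x // x ∈ t'} => j.down.1) (by
      rw [Finsupp.range_linearCombination, ← ht']
      congr 1
      ext x
      exact ⟨fun ⟨j, hj⟩ => hj ▸ j.down.2, fun hx => ⟨ULift.up ⟨x, hx⟩, rfl⟩⟩)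
  choose p hp using key
  constructor
  refine ⟨SheafOfModules.QuasicoherentData.mk (M := M) ι E hE p, ?_⟩
  exact { isFinite_presentation := hp }

section finitePush

variable {Y : Sp S} {f : X ⟶ Y} (hf : Representable f)

/-- Base changes of affine objects cover. -/
theorem coversTop_bc_affine (hY : IsAlgSpace Y) :
    (etTop X).CoversTop fun E : {E : EtOver Y // IsAffine E.obj.left.left} => EtOver.bcObj hf E.1 := by
  intro W
  have hx : ∀ w : W.obj.left.left, ∃ (E : EtOver Y) (v : (EtOver.bcObj hf E).obj.left.left),
      IsAffine E.obj.left.left ∧ Points.ofPt (EtOver.bcObj hf E).obj.hom v = Points.ofPt W.obj.hom w := by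
    intro w
    obtain ⟨U, p, hp, hps⟩ := hY.atlas
    obtain ⟨u₀, hu₀⟩ := Groth.AlgSpBasic.surjective_ofPt_of_repWith hps (Points.map f (Points.ofPt W.obj.hom w))
    obtain ⟨E, k, u, hE, hku⟩ := exists_affine_chart_of_ofPt (EtOver.mk p hp) u₀
    have hxu : Points.map f (Points.ofPt W.obj.hom w) = Points.ofPt E.obj.hom u := by
      rw [← EtOver.w k, Groth.AlgSpBasic.ofPt_comp_yon, hku]
      exact hu₀.symm
    obtain ⟨v, hv, -⟩ := (Groth.AlgSpBasic.map_eq_ofPt_iff (EtOver.isPullback_bcObj hf E) _ u).1 hxu
    exact ⟨E, v, hE, hv⟩
  choose E v hE hv using hx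
  choose Z k k' z hZ hz hz' using fun w => exists_common_chart W (EtOver.bcObj hf (E w)) w (v w) (hv w).symm
  refine (etTop X).superset_covering ?_ (ofArrows_mem_etTop Z k fun w => ⟨w, z w, hz w⟩)
  rw [Sieve.ofArrows, Sieve.generate_le_iff]
  rintro T g ⟨w⟩
  exact ⟨⟨E w, hE w⟩, ⟨k' w⟩⟩

/-- Finiteness and finite presentation of a ring extension of sections over affine objects for a direct image. -/
theorem isFiniteType_push_iff (hY : IsAlgSpace Y) (hfin : RepWith @IsFinite f) (M : ModEt X) [M.IsQuasicoherent] :
    M.IsFiniteType ↔ ((pushModEt hf).obj M).IsFiniteType := by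
  have haf : RepWith @IsAffineHom f :=
    MorphismProperty.relative_monotone
      (fun _ _ g (hg : IsFinite ((Over.forget S).map g)) => (inferInstanceAs (IsAffineHom ((Over.forget S).map g)))) _ hfin
  have hq : ((pushModEt hf).obj M).IsQuasicoherent :=
    isQuasicoherent_push hf (MorphismProperty.relative_monotone (fun _ _ g (hg : IsFinite ((Over.forget S).map g)) =>
        (inferInstanceAs (QuasiCompact ((Over.forget S).map g)))) _ hfin)
      (MorphismProperty.relative_monotone (fun _ _ g (hg : IsFinite ((Over.forget S).map g)) =>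
        (inferInstanceAs (QuasiSeparated ((Over.forget S).map g)))) _ hfin) M
  have key : ∀ (E : EtOver Y) [IsAffine E.obj.left.left],
      Module.Finite (fnA (EtOver.bcObj hf E)) (sectModEt M (EtOver.bcObj hf E)) ↔
        Module.Finite (fnA E) (sectModEt ((pushModEt hf).obj M) E) := by
    intro E _
    let φ : fnA E →+* fnA (EtOver.bcObj hf E) := (EtOver.bcπ hf E).left.appTop.hom
    haveI : IsFinite (EtOver.bcπ hf E).left :=
      hfin.property E.obj.hom (EtOver.bcObj hf E).obj.hom (EtOver.bcπ hf E) (EtOver.isPullback_bcObj hf E)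
    letI : Algebra (fnA E) (fnA (EtOver.bcObj hf E)) := φ.toAlgebra
    haveI : Module.Finite (fnA E) (fnA (EtOver.bcObj hf E)) :=
      IsFinite.finite_app (EtOver.bcπ hf E).left ⊤ (isAffineOpen_top _)
    haveI : IsScalarTower (fnA E) (fnA (EtOver.bcObj hf E)) (SecRing M (EtOver.bcObj hf E) φ) :=
      IsScalarTower.of_algebraMap_smul fun _ _ => rfl
    constructor
    · intro hM
      haveI : Module.Finite (fnA (EtOver.bcObj hf E)) (SecRing M (EtOver.bcObj hf E) φ) := hM
      haveI : Module.Finite (fnA E) (SecRing M (EtOver.bcObj hf E) φ) :=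
        Module.Finite.trans (fnA (EtOver.bcObj hf E)) _
      exact Module.Finite.equiv (pushSecEquiv hf M E)
    · intro hM
      haveI : Module.Finite (fnA E) (SecRing M (EtOver.bcObj hf E) φ) :=
        Module.Finite.equiv (pushSecEquiv hf M E).symm
      exact Module.Finite.of_restrictScalars_finite (fnA E) (fnA (EtOver.bcObj hf E)) (SecRing M (EtOver.bcObj hf E) φ)
  constructor
  · intro _
    exact isFiniteType_of_cover _ (fun E : {E : EtOver Y // IsAffine E.obj.left.left} => E.1) coversTop_affine
      (fun E => E.2) fun E =>
        haveI := E.2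
        haveI := isAffine_bc hf haf E.1
        (key E.1).1 (finite_sectModEt M _)
  · intro _
    exact isFiniteType_of_cover M _ (coversTop_bc_affine hf hY)
      (fun E => haveI := E.2; isAffine_bc hf haf E.1) fun E =>
        haveI := E.2
        (key E.1).2 (finite_sectModEt _ E.1)

/-- Finite presentation of a module is that of its direct image, for finite morphisms of finite presentation. -/
theorem isFinitePresentation_push_iff (hY : IsAlgSpace Y) (hfin : RepWith @IsFinite f)
    (hlfp : RepWith @LocallyOfFinitePresentation f) (M : ModEt X) [M.IsQuasicoherent] :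
    M.IsFinitePresentation ↔ ((pushModEt hf).obj M).IsFinitePresentation := by
  have haf : RepWith @IsAffineHom f :=
    MorphismProperty.relative_monotone
      (fun _ _ g (hg : IsFinite ((Over.forget S).map g)) => (inferInstanceAs (IsAffineHom ((Over.forget S).map g)))) _ hfin
  have hq : ((pushModEt hf).obj M).IsQuasicoherent :=
    isQuasicoherent_push hf (MorphismProperty.relative_monotone (fun _ _ g (hg : IsFinite ((Over.forget S).map g)) =>
        (inferInstanceAs (QuasiCompact ((Over.forget S).map g)))) _ hfin)
      (MorphismProperty.relative_monotone (fun _ _ g (hg : IsFinite ((Over.forget S).map g)) =>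
        (inferInstanceAs (QuasiSeparated ((Over.forget S).map g)))) _ hfin) M
  have key : ∀ (E : EtOver Y) [IsAffine E.obj.left.left],
      Module.FinitePresentation (fnA (EtOver.bcObj hf E)) (sectModEt M (EtOver.bcObj hf E)) ↔
        Module.FinitePresentation (fnA E) (sectModEt ((pushModEt hf).obj M) E) := by
    intro E _
    haveI := isAffine_bc hf haf E
    let φ : fnA E →+* fnA (EtOver.bcObj hf E) := (EtOver.bcπ hf E).left.appTop.hom
    haveI : IsFinite (EtOver.bcπ hf E).left :=
      hfin.property E.obj.hom (EtOver.bcObj hf E).obj.hom (EtOver.bcπ hf E) (EtOver.isPullback_bcObj hf E)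
    haveI : LocallyOfFinitePresentation (EtOver.bcπ hf E).left :=
      hlfp.property E.obj.hom (EtOver.bcObj hf E).obj.hom (EtOver.bcπ hf E) (EtOver.isPullback_bcObj hf E)
    letI : Algebra (fnA E) (fnA (EtOver.bcObj hf E)) := φ.toAlgebra
    haveI : Module.Finite (fnA E) (fnA (EtOver.bcObj hf E)) :=
      IsFinite.finite_app (EtOver.bcπ hf E).left ⊤ (isAffineOpen_top _)
    haveI : Algebra.FinitePresentation (fnA E) (fnA (EtOver.bcObj hf E)) :=
      HasRingHomProperty.appTop @LocallyOfFinitePresentation (EtOver.bcπ hf E).left inferInstance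
    haveI : Module.FinitePresentation (fnA E) (fnA (EtOver.bcObj hf E)) :=
      .of_finite_of_finitePresentation _ _
    let N := SecRing M (EtOver.bcObj hf E) φ
    haveI : IsScalarTower (fnA E) (fnA (EtOver.bcObj hf E)) N := IsScalarTower.of_algebraMap_smul fun _ _ => rfl
    constructor
    · intro hM
      haveI : Module.FinitePresentation (fnA (EtOver.bcObj hf E)) N := hM
      haveI : Module.FinitePresentation (fnA E) N := Module.FinitePresentation.trans (fnA E) N (fnA (EtOver.bcObj hf E))
      exact Module.FinitePresentation.of_equiv (pushSecEquiv hf M E)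
    · intro hM
      haveI : Module.FinitePresentation (fnA E) N := Module.FinitePresentation.of_equiv (pushSecEquiv hf M E).symm
      haveI : Module.Finite (fnA (EtOver.bcObj hf E)) N :=
        Module.Finite.of_restrictScalars_finite (fnA E) (fnA (EtOver.bcObj hf E)) N
      show Module.FinitePresentation (fnA (EtOver.bcObj hf E)) N
      obtain ⟨n, π, hπ⟩ := Module.Finite.exists_fin' (fnA (EtOver.bcObj hf E)) N
      refine Module.finitePresentation_of_surjective π hπ ?_
      have hfg := Module.FinitePresentation.fg_ker (π.restrictScalars (fnA E)) hπ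
      rw [LinearMap.ker_restrictScalars] at hfg
      exact Submodule.FG.of_restrictScalars (fnA E) hfg
  constructor
  · intro _
    exact isFinitePresentation_of_cover _ (fun E : {E : EtOver Y // IsAffine E.obj.left.left} => E.1) coversTop_affine
      (fun E => E.2) fun E =>
        haveI := E.2
        haveI := isAffine_bc hf haf E.1
        (key E.1).1 (finitePresentation_sectModEt M _)
  · intro _
    exact isFinitePresentation_of_cover M _ (coversTop_bc_affine hf hY)
      (fun E => haveI := E.2; isAffine_bc hf haf E.1) fun E =>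
        haveI := E.2
        (key E.1).2 (finitePresentation_sectModEt _ E.1)

end finitePush

end Groth.ModEtQCoh
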