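import Groth.Agent.ModEtQCoh.Free
import Mathlib.Algebra.Category.ModuleCat.Sheaf.Quasicoherent
import Mathlib.Algebra.Category.ModuleCat.Sheaf.Limits
import Mathlib.CategoryTheory.Preadditive.LeftExact

/-!
# Presented modules on the small etale site: sections over affine objects
-/

set_option autoImplicit false
set_option backward.isDefEq.respectTransparency.types false
set_option maxHeartbeats 1200000
universe u

open CategoryTheory CategoryTheory.Limits AlgebraicGeometry Opposite AlgSp TensorProduct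

namespace Groth.ModEtQCoh

variable {S : Scheme.{u}} {X : Sp S} {Y : EtOver X}

theorem exists_kernel_preimage {K L : ModOver Y} (p : K ⟶ L) {V : Over Y} {y : SecO K V}
    (hy : appO p V y = 0) : ∃ κ : SecO (kernel p) V, appO (kernel.ι p) V κ = y := by
  let F := SheafOfModules.evaluation ((OEtRing X).over Y) (op V)
  haveI : F.Additive := ⟨fun {_ _ _ _} => rfl⟩
  let C := (ShortComplex.mk (kernel.ι p) p (kernel.condition p)).map F
  have h2 : C.Exact :=
    ShortComplex.exact_of_f_is_kernel _ (KernelFork.mapIsLimit _ (kernelIsKernel p) F)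
  exact (ShortComplex.moduleCat_exact_iff _).1 h2 y hy

theorem surjective_of_isBC_id {U : Over Y} {K : ModOver Y} {N : Type (u + 1)} [AddCommGroup N]
    [Module (fnA U.left) N] (φ : N →ₗ[fnA U.left] SecO K U) (h : IsBC (slO K φ (𝟙 U))) :
    Function.Surjective φ := by
  intro s
  obtain ⟨z, rfl⟩ := h.2 s
  let := (resA (𝟙 U : U ⟶ U).left).toAlgebra
  induction z using TensorProduct.induction_on with
  | zero => exact ⟨0, (map_zero φ).trans (map_zero (bcLift (slO K φ (𝟙 U)))).symm⟩
  | tmul b n =>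
    refine ⟨b • n, ?_⟩
    rw [bcLift_tmul, map_smul]
    exact congrArg (b • ·) (resO_id K (φ n)).symm
  | add a b ha hb =>
    obtain ⟨n, hn⟩ := ha
    obtain ⟨m, hm⟩ := hb
    exact ⟨n + m, by rw [map_add, hn, hm]; exact (map_add (bcLift (slO K φ (𝟙 U))) a b).symm⟩

theorem isBC_of_exact {K : ModOver Y} {I J : Type (u + 1)} (π : freeO Y I ⟶ K) [Epi π]
    (ρ : freeO Y J ⟶ kernel π) [Epi ρ] (U : Over Y) [IsAffine U.left.obj.left.left]
    {N : Type (u + 1)} [AddCommGroup N] [Module (fnA U.left) N]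
    (T : (J →₀ fnA U.left) →ₗ[fnA U.left] (I →₀ fnA U.left)) (q : (I →₀ fnA U.left) →ₗ[fnA U.left] N)
    (hq : Function.Surjective q) (hqT : q ∘ₗ T = 0) (φ : N →ₗ[fnA U.left] SecO K U)
    (hφ : ∀ n, φ (q n) = appO π U (eFree I U n))
    (hT : ∀ n, eFree I U (T n) = appO (ρ ≫ kernel.ι π) U (eFree J U n))
    (V : Over Y) [IsAffine V.left.obj.left.left] (g : V ⟶ U) : IsBC (slO K φ g) := by
  have hπ : ∀ (W : Over Y) (k : W ⟶ U) (n : I →₀ fnA U.left),
      slO K φ k (q n) = appO π W (slO (freeO Y I) (eFree I U) k n) := fun W k n =>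
    (congrArg (resO K k) (hφ n)).trans (appO_resO π k (eFree I U n)).symm
  have hr : ∀ (W : Over Y) (k : W ⟶ U) (n : J →₀ fnA U.left),
      slO (freeO Y I) (eFree I U) k (T n) = appO (ρ ≫ kernel.ι π) W (slO (freeO Y J) (eFree J U) k n) :=
    fun W k n => (congrArg (resO _ k) (hT n)).trans (appO_resO (ρ ≫ kernel.ι π) k (eFree J U n)).symm
  refine isBC_of_local ?_ ?_ V g
  · intro V' _ g' z hz
    obtain ⟨z₁, hz₁⟩ := mapN_surjective (resA g'.left) hq z
    subst hz₁
    rw [bcLift_mapN (slO (freeO Y I) (eFree I U) g') (slO K φ g') q (appO π V') (hπ V' g') z₁] at hz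
    obtain ⟨κ, hκ⟩ := exists_kernel_preimage π hz
    obtain ⟨n, W, h, hW, hcov, hl⟩ := exists_local_preimage ρ κ
    refine ⟨n, W, h, hW, hcov, fun i => ?_⟩
    obtain ⟨w, hw⟩ := hl i
    obtain ⟨zJ, hzJ⟩ := (isBC_eFree J U (W i) (h i ≫ g')).2 w
    have key : mapTens (resA g'.left) (resA (h i).left) _ (resA (h i ≫ g').left) (resA_comp_apply (h i) g') z₁ =
        mapN (resA (h i ≫ g').left) T zJ := by
      refine (isBC_eFree I U (W i) (h i ≫ g')).1 ?_
      rw [bcLift_mapN (slO (freeO Y J) (eFree J U) (h i ≫ g')) (slO (freeO Y I) (eFree I U) (h i ≫ g')) T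
          (appO (ρ ≫ kernel.ι π) (W i)) (hr (W i) (h i ≫ g')) zJ,
        bcLift_slO_map (freeO Y I) (eFree I U) (h i) g' (h i ≫ g') rfl _ z₁, hzJ, ← hκ, ← appO_resO]
      exact (congrArg (appO (kernel.ι π) (W i)) hw).symm
    rw [mapTens_mapN, key]
    exact mapN_mapN_eq_zero _ hqT zJ
  · intro V' _ g' s
    obtain ⟨n, W, h, hW, hcov, hl⟩ := exists_local_preimage π s
    refine ⟨n, W, h, hW, hcov, fun i => ?_⟩
    obtain ⟨w, hw⟩ := hl i
    obtain ⟨z₁, hz₁⟩ := (isBC_eFree I U (W i) (h i ≫ g')).2 w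
    exact ⟨mapN (resA (h i ≫ g').left) q z₁,
      (bcLift_mapN (slO (freeO Y I) (eFree I U) (h i ≫ g')) (slO K φ (h i ≫ g')) q (appO π (W i))
        (hπ (W i) (h i ≫ g')) z₁).trans ((congrArg (appO π (W i)) hz₁).trans hw)⟩

/-- A presented module is quasi-coherent in the naive sense on affine objects of the slice. -/
theorem exists_isBC_of_presentation {K : ModOver Y} (p : K.Presentation) (U : Over Y)
    [IsAffine U.left.obj.left.left] :
    ∃ (N : Type (u + 1)) (_ : AddCommGroup N) (_ : Module (fnA U.left) N) (φ : N →ₗ[fnA U.left] SecO K U),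
      ∀ (V : Over Y) [IsAffine V.left.obj.left.left] (g : V ⟶ U), IsBC (slO K φ g) := by
  let I := p.generators.I
  let J := p.relations.I
  let π : freeO Y I ⟶ K := p.generators.π
  let ρ : freeO Y J ⟶ kernel π := p.relations.π
  haveI : Epi π := p.generators.epi
  haveI : Epi ρ := p.relations.epi
  choose t ht using fun j =>
    surjective_of_isBC_id (eFree I U) (isBC_eFree I U U (𝟙 U)) (appO (ρ ≫ kernel.ι π) U (gen J U j))
  let T : (J →₀ fnA U.left) →ₗ[fnA U.left] (I →₀ fnA U.left) := Finsupp.linearCombination _ t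
  have hT : ∀ n, eFree I U (T n) = appO (ρ ≫ kernel.ι π) U (eFree J U n) := by
    intro n
    induction n using Finsupp.induction_linear with
    | zero => simp
    | add a b ha hb => simp only [map_add, ha, hb]
    | single j a =>
      simp only [T, eFree, Finsupp.linearCombination_single, map_smul] at ht ⊢
      rw [ht j]
  let φ : (I →₀ fnA U.left) ⧸ LinearMap.range T →ₗ[fnA U.left] SecO K U :=
    (LinearMap.range T).liftQ (appO π U ∘ₗ eFree I U) (by
      rintro _ ⟨n, rfl⟩
      have h0 : (ρ ≫ kernel.ι π) ≫ π = 0 := by simp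
      rw [LinearMap.mem_ker, LinearMap.comp_apply, hT]
      exact congrArg (fun k : freeO Y J ⟶ K => appO k U (eFree J U n)) h0)
  exact ⟨_, inferInstance, inferInstance, φ, fun V _ g =>
    isBC_of_exact π ρ U T (LinearMap.range T).mkQ (Submodule.mkQ_surjective _) (LinearMap.range_mkQ_comp T) φ
      (fun n => rfl) hT V g⟩

end Groth.ModEtQCoh
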