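import Groth.Agent.ModEtQCoh.PullEt
import Groth.Agent.ModEtQCoh.Presented
import Groth.Agent.ModEtQCoh.FinPres

/-!
# Sections of inverse images over affine objects
-/

set_option autoImplicit false
set_option backward.isDefEq.respectTransparency.types false
set_option backward.isDefEq.respectTransparency false
set_option linter.style.haveILetI false
universe u

open CategoryTheory CategoryTheory.Limits AlgebraicGeometry Opposite AlgSp TensorProduct SheafOfModules

namespace Groth.ModEtQCoh

/-- Compatible presentations upstairs and downstairs make a semilinear map a base change. -/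
theorem isBC_of_presentations {A B : Type u} [CommRing A] [CommRing B] {f : A →+* B}
    {N W : Type (u + 1)} [AddCommGroup N] [Module A N] [AddCommGroup W] [Module B W]
    {I J : Type (u + 1)} (ψ : N →ₛₗ[f] W) (c : (I →₀ A) →ₗ[A] N) (c' : (I →₀ B) →ₗ[B] W)
    (hc : Function.Surjective c) (hc' : Function.Surjective c')
    (hcomp : ∀ i, ψ (c (Finsupp.single i 1)) = c' (Finsupp.single i 1))
    (t : J → (I →₀ A)) (ht : ∀ j, c (t j) = 0)
    (hker : LinearMap.ker c' ≤ Submodule.span B (Set.range fun j => Finsupp.mapRange f (map_zero f) (t j))) :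
    IsBC ψ := by
  letI := f.toAlgebra
  let g₀ : (I →₀ B) →ₗ[B] B ⊗[A] N :=
    Finsupp.linearCombination B fun i => (1 : B) ⊗ₜ[A] c (Finsupp.single i 1)
  have hg : ∀ n : I →₀ A, g₀ (Finsupp.mapRange f (map_zero f) n) = (1 : B) ⊗ₜ[A] c n := by
    intro n
    induction n using Finsupp.induction_linear with
    | zero => simp
    | add a b ha hb => rw [Finsupp.mapRange_add (map_add f), map_add, map_add, ha, hb, TensorProduct.tmul_add]
    | single i a =>
      rw [Finsupp.mapRange_single, Finsupp.linearCombination_single, ← Finsupp.smul_single_one i a, map_smul,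
        ← TensorProduct.smul_tmul, TensorProduct.smul_tmul']
      show (f a * 1) ⊗ₜ[A] _ = (a • (1 : B)) ⊗ₜ[A] _
      rw [Algebra.smul_def]
      rfl
  have hL : ∀ w, bcLift ψ (g₀ w) = c' w := by
    intro w
    induction w using Finsupp.induction_linear with
    | zero => simp only [map_zero]
    | add a b ha hb => rw [map_add, map_add c', ← ha, ← hb]; exact map_add (bcLift ψ) _ _
    | single i b =>
      rw [Finsupp.linearCombination_single, TensorProduct.smul_tmul', smul_eq_mul, mul_one]
      refine (bcLift_tmul ψ b _).trans ?_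
      rw [hcomp, ← map_smul, Finsupp.smul_single_one]
  have hs : Function.Surjective g₀ := by
    intro z
    induction z using TensorProduct.induction_on with
    | zero => exact ⟨0, map_zero _⟩
    | tmul b n =>
      obtain ⟨m, rfl⟩ := hc n
      exact ⟨b • Finsupp.mapRange f (map_zero f) m, by
        rw [map_smul, hg, TensorProduct.smul_tmul', smul_eq_mul, mul_one]⟩
    | add a b ha hb =>
      obtain ⟨x, rfl⟩ := ha
      obtain ⟨y, rfl⟩ := hb
      exact ⟨x + y, map_add _ _ _⟩
  refine ⟨(injective_iff_map_eq_zero (bcLift ψ)).2 fun z hz => ?_, fun w => ?_⟩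
  · obtain ⟨w, rfl⟩ := hs z
    have h : Submodule.span B (Set.range fun j => Finsupp.mapRange f (map_zero f) (t j)) ≤ LinearMap.ker g₀ := by
      rw [Submodule.span_le]
      rintro _ ⟨j, rfl⟩
      show g₀ _ = 0
      rw [hg, ht, TensorProduct.tmul_zero]
    exact h (hker (show c' w = 0 by rw [← hL]; exact hz))
  · obtain ⟨v, rfl⟩ := hc' w
    exact ⟨g₀ v, hL v⟩

variable {S : Scheme.{u}} {X : Sp S}

theorem map_linearCombination_semilinear {A B : Type u} [CommRing A] [CommRing B] {f : A →+* B}
    {M N : Type (u + 1)} [AddCommGroup M] [Module A M] [AddCommGroup N] [Module B N] (L : M →ₛₗ[f] N)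
    {I : Type (u + 1)} (g : I → M) (n : I →₀ A) :
    L (Finsupp.linearCombination A g n) =
      Finsupp.linearCombination B (fun i => L (g i)) (Finsupp.mapRange f (map_zero f) n) := by
  induction n using Finsupp.induction_linear with
  | zero => simp
  | add p q hp hq => rw [Finsupp.mapRange_add (map_add f), map_add, map_add, map_add, hp, hq]
  | single i b =>
    rw [Finsupp.mapRange_single, Finsupp.linearCombination_single, Finsupp.linearCombination_single, map_smulₛₗ]

theorem appO_comp {Y : EtOver X} {K L P : ModOver Y} (a : K ⟶ L) (b : L ⟶ P) (U : Over Y) (s : SecO K U) :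
    appO (a ≫ b) U s = appO b U (appO a U s) := rfl

/-- Surjectivity and relations of the sections of a presented module over an affine object. -/
theorem presentation_sections {Y : EtOver X} {K : ModOver Y} {I J : Type (u + 1)} (π : freeO Y I ⟶ K)
    (r : freeO Y J ⟶ freeO Y I) (h0 : r ≫ π = 0) (hl : IsColimit (CokernelCofork.ofπ π h0)) (U : Over Y)
    [IsAffine U.left.obj.left.left] (t : J → (I →₀ fnA U.left)) (ht : ∀ j, eFree I U (t j) = appO r U (gen J U j)) :
    Function.Surjective (appO π U ∘ₗ eFree I U) ∧
      LinearMap.ker (appO π U ∘ₗ eFree I U) = Submodule.span (fnA U.left) (Set.range t) := by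
  haveI : Epi π := Cofork.IsColimit.epi hl
  let ρ : freeO Y J ⟶ kernel π := kernel.lift π r h0
  haveI : Epi ρ := (ShortComplex.exact_iff_epi_kernel_lift (ShortComplex.mk r π h0)).1
    (ShortComplex.exact_of_g_is_cokernel _ hl)
  let T : (J →₀ fnA U.left) →ₗ[fnA U.left] (I →₀ fnA U.left) := Finsupp.linearCombination _ t
  have hT : ∀ n, eFree I U (T n) = appO (ρ ≫ kernel.ι π) U (eFree J U n) := by
    intro n
    rw [show ρ ≫ kernel.ι π = r from kernel.lift_ι π r h0]
    induction n using Finsupp.induction_linear with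
    | zero => simp
    | add a b ha hb => simp only [map_add, ha, hb]
    | single j a =>
      simp only [T, eFree, Finsupp.linearCombination_single, map_smul] at ht ⊢
      rw [ht j]
  have h0' : LinearMap.range T ≤ LinearMap.ker (appO π U ∘ₗ eFree I U) := by
    rintro _ ⟨n, rfl⟩
    have h1 : (ρ ≫ kernel.ι π) ≫ π = 0 := by rw [Category.assoc, kernel.condition, comp_zero]
    rw [LinearMap.mem_ker, LinearMap.comp_apply, hT]
    exact congrArg (fun k : freeO Y J ⟶ K => appO k U (eFree J U n)) h1
  let φ : (I →₀ fnA U.left) ⧸ LinearMap.range T →ₗ[fnA U.left] SecO K U :=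
    (LinearMap.range T).liftQ (appO π U ∘ₗ eFree I U) h0'
  have h := isBC_of_exact π ρ U T (LinearMap.range T).mkQ (Submodule.mkQ_surjective _)
    (LinearMap.range_mkQ_comp T) φ (fun n => rfl) hT U (𝟙 U)
  have he : appO π U ∘ₗ eFree I U = φ ∘ₗ (LinearMap.range T).mkQ := rfl
  refine ⟨?_, ?_⟩
  · rw [he]
    exact (surjective_of_isBC_id φ h).comp (Submodule.mkQ_surjective _)
  · rw [he, LinearMap.ker_comp, LinearMap.ker_eq_bot.2 (injective_of_isBC_id φ h), Submodule.comap_bot,
      Submodule.ker_mkQ]
    exact Finsupp.range_linearCombination _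

section unit

variable {Y : Sp S} {f : X ⟶ Y} (hf : Representable f)
  [(SheafOfModules.pushforward.{u + 1} (bcRingHom hf)).IsRightAdjoint]

/-- The unit on sections, into the sections over the base change. -/
noncomputable def pullUnitM (G : ModEt Y) (E : EtOver Y) :
    sectModEt G E →ₛₗ[(EtOver.bcπ hf E).left.appTop.hom] sectModEt ((pullModEt hf).obj G) (EtOver.bcObj hf E) where
  toFun s := appM ((pullPushAdjModEt hf).unit.app G) E s
  map_add' := map_add (appM ((pullPushAdjModEt hf).unit.app G) E)
  map_smul' a s := (appM ((pullPushAdjModEt hf).unit.app G) E).map_smul a s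

/-- Pullback of functions to the base change, on a slice. -/
noncomputable abbrev postA {E : EtOver Y} (U : Over E) :
    fnA U.left →+* fnA ((Over.post (EtOver.bc hf)).obj U).left :=
  (EtOver.bcπ hf U.left).left.appTop.hom

/-- A morphism into a module pushed to a slice, as a semilinear map on sections. -/
noncomputable def appPush {E : EtOver Y} {K : ModOver E} {N : ModOver ((EtOver.bc hf).obj E)}
    (a : K ⟶ (SheafOfModules.pushforward (postHom (bcRingHom hf) E)).obj N) (U : Over E) :
    SecO K U →ₛₗ[postA hf U] SecO N ((Over.post (EtOver.bc hf)).obj U) where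
  toFun s := appO a U s
  map_add' := map_add (appO a U)
  map_smul' b s := (appO a U).map_smul b s

omit [(SheafOfModules.pushforward.{u + 1} (bcRingHom hf)).IsRightAdjoint] in
theorem appPush_comp {E : EtOver Y} {K L : ModOver E} {N : ModOver ((EtOver.bc hf).obj E)} (q : K ⟶ L)
    (a : L ⟶ (SheafOfModules.pushforward (postHom (bcRingHom hf) E)).obj N) (U : Over E) (s : SecO K U) :
    appPush hf (q ≫ a) U s = appPush hf a U (appO q U s) := rfl

omit [(SheafOfModules.pushforward.{u + 1} (bcRingHom hf)).IsRightAdjoint] in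
theorem appPush_freeEquiv {E : EtOver Y} {I : Type (u + 1)} {N : ModOver ((EtOver.bc hf).obj E)}
    (a : freeO ((EtOver.bc hf).obj E) I ⟶ N) (U : Over E) (i : I) :
    appPush hf (freeEquiv (bcRingHom hf) E I N a) U (gen I U i) =
      appO a ((Over.post (EtOver.bc hf)).obj U) (gen I ((Over.post (EtOver.bc hf)).obj U) i) :=
  freeEquiv_app (bcRingHom hf) E a U i

omit [(SheafOfModules.pushforward.{u + 1} (bcRingHom hf)).IsRightAdjoint] in
theorem appPush_of_eq {E : EtOver Y} {K L : ModOver E} {N : ModOver ((EtOver.bc hf).obj E)}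
    {a : K ⟶ (SheafOfModules.pushforward (postHom (bcRingHom hf) E)).obj N} {q : K ⟶ L}
    {b : L ⟶ (SheafOfModules.pushforward (postHom (bcRingHom hf) E)).obj N} (h : a = q ≫ b) (U : Over E)
    (s : SecO K U) : appPush hf a U s = appPush hf b U (appO q U s) := by
  rw [h]
  rfl

theorem appPush_overHomEquiv_id (G : ModEt Y) (E : EtOver Y) (U : Over E) (s : SecO (G.over E) U) :
    appPush hf (overHomEquiv (bcRingHom hf) E G _ (𝟙 _)) U s = pullUnitM hf G U.left s :=
  overHomEquiv_id_app (bcRingHom hf) E G U s

set_option maxHeartbeats 1000000 in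
theorem rel_transport {E : EtOver Y} {I J : Type (u + 1)} (r : freeO E J ⟶ freeO E I)
    (r' : freeO ((EtOver.bc hf).obj E) J ⟶ freeO ((EtOver.bc hf).obj E) I)
    (hr : freeEquiv (bcRingHom hf) E J _ r' = r ≫ freeEquiv (bcRingHom hf) E I _ (𝟙 _)) (U : Over E)
    (t : I →₀ fnA U.left) (j : J) (ht : eFree I U t = appO r U (gen J U j)) :
    eFree I ((Over.post (EtOver.bc hf)).obj U) (Finsupp.mapRange (postA hf U) (map_zero _) t) =
      appO r' ((Over.post (EtOver.bc hf)).obj U) (gen J ((Over.post (EtOver.bc hf)).obj U) j) := by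
  have hgen : (fun i => appPush hf (freeEquiv (bcRingHom hf) E I _ (𝟙 _)) U (gen I U i)) =
      gen I ((Over.post (EtOver.bc hf)).obj U) :=
    funext fun i => appPush_freeEquiv hf (𝟙 _) U i
  have e1 := appPush_freeEquiv hf r' U j
  have e2 := appPush_of_eq hf hr U (gen J U j)
  have e3 := map_linearCombination_semilinear (appPush hf (freeEquiv (bcRingHom hf) E I _ (𝟙 _)) U) (gen I U) t
  rw [hgen] at e3
  rw [← ht] at e2
  exact e3.symm.trans (e2.symm.trans e1)

set_option maxHeartbeats 1000000 in
theorem gen_transport (G : ModEt Y) {E : EtOver Y} {I : Type (u + 1)} (π₀ : freeO E I ⟶ G.over E)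
    (π : freeO ((EtOver.bc hf).obj E) I ⟶ ((pullModEt hf).obj G).over ((EtOver.bc hf).obj E))
    (hπ : freeEquiv (bcRingHom hf) E I _ π = π₀ ≫ overHomEquiv (bcRingHom hf) E G _ (𝟙 _)) (U : Over E) (i : I) :
    pullUnitM hf G U.left (appO π₀ U (gen I U i)) =
      appO π ((Over.post (EtOver.bc hf)).obj U) (gen I ((Over.post (EtOver.bc hf)).obj U) i) := by
  have e1 := appPush_freeEquiv hf π U i
  have e2 := appPush_of_eq hf hπ U (gen I U i)
  exact (appPush_overHomEquiv_id hf G E U _).symm.trans (e2.symm.trans e1)

set_option maxHeartbeats 1600000 in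
theorem isBC_pullUnit_of_presentation (G : ModEt Y) (E : EtOver Y) (p : (G.over E).Presentation)
    (U : Over E) [IsAffine U.left.obj.left.left] [IsAffine (EtOver.bcObj hf U.left).obj.left.left] :
    IsBC (pullUnitM hf G U.left) := by
  obtain ⟨r', π, h0, ⟨hl⟩, hr, hπ⟩ := exists_cokernel_pullOver (bcRingHom hf) E G p
  let U' := (Over.post (EtOver.bc hf)).obj U
  haveI : IsAffine U'.left.obj.left.left := ‹IsAffine (EtOver.bcObj hf U.left).obj.left.left›
  let I := p.generators.I
  let J := p.relations.I
  let r : freeO E J ⟶ freeO E I := (freeHomEquiv _).symm p.relations.s ≫ kernel.ι p.generators.π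
  choose t ht using fun j =>
    surjective_of_isBC_id (eFree I U) (isBC_eFree I U U (𝟙 U)) (appO r U (gen J U j))
  obtain ⟨hs, hk⟩ := presentation_sections p.generators.π r _ p.isColimit U t ht
  let φA := postA hf U
  have ht' : ∀ j, eFree I U' (Finsupp.mapRange φA (map_zero φA) (t j)) = appO r' U' (gen J U' j) := fun j =>
    rel_transport hf r r' hr U (t j) j (ht j)
  obtain ⟨hs', hk'⟩ := presentation_sections π r' h0 hl U' (fun j => Finsupp.mapRange φA (map_zero φA) (t j)) ht'
  refine isBC_of_presentations (pullUnitM hf G U.left) (appO p.generators.π U ∘ₗ eFree I U)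
    (appO π U' ∘ₗ eFree I U') hs hs' (fun i => ?_) t (fun j => ?_) hk'.le
  · show pullUnitM hf G U.left (appO p.generators.π U (eFree I U (Finsupp.single i 1))) =
      appO π U' (eFree I U' (Finsupp.single i 1))
    rw [eFree, Finsupp.linearCombination_single, one_smul, eFree, Finsupp.linearCombination_single, one_smul]
    exact gen_transport hf G p.generators.π π hπ U i
  · exact LinearMap.mem_ker.1 (hk.ge (Submodule.subset_span ⟨j, rfl⟩))

/-- Sections of an inverse image over the base change of an affine object. -/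
theorem isBC_pullUnit (G : ModEt Y) [G.IsQuasicoherent] (E : EtOver Y) [IsAffine E.obj.left.left]
    [IsAffine (EtOver.bcObj hf E).obj.left.left] : IsBC (pullUnitM hf G E) := by
  obtain ⟨p⟩ := exists_presentation_of_hasBC (hasBC_of_isQuasicoherent G) E
  haveI : IsAffine (topO E).left.obj.left.left := ‹IsAffine E.obj.left.left›
  haveI : IsAffine (EtOver.bcObj hf (topO E).left).obj.left.left :=
    ‹IsAffine (EtOver.bcObj hf E).obj.left.left›
  exact isBC_pullUnit_of_presentation hf G E p (topO E)

end unit

end Groth.ModEtQCoh
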