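import Groth.Agent.ModEtQCoh.CoherentUnion
import Groth.Agent.ModEtQCoh.PullSections
import Groth.Agent.ModEtQCoh.Morphisms
import Groth.Agent.ModEtQCoh.PullExist

/-!
# Quasi-coherent modules on a space affine over a Noetherian one, as colimits of finitely presented ones
-/

set_option autoImplicit false
set_option backward.isDefEq.respectTransparency.types false
set_option linter.style.haveILetI false
set_option maxHeartbeats 1600000
universe u

open CategoryTheory CategoryTheory.Limits AlgebraicGeometry Opposite AlgSp TensorProduct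
  Groth.ModEtQCoh.SpanFamily Groth.ModEtQCoh.CoherentUnion

namespace Groth.ModEtQCoh.AffinePres

noncomputable section

attribute [local instance] PullExist.isRightAdjoint_push

section General

variable {S : Scheme.{u}} {X : Sp S}

/-- A section killed by the cokernel projection is a value. -/
theorem exists_preimage_of_cokernel {P N : ModEt X} [P.IsQuasicoherent] [N.IsQuasicoherent] (π : P ⟶ N)
    (E : EtOver X) [IsAffine E.obj.left.left] (t : sectModEt N E) (ht : appM (cokernel.π π) E t = 0) :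
    ∃ a, appM π E a = t := by
  obtain ⟨κ, hκ⟩ := exists_preimage_kernel (cokernel.π π) ht
  haveI : (Abelian.image π).IsQuasicoherent := isQuasicoherent_of_hasBC
    (hasBC_kernel (hasBC_of_isQuasicoherent N)
      (hasBC_cokernel (hasBC_of_isQuasicoherent P) (hasBC_of_isQuasicoherent N) π) (cokernel.π π))
  obtain ⟨a, ha⟩ := appM_surjective_of_epi (Abelian.factorThruImage π) E κ
  refine ⟨a, ?_⟩
  refine (congrArg (fun k : P ⟶ N => appM k E a) (Abelian.image.fac π)).symm.trans ?_
  exact (appM_comp _ _ E a).trans ((congrArg _ ha).trans hκ)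

variable [QuasiSeparatedSpace ↥S] (hXqs : IsQuasiSeparatedSp X) {V : EtOver X} [IsAffine V.obj.left.left]
  (hsurj : Function.Surjective (Points.ofPt V.obj.hom))

include hXqs hsurj in
/-- A morphism out of a quasi-coherent module vanishes when it does on a surjective chart. -/
theorem eq_zero_of_chart {A B : ModEt X} [A.IsQuasicoherent] (d : A ⟶ B)
    (h : ∀ x : sectModEt A V, appM d V x = 0) : d = 0 := by
  refine hom_ext_affine fun E _ s => ?_
  obtain ⟨n, W, w, hW, hcov⟩ := exists_affine_cover_prod hXqs E V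
  refine resM_ext B (jointlySurj_prod hsurj w hcov) fun j => ?_
  haveI := hW j
  show resM B _ (appM d E s) = resM B _ (appM (0 : A ⟶ B) E s)
  rw [← appM_resM, show appM (0 : A ⟶ B) E s = 0 from rfl, map_zero]
  obtain ⟨z, hz⟩ := (isBC_resM A (w j ≫ EtOver.prodSnd E V)).2 (resM A (w j ≫ EtOver.prodFst E V) s)
  rw [← hz]
  clear hz
  letI := (resA (w j ≫ EtOver.prodSnd E V)).toAlgebra
  induction z using TensorProduct.induction_on with
  | zero => rw [map_zero, map_zero]
  | tmul c x =>
    rw [show bcLift (resM A (w j ≫ EtOver.prodSnd E V)) (c ⊗ₜ x) = c • _ from bcLift_tmul _ c x, map_smul,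
      appM_resM, h, map_zero, smul_zero]
  | add x y hx hy => erw [map_add, map_add]; rw [hx, hy, add_zero]

variable (V) in
include hXqs hsurj in
/-- Every section is in the image of every morphism whose image contains suitable finitely many on the chart. -/
theorem exists_finset_of_section {N : ModEt X} [N.IsQuasicoherent] (E : EtOver X) [IsAffine E.obj.left.left]
    (t : sectModEt N E) :
    ∃ F : Finset (sectModEt N V), ∀ {P : ModEt X} [P.IsQuasicoherent] (π : P ⟶ N),
      (∀ m ∈ F, ∃ a, appM π V a = m) → ∃ a, appM π E a = t := by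
  obtain ⟨F, hF, hmem⟩ := exists_finite_mem N hXqs (U := V) E t
  refine ⟨hF.toFinset, fun {P} _ π h => exists_preimage_of_cokernel π E t ?_⟩
  obtain ⟨n, W, w, hW, hcov⟩ := exists_affine_cover_prod hXqs E V
  refine resM_ext (cokernel π) (jointlySurj_prod hsurj w hcov) fun j => ?_
  rw [map_zero, ← appM_resM]
  have hs := hmem (W j) (hW j) (w j ≫ EtOver.prodFst E V) (w j ≫ EtOver.prodSnd E V)
  generalize resM N (w j ≫ EtOver.prodFst E V) t = y at hs
  induction hs using Submodule.span_induction with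
  | mem x hx =>
    obtain ⟨m, hm, rfl⟩ := hx
    obtain ⟨a, rfl⟩ := h m (hF.mem_toFinset.2 hm)
    rw [appM_resM, appM_comp_eq_zero (cokernel.condition π), map_zero]
  | zero => exact map_zero _
  | add x y _ _ hx hy => rw [map_add, hx, hy, add_zero]
  | smul c x _ hx => rw [map_smul, hx, smul_zero]

/-- Descent of a cocone over a filtered category when sections surject and relations die eventually. -/
theorem isColimit_of_affine {J : Type (u + 1)} [SmallCategory J] [IsFiltered J] {D : J ⥤ ModEt X}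
    (c : Cocone D)
    (hs : ∀ (E : EtOver X) [IsAffine E.obj.left.left] (t : sectModEt c.pt E), ∃ j a, appM (c.ι.app j) E a = t)
    (hi : ∀ (E : EtOver X) [IsAffine E.obj.left.left] (j : J) (a : sectModEt (D.obj j) E),
      appM (c.ι.app j) E a = 0 → ∃ (k : J) (g : j ⟶ k), appM (D.map g) E a = 0) :
    Nonempty (IsColimit c) := by
  classical
  have compat : ∀ (s : Cocone D) (E : EtOver X) [IsAffine E.obj.left.left] (j j' : J) (a : sectModEt (D.obj j) E)
      (a' : sectModEt (D.obj j') E), appM (c.ι.app j) E a = appM (c.ι.app j') E a' →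
      appM (s.ι.app j) E a = appM (s.ι.app j') E a' := by
    intro s E _ j j' a a' e
    let m := IsFiltered.max j j'
    let z : sectModEt (D.obj m) E :=
      appM (D.map (IsFiltered.leftToMax j j')) E a - appM (D.map (IsFiltered.rightToMax j j')) E a'
    have hw : ∀ (c' : Cocone D), appM (N := c'.pt) (c'.ι.app m) E z =
        appM (N := c'.pt) (c'.ι.app j) E a - appM (N := c'.pt) (c'.ι.app j') E a' := by
      intro c'
      refine (map_sub _ _ _).trans (congr_arg₂ (· - ·) ?_ ?_)
      · exact (appM_comp _ _ E a).symm.trans (congrArg (fun k => appM k E a) (c'.w _))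
      · exact (appM_comp _ _ E a').symm.trans (congrArg (fun k => appM k E a') (c'.w _))
    obtain ⟨k, g, hg⟩ := hi E m z (by rw [hw c, e, sub_self])
    have h0 : appM (s.ι.app m) E z = 0 := by
      refine (congrArg (fun k => appM k E z) (s.w g)).symm.trans ((appM_comp _ _ E z).trans ?_)
      rw [hg, map_zero]
    rw [hw s, sub_eq_zero] at h0
    exact h0
  choose j₀ a₀ ha₀ using fun (E : EtOver X) (hE : IsAffine E.obj.left.left) (t : sectModEt c.pt E) => hs E t
  let φ : ∀ (s : Cocone D) (E : EtOver X) (_ : IsAffine E.obj.left.left), sectModEt c.pt E → sectModEt s.pt E :=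
    fun s E hE t => appM (s.ι.app (j₀ E hE t)) E (a₀ E hE t)
  have hφ : ∀ (s : Cocone D) (E : EtOver X) (hE : IsAffine E.obj.left.left) (j : J) (a : sectModEt (D.obj j) E),
      appM (s.ι.app j) E a = φ s E hE (appM (c.ι.app j) E a) :=
    fun s E hE j a => compat s E j _ a _ (ha₀ E hE _).symm
  have key : ∀ s : Cocone D, ∃ d : c.pt ⟶ s.pt, ∀ (E : EtOver X) (hE : IsAffine E.obj.left.left) (t : sectModEt c.pt E),
      appM d E t = φ s E hE t := by
    intro s
    refine exists_hom_of_affine (φ s) ?_ ?_ ?_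
    · intro E hE t t'
      let j := IsFiltered.max (j₀ E hE t) (j₀ E hE t')
      let f₁ : j₀ E hE t ⟶ j := IsFiltered.leftToMax _ _
      let f₂ : j₀ E hE t' ⟶ j := IsFiltered.rightToMax _ _
      have h1 : appM (c.ι.app j) E (appM (D.map f₁) E (a₀ E hE t)) = t :=
        ((appM_comp _ _ E _).symm.trans (congrArg (fun k => appM k E _) (c.w f₁))).trans (ha₀ E hE t)
      have h2 : appM (c.ι.app j) E (appM (D.map f₂) E (a₀ E hE t')) = t' :=
        ((appM_comp _ _ E _).symm.trans (congrArg (fun k => appM k E _) (c.w f₂))).trans (ha₀ E hE t')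
      conv_lhs => rw [← h1, ← h2]
      rw [← map_add, ← hφ, map_add, hφ s E hE, hφ s E hE, h1, h2]
    · intro E hE r t
      conv_lhs => rw [← ha₀ E hE t]
      rw [← map_smul, ← hφ, map_smul]
    · intro E E' hE hE' k t
      conv_lhs => rw [← ha₀ E hE t]
      rw [← appM_resM, ← hφ, appM_resM]
      rfl
  choose d hd using key
  exact ⟨
    { desc := d
      fac := fun s j => hom_ext_affine fun E hE a => by
        rw [appM_comp, hd s E hE, ← hφ]
      uniq := fun s m hm => hom_ext_affine fun E hE t => by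
        rw [hd s E hE]
        refine (congrArg _ (ha₀ E hE t)).symm.trans ((appM_comp _ _ E _).symm.trans ?_)
        exact congrArg (fun k => appM k E _) (hm _) }⟩

variable (M : ModEt X) [M.IsQuasicoherent] {U : EtOver X}

/-- Submodules of spans grow with the set. -/
theorem exists_G_trans [IsAffine U.obj.left.left] {F F' : Set (sectModEt M U)} (h : F ⊆ F') :
    ∃ b : G M F ⟶ G M F', b ≫ ι M F' = ι M F :=
  exists_hom_of_mem M F' (ι M F) fun E hE s =>
    fam_mono M h E hE ((mem_range_iff M F E (hE := hE) _).1 ⟨s, rfl⟩)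

theorem adj_trans {C D : Type*} [Category C] [Category D] {L : C ⥤ D} {R : D ⥤ C} (adj : L ⊣ R) {A A' : C}
    {N : D} (b : A ⟶ A') (i : A' ⟶ R.obj N) (j : A ⟶ R.obj N) (h : b ≫ i = j) :
    L.map b ≫ (adj.homEquiv A' N).symm i = (adj.homEquiv A N).symm j := by
  rw [← h, adj.homEquiv_naturality_left_symm]

theorem adj_unit {C D : Type*} [Category C] [Category D] {L : C ⥤ D} {R : D ⥤ C} (adj : L ⊣ R) {A : C}
    {N : D} (i : A ⟶ R.obj N) : adj.unit.app A ≫ R.map ((adj.homEquiv A N).symm i) = i :=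
  (adj.homEquiv_unit A N _).symm.trans (Equiv.apply_symm_apply _ _)

end General

/-- The hypotheses, with a chosen chart downstairs. -/
structure Setup {S : Scheme.{u}} {X Y : Sp S} (f : X ⟶ Y) where
  hf : Representable f
  haff : RepWith @IsAffineHom f
  hY : IsAlgSpace Y
  hXqs : IsQuasiSeparatedSp X
  hqs : IsQuasiSeparatedSp Y
  hN : IsLocNoethSp Y
  U : EtOver Y
  hU : IsAffine U.obj.left.left
  hsurj : Function.Surjective (Points.ofPt U.obj.hom)

namespace Setup

variable {S : Scheme.{u}} [QuasiSeparatedSpace ↥S] {X Y : Sp S} {f : X ⟶ Y} (σ : Setup f)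

instance : IsAffine σ.U.obj.left.left := σ.hU

/-- The chart upstairs. -/
abbrev V : EtOver X := EtOver.bcObj σ.hf σ.U

instance : IsAffine σ.V.obj.left.left := isAffine_bc σ.hf σ.haff σ.U

theorem surjective_V : Function.Surjective (Points.ofPt σ.V.obj.hom) := fun x => by
  obtain ⟨t, ht⟩ := σ.hsurj (Points.map f x)
  obtain ⟨v, hv, -⟩ := (Groth.AlgSpBasic.map_eq_ofPt_iff (EtOver.isPullback_bcObj σ.hf σ.U) x t).1 ht.symm
  exact ⟨v, hv⟩

/-- The direct image. -/
def push (N : ModEt X) : ModEt Y := (pushModEt σ.hf).obj N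

instance (N : ModEt X) [N.IsQuasicoherent] : (σ.push N).IsQuasicoherent :=
  isQuasicoherent_push σ.hf
    (MorphismProperty.relative_monotone
      (fun _ _ g (_ : IsAffineHom ((Over.forget S).map g)) => (inferInstanceAs (QuasiCompact ((Over.forget S).map g)))) _ σ.haff)
    (MorphismProperty.relative_monotone
      (fun _ _ g (_ : IsAffineHom ((Over.forget S).map g)) => (inferInstanceAs (QuasiSeparated ((Over.forget S).map g)))) _ σ.haff) N

variable (N : ModEt X) [N.IsQuasicoherent]

/-- The coherent submodule of the direct image of a set of sections. -/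
abbrev sub (F : Finset (sectModEt (σ.push N) σ.U)) : ModEt Y := G (σ.push N) (↑F : Set (sectModEt (σ.push N) σ.U))

instance (F : Finset (sectModEt (σ.push N) σ.U)) : (σ.sub N F).IsQuasicoherent :=
  isQuasicoherent_sub_fam _ _ σ.hqs

/-- Its inverse image. -/
def P (F : Finset (sectModEt (σ.push N) σ.U)) : ModEt X := (pullModEt σ.hf).obj (σ.sub N F)

/-- The natural morphism. -/
def π (F : Finset (sectModEt (σ.push N) σ.U)) : σ.P N F ⟶ N :=
  ((pullPushAdjModEt σ.hf).homEquiv _ _).symm (ι (σ.push N) _)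

instance (F : Finset (sectModEt (σ.push N) σ.U)) : (σ.P N F).IsQuasicoherent :=
  isQuasicoherent_pull σ.hf σ.hY _

instance isFinitePresentation_P (F : Finset (sectModEt (σ.push N) σ.U)) : (σ.P N F).IsFinitePresentation := by
  refine isFinitePresentation_of_cover _ _ (coversTop_bc_affine σ.hf σ.hY)
    (fun E => haveI := E.2; isAffine_bc σ.hf σ.haff E.1) fun E => ?_
  haveI := E.2
  haveI := isAffine_bc σ.hf σ.haff E.1
  haveI := isNoetherianRing_fnA σ.hY σ.hN E.1
  haveI := finite_sectModEt_G (σ.push N) (↑F : Set (sectModEt (σ.push N) σ.U)) σ.hY σ.hqs σ.hN σ.hsurj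
    F.finite_toSet E.1
  haveI : Module.FinitePresentation (fnA E.1) (sectModEt (σ.sub N F) E.1) :=
    Module.finitePresentation_of_finite _ _
  let φ : fnA E.1 →+* fnA (EtOver.bcObj σ.hf E.1) := (EtOver.bcπ σ.hf E.1).left.appTop.hom
  letI : Algebra (fnA E.1) (fnA (EtOver.bcObj σ.hf E.1)) := φ.toAlgebra
  letI := Module.compHom (sectModEt ((pullModEt σ.hf).obj (σ.sub N F)) (EtOver.bcObj σ.hf E.1)) φ
  haveI : IsScalarTower (fnA E.1) (fnA (EtOver.bcObj σ.hf E.1)) (sectModEt ((pullModEt σ.hf).obj (σ.sub N F)) (EtOver.bcObj σ.hf E.1)) :=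
    IsScalarTower.of_algebraMap_smul fun _ _ => rfl
  have h : IsBC (pullUnitM σ.hf (σ.sub N F) E.1) := isBC_pullUnit σ.hf _ E.1
  let r : sectModEt (σ.sub N F) E.1 →ₗ[fnA E.1] sectModEt ((pullModEt σ.hf).obj (σ.sub N F)) (EtOver.bcObj σ.hf E.1) :=
    { toFun := pullUnitM σ.hf (σ.sub N F) E.1
      map_add' := map_add _
      map_smul' := (pullUnitM σ.hf (σ.sub N F) E.1).map_smulₛₗ }
  show Module.FinitePresentation (fnA (EtOver.bcObj σ.hf E.1))
    (sectModEt ((pullModEt σ.hf).obj (σ.sub N F)) (EtOver.bcObj σ.hf E.1))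
  exact Module.FinitePresentation.of_equiv ((isBC_iff (pullUnitM σ.hf (σ.sub N F) E.1) rfl r fun _ => rfl).1 h).equiv

theorem appM_π_unit (F : Finset (sectModEt (σ.push N) σ.U)) (E : EtOver Y) (a : sectModEt (σ.sub N F) E) :
    appM (σ.π N F) (EtOver.bcObj σ.hf E) (pullUnitM σ.hf (σ.sub N F) E a) = appM (ι (σ.push N) _) E a := by
  have e : (pullPushAdjModEt σ.hf).unit.app (σ.sub N F) ≫ (pushModEt σ.hf).map (σ.π N F) = ι (σ.push N) _ := by
    exact adj_unit (pullPushAdjModEt σ.hf) _
  exact congrArg (fun k => appM k E a) e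

/-- Enlarging the set. -/
theorem exists_trans {F F' : Finset (sectModEt (σ.push N) σ.U)} (h : F ⊆ F') :
    ∃ t : σ.P N F ⟶ σ.P N F', t ≫ σ.π N F' = σ.π N F := by
  obtain ⟨b, hb⟩ := exists_G_trans (σ.push N) (U := σ.U) (Finset.coe_subset.2 h)
  exact ⟨(pullModEt σ.hf).map b, adj_trans (pullPushAdjModEt σ.hf) b _ _ hb⟩

/-- Every section is eventually in the image. -/
theorem exists_finset (E : EtOver X) [IsAffine E.obj.left.left] (t : sectModEt N E) :
    ∃ F₀ : Finset (sectModEt (σ.push N) σ.U), ∀ F, F₀ ⊆ F → ∃ a, appM (σ.π N F) E a = t := by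
  classical
  obtain ⟨T, hT⟩ := exists_finset_of_section σ.hXqs σ.V σ.surjective_V E t
  choose Fm hFm hmem using fun m : sectModEt (σ.push N) σ.U =>
    exists_finite_mem (σ.push N) σ.hqs (U := σ.U) σ.U m
  refine ⟨T.biUnion fun m => (hFm m).toFinset, fun F hF => hT (σ.π N F) fun m hm => ?_⟩
  have hsub : Fm m ⊆ (↑F : Set (sectModEt (σ.push N) σ.U)) := fun x hx =>
    hF (Finset.mem_biUnion.2 ⟨m, hm, (hFm m).mem_toFinset.2 hx⟩)
  obtain ⟨a, ha⟩ := (mem_range_iff (σ.push N) _ σ.U (m : sectModEt (σ.push N) σ.U)).2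
    (fam_mono (σ.push N) hsub σ.U σ.hU (hmem m))
  exact ⟨pullUnitM σ.hf (σ.sub N F) σ.U a, (σ.appM_π_unit N F σ.U a).trans ha⟩

attribute [irreducible] P π

end Setup

/-! ### The system -/

variable {S : Scheme.{u}} [QuasiSeparatedSpace ↥S] {X Y : Sp S} {f : X ⟶ Y} (σ : Setup f)
  (M : ModEt X) [M.IsQuasicoherent]

namespace Setup

/-- The kernel at a stage. -/
abbrev K (F : Finset (sectModEt (σ.push M) σ.U)) : ModEt X := kernel (σ.π M F)

instance (F : Finset (sectModEt (σ.push M) σ.U)) : (σ.K M F).IsQuasicoherent :=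
  isQuasicoherent_of_hasBC (hasBC_kernel (hasBC_of_isQuasicoherent _) (hasBC_of_isQuasicoherent _) _)

/-- The index set. -/
def Idx : Type (u + 1) :=
  Σ F : Finset (sectModEt (σ.push M) σ.U), Finset (sectModEt (σ.push (σ.K M F)) σ.U)

variable {σ M}

/-- The relations at an index. -/
def rel (i : σ.Idx M) : σ.P (σ.K M i.1) i.2 ⟶ σ.P M i.1 := σ.π (σ.K M i.1) i.2 ≫ kernel.ι (σ.π M i.1)

theorem rel_comp (i : σ.Idx M) : rel i ≫ σ.π M i.1 = 0 := by
  rw [rel, Category.assoc, kernel.condition, comp_zero]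

/-- The finitely presented module at an index, over `M`. -/
def obj (i : σ.Idx M) : Over M := Over.mk (cokernel.desc (rel i) (σ.π M i.1) (rel_comp i))

/-- The projection. -/
def q (i : σ.Idx M) : σ.P M i.1 ⟶ (obj i).left := cokernel.π (rel i)

instance (i : σ.Idx M) : Epi (q i) := inferInstanceAs (Epi (cokernel.π (rel i)))

theorem q_hom (i : σ.Idx M) : q i ≫ (obj i).hom = σ.π M i.1 := cokernel.π_desc _ _ _

theorem rel_q (i : σ.Idx M) : rel i ≫ q i = 0 := cokernel.condition _

instance (i : σ.Idx M) : ((obj i).left : ModEt X).IsQuasicoherent :=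
  isQuasicoherent_of_hasBC (hasBC_cokernel (hasBC_of_isQuasicoherent _) (hasBC_of_isQuasicoherent _) _)

theorem isFinitePresentation_obj (i : σ.Idx M) : ((obj i).left : ModEt X).IsFinitePresentation := by
  refine isFinitePresentation_of_forall _ fun E _ => ?_
  haveI := finitePresentation_sectModEt (σ.P M i.1) E
  haveI := finitePresentation_sectModEt (σ.P (σ.K M i.1) i.2) E
  have he : LinearMap.ker (appM (q i) E) = LinearMap.range (appM (rel i) E) := by
    ext x
    refine ⟨fun hx => exists_preimage_of_cokernel (rel i) E x hx, ?_⟩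
    rintro ⟨a, rfl⟩
    exact appM_comp_eq_zero (rel_q i) E a
  refine Module.finitePresentation_of_surjective (appM (q i) E) (appM_surjective_of_epi (q i) E) ?_
  rw [he]
  exact Submodule.fg_range _

/-- Enlarging the relations. -/
theorem exists_transRel {F : Finset (sectModEt (σ.push M) σ.U)}
    {R R' : Finset (sectModEt (σ.push (σ.K M F)) σ.U)} (h : R ⊆ R') :
    ∃ g : obj (⟨F, R⟩ : σ.Idx M) ⟶ obj ⟨F, R'⟩, q ⟨F, R⟩ ≫ g.left = q ⟨F, R'⟩ := by
  obtain ⟨t, ht⟩ := σ.exists_trans (σ.K M F) h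
  have e : rel (⟨F, R⟩ : σ.Idx M) ≫ q ⟨F, R'⟩ = 0 := by
    have h' : t ≫ rel (⟨F, R'⟩ : σ.Idx M) = rel ⟨F, R⟩ := by
      simp only [rel]
      rw [← Category.assoc, ht]
    rw [← h', Category.assoc, rel_q, comp_zero]
  refine ⟨Over.homMk (cokernel.desc _ (q ⟨F, R'⟩) e) ((cancel_epi (q ⟨F, R⟩)).1 ?_), cokernel.π_desc _ _ _⟩
  refine (Category.assoc _ _ _).symm.trans ?_
  erw [cokernel.π_desc]
  rw [q_hom, q_hom]

/-- An element of the kernel over an affine object dies after enlarging the relations. -/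
theorem exists_finset_kill (F : Finset (sectModEt (σ.push M) σ.U)) (E : EtOver X) [IsAffine E.obj.left.left]
    (y : sectModEt (σ.P M F) E) (hy : appM (σ.π M F) E y = 0) :
    ∃ R₀, ∀ R, R₀ ⊆ R → appM (q (⟨F, R⟩ : σ.Idx M)) E y = 0 := by
  obtain ⟨κ, hκ⟩ := exists_preimage_kernel (σ.π M F) hy
  obtain ⟨R₀, hR₀⟩ := σ.exists_finset (σ.K M F) E κ
  refine ⟨R₀, fun R hR => ?_⟩
  obtain ⟨a, ha⟩ := hR₀ R hR
  refine (congrArg (appM (q (⟨F, R⟩ : σ.Idx M)) E) ?_).trans (appM_comp_eq_zero (rel_q _) E a)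
  exact hκ.symm.trans ((congrArg _ ha.symm).trans (appM_comp _ _ E a).symm)

/-- A morphism into a stage which is zero into `M` dies after enlarging the relations. -/
theorem exists_kill {A : ModEt X} [A.IsQuasicoherent] [A.IsFiniteType] (i : σ.Idx M) (d : A ⟶ (obj i).left)
    (hd : d ≫ (obj i).hom = 0) :
    ∃ (R : _) (g : obj i ⟶ obj (⟨i.1, R⟩ : σ.Idx M)), q i ≫ g.left = q ⟨i.1, R⟩ ∧ d ≫ g.left = 0 := by
  classical
  obtain ⟨F, R₀⟩ := i
  obtain ⟨T, hT⟩ := (finite_sectModEt A σ.V).fg_top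
  choose y hy using fun x : sectModEt A σ.V => appM_surjective_of_epi (q (⟨F, R₀⟩ : σ.Idx M)) σ.V (appM d σ.V x)
  have h0 : ∀ x, appM (σ.π M F) σ.V (y x) = 0 := fun x =>
    ((congrArg (fun k => appM k σ.V (y x)) (q_hom (⟨F, R₀⟩ : σ.Idx M))).symm.trans
      ((appM_comp _ _ σ.V (y x)).trans (congrArg _ (hy x)))).trans (appM_comp_eq_zero hd σ.V x)
  choose R₁ hR₁ using fun x => exists_finset_kill F σ.V (y x) (h0 x)
  obtain ⟨g, hg⟩ := exists_transRel (σ := σ) (M := M) (F := F)
    (R' := R₀ ∪ T.biUnion R₁) Finset.subset_union_left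
  refine ⟨_, g, hg, eq_zero_of_chart σ.hXqs σ.surjective_V _ fun x => ?_⟩
  have hx : x ∈ Submodule.span (fnA σ.V) (T : Set (sectModEt A σ.V)) := hT ▸ Submodule.mem_top
  induction hx using Submodule.span_induction with
  | mem z hz =>
    refine (appM_comp _ _ σ.V z).trans ((congrArg _ (hy z).symm).trans ((appM_comp _ _ σ.V (y z)).symm.trans ?_))
    refine (congrArg (fun k => appM k σ.V (y z)) hg).trans (hR₁ z _ ?_)
    exact (Finset.subset_biUnion_of_mem R₁ hz).trans Finset.subset_union_right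
  | zero => exact map_zero _
  | add a b _ _ ha hb => rw [map_add, ha, hb, add_zero]
  | smul c a _ ha => rw [map_smul, ha, smul_zero]

/-- Morphisms out of a stage. -/
theorem exists_hom_of_subset (i : σ.Idx M) {F : Finset (sectModEt (σ.push M) σ.U)} (h : i.1 ⊆ F)
    (R₀ : Finset (sectModEt (σ.push (σ.K M F)) σ.U)) :
    ∃ (R : _) (_ : R₀ ⊆ R), Nonempty (obj i ⟶ obj (⟨F, R⟩ : σ.Idx M)) := by
  classical
  obtain ⟨t, ht⟩ := σ.exists_trans M h
  obtain ⟨R, g, hg, hz⟩ := exists_kill (⟨F, R₀⟩ : σ.Idx M) (rel i ≫ t ≫ q ⟨F, R₀⟩) (by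
    rw [Category.assoc, Category.assoc, q_hom]
    exact (congrArg (rel i ≫ ·) ht).trans (rel_comp i))
  obtain ⟨g', hg'⟩ := exists_transRel (σ := σ) (M := M) (F := F) (R := R) (R' := R₀ ∪ R) Finset.subset_union_right
  have e : rel i ≫ (t ≫ q ⟨F, R₀ ∪ R⟩) = 0 := by
    rw [← hg', ← hg]
    simp only [Category.assoc] at hz ⊢
    rw [reassoc_of% hz, zero_comp]
  refine ⟨R₀ ∪ R, Finset.subset_union_left,
    ⟨Over.homMk (cokernel.desc _ _ e) ((cancel_epi (q i)).1 ?_)⟩⟩
  refine (Category.assoc _ _ _).symm.trans ?_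
  erw [cokernel.π_desc]
  rw [Category.assoc, q_hom, q_hom]
  exact ht

variable (σ M) in
/-- The index category. -/
abbrev Cat : Type (u + 1) := InducedCategory (Over M) (obj (σ := σ) (M := M))

instance : IsFiltered (σ.Cat M) := by
  classical
  haveI : Nonempty (σ.Cat M) := ⟨(⟨∅, ∅⟩ : σ.Idx M)⟩
  haveI : IsFilteredOrEmpty (σ.Cat M) := by
    refine ⟨fun i j => ?_, fun i j g h => ?_⟩
    · let i' : σ.Idx M := i
      let j' : σ.Idx M := j
      obtain ⟨R, -, ⟨a⟩⟩ := exists_hom_of_subset i' (F := i'.1 ∪ j'.1) Finset.subset_union_left ∅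
      obtain ⟨R', hR', ⟨b⟩⟩ := exists_hom_of_subset j' (F := i'.1 ∪ j'.1) Finset.subset_union_right R
      obtain ⟨c, -⟩ := exists_transRel (σ := σ) (M := M) hR'
      exact ⟨(⟨_, R'⟩ : σ.Idx M), InducedCategory.homMk (a ≫ c), InducedCategory.homMk b, trivial⟩
    · let i' : σ.Idx M := i
      let j' : σ.Idx M := j
      let g' : obj i' ⟶ obj j' := g.hom
      let h' : obj i' ⟶ obj j' := h.hom
      haveI := isFinitePresentation_P σ M i'.1
      obtain ⟨R, k, -, hk⟩ := exists_kill j' (q i' ≫ (g'.left - h'.left)) (by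
        rw [Category.assoc, Preadditive.sub_comp, Over.w g', Over.w h', sub_self, comp_zero])
      refine ⟨(⟨_, R⟩ : σ.Idx M), InducedCategory.homMk k, ?_⟩
      apply InducedCategory.hom_ext
      ext : 1
      refine (cancel_epi (q i')).1 ?_
      rw [Category.assoc, Preadditive.sub_comp, Preadditive.comp_sub, sub_eq_zero] at hk
      exact hk
  exact IsFiltered.mk

variable (σ M) in
/-- The diagram. -/
def diagram : σ.Cat M ⥤ ModEt X := inducedFunctor _ ⋙ Over.forget M

variable (σ M) in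
/-- The cocone. -/
def cocone : Cocone (σ.diagram M) :=
  Cocone.mk M { app := fun i => (obj i).hom, naturality := fun _ _ g => (Over.w g.hom).trans (Category.comp_id _).symm }

theorem isColimit_cocone : Nonempty (IsColimit (σ.cocone M)) := by
  classical
  refine isColimit_of_affine (σ.cocone M) (fun E _ t => ?_) (fun E _ i a ha => ?_)
  · obtain ⟨F, hF⟩ := σ.exists_finset M E t
    obtain ⟨a, ha⟩ := hF F subset_rfl
    refine ⟨(⟨F, ∅⟩ : σ.Idx M), appM (q (⟨F, ∅⟩ : σ.Idx M)) E a, ?_⟩
    exact ((appM_comp _ _ E a).symm.trans (congrArg (fun k => appM k E a) (q_hom (⟨F, ∅⟩ : σ.Idx M)))).trans ha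
  · obtain ⟨F, R₀⟩ := i
    obtain ⟨w, hw⟩ := appM_surjective_of_epi (q (⟨F, R₀⟩ : σ.Idx M)) E a
    have h0 : appM (σ.π M F) E w = 0 :=
      ((congrArg (fun k => appM k E w) (q_hom (⟨F, R₀⟩ : σ.Idx M))).symm.trans
        ((appM_comp _ _ E w).trans (congrArg _ hw))).trans ha
    obtain ⟨R₁, hR₁⟩ := exists_finset_kill F E w h0
    obtain ⟨g, hg⟩ := exists_transRel (σ := σ) (M := M) (F := F)
      (R' := R₀ ∪ R₁) (Finset.subset_union_left (s₁ := R₀))
    refine ⟨(⟨F, R₀ ∪ R₁⟩ : σ.Idx M), InducedCategory.homMk g, ?_⟩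
    refine (congrArg _ hw.symm).trans ((appM_comp _ _ E w).symm.trans ?_)
    exact (congrArg (fun k => appM k E w) hg).trans (hR₁ _ Finset.subset_union_right)

end Setup

end

end Groth.ModEtQCoh.AffinePres
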