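import Groth.Agent.ModEtQCoh.Grothendieck
import Groth.Agent.ModEtQCoh.Morphisms
import Mathlib.Algebra.Category.ModuleCat.FilteredColimits
import Mathlib.CategoryTheory.Limits.Types.Filtered

/-!
# Sections of filtered colimits of modules over affine objects of the small etale site
-/

set_option autoImplicit false
set_option backward.isDefEq.respectTransparency.types false
set_option backward.isDefEq.respectTransparency false
set_option maxHeartbeats 800000
universe w v₁ u₁ u

open CategoryTheory CategoryTheory.Limits Opposite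

namespace Groth.ModEtQCoh.ColimSections

noncomputable section

section site

variable {C : Type u₁} [Category.{v₁} C] {J : GrothendieckTopology C} {R : Sheaf J RingCat.{w}}
  [HasSheafify J AddCommGrpCat.{w}] [J.WEqualsLocallyBijective AddCommGrpCat.{w}]
  {I : Type w} [SmallCategory I] [IsFiltered I] {D : I ⥤ SheafOfModules.{w} R} (c : Cocone D)

omit [HasSheafify J AddCommGrpCat.{w}] [J.WEqualsLocallyBijective AddCommGrpCat.{w}] in
theorem bij_comp {P Q T : Cᵒᵖ ⥤ AddCommGrpCat.{w}} (f : P ⟶ Q) (g : Q ⟶ T) [IsIso g]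
    (h₁ : Presheaf.IsLocallyInjective J f) (h₂ : Presheaf.IsLocallySurjective J f) :
    Presheaf.IsLocallyInjective J (f ≫ g) ∧ Presheaf.IsLocallySurjective J (f ≫ g) :=
  ⟨Presheaf.isLocallyInjective_comp J f g, Presheaf.isLocallySurjective_comp J f g⟩

/-- The presheaves underlying the diagram. -/
abbrev preD (D : I ⥤ SheafOfModules.{w} R) : I ⥤ PresheafOfModules.{w} R.obj :=
  D ⋙ SheafOfModules.forget R ⋙ PresheafOfModules.restrictScalars (𝟙 R.obj)

/-- The comparison from the colimit of presheaves. -/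
def toPt : colimit (preD D) ⟶ (SheafOfModules.forget R ⋙ PresheafOfModules.restrictScalars (𝟙 R.obj)).obj c.pt :=
  colimit.desc (preD D) ((SheafOfModules.forget R ⋙ PresheafOfModules.restrictScalars (𝟙 R.obj)).mapCocone c)

variable (hc : IsColimit c)

include hc in
theorem toPt_bij :
    Presheaf.IsLocallyInjective J ((PresheafOfModules.toPresheaf R.obj).map (toPt c)) ∧
      Presheaf.IsLocallySurjective J ((PresheafOfModules.toPresheaf R.obj).map (toPt c)) := by
  let a := PresheafOfModules.sheafification.{w} (𝟙 R.obj)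
  let i := SheafOfModules.forget R ⋙ PresheafOfModules.restrictScalars (𝟙 R.obj)
  let adj := PresheafOfModules.sheafificationAdjunction.{w} (𝟙 R.obj)
  have := adj.leftAdjoint_preservesColimits.{w, w}
  have h₁ := isColimitOfPreserves a (colimit.isColimit (preD D))
  let e : preD D ⋙ a ≅ D := Functor.associator _ _ _ ≪≫ Functor.isoWhiskerLeft D (asIso adj.counit) ≪≫ D.rightUnitor
  let ψ := (adj.homEquiv _ _).symm (toPt c)
  have hψ : ψ = IsColimit.map h₁ c e.hom := by
    refine h₁.hom_ext fun l => ?_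
    rw [IsColimit.ι_map]
    refine (adj.homEquiv_naturality_left_symm _ _).symm.trans ((congrArg _ (colimit.ι_desc _ _)).trans ?_)
    refine (adj.homEquiv_counit _ _ _).trans ((adj.counit.naturality (c.ι.app l)).trans ?_)
    simp [e, adj]
  have : IsIso ψ := hψ ▸ (IsColimit.coconePointsIsoOfNatIso h₁ hc e).isIso_hom
  have hφ : toPt c = adj.unit.app _ ≫ i.map ψ :=
    ((adj.homEquiv_unit _ _ _).symm.trans (Equiv.apply_symm_apply _ _)).symm
  rw [hφ, Functor.map_comp]
  have : IsIso ((PresheafOfModules.toPresheaf R.obj).map (i.map ψ)) := inferInstance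
  have h1 : (PresheafOfModules.toPresheaf R.obj).map (adj.unit.app (colimit (preD D))) =
      CategoryTheory.toSheafify J _ := PresheafOfModules.toPresheaf_map_sheafificationAdjunction_unit_app _ _
  rw [h1]
  obtain ⟨a₁, a₂⟩ := (J.W_iff_isLocallyBijective _).1 (J.W_toSheafify
    ((PresheafOfModules.toPresheaf R.obj).obj (colimit (preD D))))
  exact bij_comp _ _ a₁ a₂

omit [HasSheafify J AddCommGrpCat.{w}] [J.WEqualsLocallyBijective AddCommGrpCat.{w}] in
theorem exists_rep (U : Cᵒᵖ) (z : (colimit (preD D)).obj U) :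
    ∃ (l : I) (t : (D.obj l).val.obj U), (colimit.ι (preD D) l).app U t = z := by
  obtain ⟨l, t, ht⟩ := Concrete.isColimit_exists_rep (preD D ⋙ PresheafOfModules.evaluation _ U)
    (isColimitOfPreserves (PresheafOfModules.evaluation _ U) (colimit.isColimit (preD D))) z
  exact ⟨l, t, ht⟩

omit [HasSheafify J AddCommGrpCat.{w}] [J.WEqualsLocallyBijective AddCommGrpCat.{w}] in
theorem exists_stage_zero (U : Cᵒᵖ) {l : I} (t : (D.obj l).val.obj U)
    (h : (colimit.ι (preD D) l).app U t = 0) :
    ∃ (l' : I) (α : l ⟶ l'), (D.map α).val.app U t = 0 := by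
  obtain ⟨k, a, b, e⟩ := (Concrete.isColimit_rep_eq_iff_exists (preD D ⋙ PresheafOfModules.evaluation _ U)
    (isColimitOfPreserves (PresheafOfModules.evaluation _ U) (colimit.isColimit (preD D))) t
      (0 : (D.obj l).val.obj U)).1
    (h.trans (map_zero ((colimit.ι (preD D) l).app U).hom).symm)
  exact ⟨k, a, e.trans (map_zero ((D.map b).val.app U).hom)⟩

include hc in
/-- A section of a filtered colimit comes locally from a stage. -/
theorem exists_local_stage (U : C) (s : c.pt.val.obj (op U)) :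
    ∃ T ∈ J U, ∀ ⦃V : C⦄ (g : V ⟶ U), T g → ∃ (l : I) (t : (D.obj l).val.obj (op V)),
      (c.ι.app l).val.app (op V) t = c.pt.val.map g.op s := by
  haveI := (toPt_bij c hc).2
  refine ⟨_, Presheaf.imageSieve_mem J ((PresheafOfModules.toPresheaf R.obj).map (toPt c)) (U := op U) s,
    fun V g hg => ?_⟩
  obtain ⟨z, hz⟩ := hg
  obtain ⟨l, t, rfl⟩ := exists_rep (op V) z
  refine ⟨l, t, Eq.trans ?_ hz⟩
  exact (congrArg (fun φ => φ.app (op V) t) (colimit.ι_desc
    ((SheafOfModules.forget R ⋙ PresheafOfModules.restrictScalars (𝟙 R.obj)).mapCocone c) l)).symm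

include hc in
/-- A section of a stage dying in a filtered colimit dies locally at a later stage. -/
theorem exists_local_zero (U : C) {l : I} (t : (D.obj l).val.obj (op U))
    (h : (c.ι.app l).val.app (op U) t = 0) :
    ∃ T ∈ J U, ∀ ⦃V : C⦄ (g : V ⟶ U), T g → ∃ (l' : I) (α : l ⟶ l'),
      (D.map α).val.app (op V) ((D.obj l).val.map g.op t) = 0 := by
  haveI := (toPt_bij c hc).1
  let z : (colimit (preD D)).obj (op U) := (colimit.ι (preD D) l).app (op U) t
  have hz : (toPt c).app (op U) z = 0 :=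
    (congrArg (fun φ => φ.app (op U) t) (colimit.ι_desc
      ((SheafOfModules.forget R ⋙ PresheafOfModules.restrictScalars (𝟙 R.obj)).mapCocone c) l)).trans h
  refine ⟨_, Presheaf.equalizerSieve_mem J ((PresheafOfModules.toPresheaf R.obj).map (toPt c)) (X := op U) z
    (0 : (colimit (preD D)).obj (op U)) (hz.trans (map_zero ((toPt c).app (op U)).hom).symm), fun V g hg => ?_⟩
  refine exists_stage_zero (op V) _ ?_
  refine (PresheafOfModules.naturality_apply (colimit.ι (preD D) l) g.op t).trans ?_
  exact hg.trans (map_zero ((colimit (preD D)).presheaf.map g.op).hom)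

end site

/-- Finitely many events which each happen eventually happen at a common stage. -/
theorem exists_common {I : Type*} [Category I] [IsFiltered I] {l : I} {κ : Type*} [Finite κ]
    (P : κ → ∀ {m : I}, (l ⟶ m) → Prop)
    (mono : ∀ k {m m' : I} (α : l ⟶ m) (β : m ⟶ m'), P k α → P k (α ≫ β))
    (h : ∀ k, ∃ (m : I) (α : l ⟶ m), P k α) : ∃ (m : I) (α : l ⟶ m), ∀ k, P k α := by
  classical
  cases nonempty_fintype κ
  suffices hs : ∀ s : Finset κ, ∃ (m : I) (α : l ⟶ m), ∀ k ∈ s, P k α by
    obtain ⟨m, α, hα⟩ := hs Finset.univ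
    exact ⟨m, α, fun k => hα k (Finset.mem_univ k)⟩
  intro s
  induction s using Finset.induction with
  | empty => exact ⟨l, 𝟙 l, by simp⟩
  | insert a s _ ih =>
    obtain ⟨m₁, α₁, h₁⟩ := h a
    obtain ⟨m₂, α₂, h₂⟩ := ih
    obtain ⟨m, β₁, β₂, e⟩ := IsFiltered.span α₁ α₂
    refine ⟨m, α₁ ≫ β₁, fun k hk => ?_⟩
    rcases Finset.mem_insert.1 hk with rfl | hk
    · exact mono _ _ _ h₁
    · rw [e]
      exact mono _ _ _ (h₂ k hk)

section space

open AlgebraicGeometry AlgSp

variable {S : Scheme.{u}} {X : Sp S} {I : Type (u + 1)} [SmallCategory I] [IsFiltered I] {D : I ⥤ ModEt X}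
  {c : Cocone D}

omit [IsFiltered I] in
theorem appM_w {l m : I} (α : l ⟶ m) (E : EtOver X) (t : sectModEt (D.obj l) E) :
    appM (N := c.pt) (c.ι.app m) E (appM (D.map α) E t) = appM (N := c.pt) (c.ι.app l) E t :=
  congrArg (fun φ => appM φ E t) (c.w α)

omit [IsFiltered I] in
theorem appM_map_comp {l m n : I} (α : l ⟶ m) (β : m ⟶ n) (E : EtOver X) (t : sectModEt (D.obj l) E) :
    appM (D.map (α ≫ β)) E t = appM (D.map β) E (appM (D.map α) E t) :=
  congrArg (fun φ => appM φ E t) (D.map_comp α β)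

variable (hc : IsColimit c)

include hc in
/-- A section over an affine object dying in a filtered colimit dies at a later stage. -/
theorem exists_zero (E : EtOver X) [IsAffine E.obj.left.left] {l : I} (t : sectModEt (D.obj l) E)
    (h : appM (N := c.pt) (c.ι.app l) E t = 0) : ∃ (m : I) (α : l ⟶ m), appM (D.map α) E t = 0 := by
  obtain ⟨T, hT, hl⟩ := exists_local_zero c hc E t h
  obtain ⟨n, Z, a, -, hcov, hR⟩ := exists_affine_cover hT
  obtain ⟨m, α, hα⟩ := exists_common (fun k {m'} (α : l ⟶ m') => appM (D.map α) (Z k) (resM (D.obj l) (a k) t) = 0)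
    (fun k {m' m''} α β hk => by rw [appM_map_comp, hk, map_zero]) (fun k => hl (a k) (hR k))
  refine ⟨m, α, resM_ext (D.obj m) hcov fun k => ?_⟩
  rw [map_zero, ← appM_resM]
  exact hα k

include hc in
/-- A section over an affine object of a filtered colimit comes from a stage. -/
theorem exists_stage (E : EtOver X) [IsAffine E.obj.left.left] (s : sectModEt c.pt E) :
    ∃ (l : I) (t : sectModEt (D.obj l) E), appM (N := c.pt) (c.ι.app l) E t = s := by
  classical
  obtain ⟨T, hT, hl⟩ := exists_local_stage c hc E s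
  obtain ⟨n, Z, a, hZ, hcov, hR⟩ := exists_affine_cover hT
  choose L t₀ ht₀ using fun k => hl (a k) (hR k)
  obtain ⟨m, hm⟩ := IsFiltered.sup_objs_exists (Finset.univ.image L)
  let t₁ : ∀ k, sectModEt (D.obj m) (Z k) := fun k =>
    appM (D.map (hm (Finset.mem_image_of_mem L (Finset.mem_univ k))).some) (Z k) (t₀ k)
  have ht₁ : ∀ k, appM (N := c.pt) (c.ι.app m) (Z k) (t₁ k) = resM c.pt (a k) s :=
    fun k => (appM_w _ (Z k) (t₀ k)).trans (ht₀ k)
  obtain ⟨m', α, hα⟩ := exists_common (l := m) (κ := Fin n × Fin n)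
    (fun k {m'} (α : m ⟶ m') => appM (D.map α) (EtOver.pullbackObj (a k.1) (a k.2))
      (resM (D.obj m) (EtOver.pullbackFst (a k.1) (a k.2)) (t₁ k.1) -
        resM (D.obj m) (EtOver.pullbackSnd (a k.1) (a k.2)) (t₁ k.2)) = 0)
    (fun k {m' m''} α β hk => by rw [appM_map_comp, hk, map_zero]) fun k => by
      haveI := hZ k.1
      haveI := hZ k.2
      refine exists_zero hc _ _ ?_
      rw [map_sub, appM_resM, appM_resM, ht₁, ht₁, ← resM_comp, ← resM_comp, EtOver.pullback_condition, sub_self]
  obtain ⟨t, ht⟩ := exists_resM_eq (D.obj m') hcov (fun k => appM (D.map α) (Z k) (t₁ k)) fun i j => by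
    have h := hα (i, j)
    rw [map_sub, sub_eq_zero, appM_resM, appM_resM] at h
    exact h
  refine ⟨m', t, resM_ext c.pt hcov fun k => ?_⟩
  rw [← appM_resM, ht]
  exact (appM_w α (Z k) (t₁ k)).trans (ht₁ k)

end space

end

end Groth.ModEtQCoh.ColimSections
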