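import Groth.Agent.ModEtQCoh.Closure
import Groth.Agent.ModEtQCoh.Criterion
import Mathlib.CategoryTheory.Abelian.Images

/-!
# The largest quasi-coherent submodule
-/

set_option autoImplicit false
set_option backward.isDefEq.respectTransparency.types false
universe u

open CategoryTheory CategoryTheory.Limits AlgebraicGeometry Opposite AlgSp

namespace Groth.ModEtQCoh

variable {S : Scheme.{u}} {X : Sp S}

/-- Morphisms are determined by sections over affine objects. -/
theorem hom_ext_affine {M N : ModEt X} {p q : M ⟶ N}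
    (h : ∀ (E : EtOver X) [IsAffine E.obj.left.left] (s : sectModEt M E), appM p E s = appM q E s) : p = q := by
  apply SheafOfModules.hom_ext
  apply PresheafOfModules.hom_ext
  intro E
  ext s
  choose W k w hW hk using exists_affine_chart_of_ofPt E.unop
  refine resM_ext N (g := k) (fun x => ⟨x, w x, hk x⟩) fun x => ?_
  show resM N (k x) (appM p E.unop s) = resM N (k x) (appM q E.unop s)
  rw [← appM_resM, ← appM_resM]
  haveI := hW x
  exact h (W x) _

theorem exists_factor_image {C : Type*} [Category C] [Abelian C] {A G F : C} (σ : A ⟶ G) (ι : G ⟶ F) [Mono ι] :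
    ∃ κ : Abelian.image (σ ≫ ι) ⟶ G, Mono κ ∧ κ ≫ ι = Abelian.image.ι (σ ≫ ι) := by
  have hw : Abelian.image.ι (σ ≫ ι) ≫ cokernel.π ι = 0 := by
    rw [← cancel_epi (Abelian.factorThruImage (σ ≫ ι)), comp_zero, ← Category.assoc, Abelian.image.fac,
      Category.assoc, cokernel.condition, comp_zero]
  exact ⟨Abelian.monoLift ι _ hw, mono_of_mono_fac (Abelian.monoLift_comp ι _ hw), Abelian.monoLift_comp ι _ hw⟩

theorem comp_cokernel_eq_zero {A H F : ModEt X} (σ : A ⟶ F) (ψ : H ⟶ F)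
    (h : ∀ (E : EtOver X) [IsAffine E.obj.left.left] (s : sectModEt H E), ∃ a, appM σ E a = appM ψ E s) :
    ψ ≫ cokernel.π σ = 0 := by
  refine hom_ext_affine fun E _ s => ?_
  obtain ⟨a, ha⟩ := h E s
  refine (appM_comp ψ (cokernel.π σ) E s).trans ?_
  rw [← ha]
  exact appM_comp_eq_zero (cokernel.condition σ) E a

theorem appM_ι_comp {T : Type (u + 1)} (H : T → ModEt X) [HasCoproduct H] {G F : ModEt X} (φ : ∀ t, H t ⟶ G)
    (ι : G ⟶ F) (t : T) (E : EtOver X) (s : sectModEt (H t) E) :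
    appM (Sigma.desc φ ≫ ι) E (appM (Sigma.ι H t) E s) = appM ι E (appM (φ t) E s) := by
  refine (appM_comp _ _ E s).symm.trans ?_
  rw [Sigma.ι_desc_assoc, appM_comp]

/-- A module with a mono into a quasi-coherent one has a largest quasi-coherent submodule. -/
theorem exists_largest_qcoh {F G : ModEt X} [F.IsQuasicoherent] (ι : G ⟶ F) [Mono ι] :
    ∃ (G' : ModEt X) (κ : G' ⟶ G), Mono κ ∧ G'.IsQuasicoherent ∧
      ∀ H : ModEt X, H.IsQuasicoherent → Function.Bijective (fun φ : H ⟶ G' => φ ≫ κ) := by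
  let T : Type (u + 1) := Σ E : {E : EtOver X // IsAffine E.obj.left.left},
    {s : sectModEt G E.1 // ∃ (H : ModEt X) (_ : H.IsQuasicoherent) (φ : H ⟶ G) (h : sectModEt H E.1), appM φ E.1 h = s}
  choose H hH φ h hφ using fun t : T => t.2.2
  let σ : ∐ H ⟶ G := Sigma.desc φ
  let σ' : ∐ H ⟶ F := σ ≫ ι
  have hs : HasBC (∐ H) := hasBC_sigma H fun t => haveI := hH t; hasBC_of_isQuasicoherent _
  have hF : HasBC F := hasBC_of_isQuasicoherent F
  let G' : ModEt X := Abelian.image σ'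
  have hG' : HasBC G' := hasBC_kernel hF (hasBC_cokernel hs hF σ') (cokernel.π σ')
  obtain ⟨κ, hmono, hκ⟩ : ∃ κ : G' ⟶ G, Mono κ ∧ κ ≫ ι = Abelian.image.ι σ' := exists_factor_image σ ι
  refine ⟨G', κ, inferInstance, isQuasicoherent_of_hasBC hG', fun H' hH' =>
    ⟨fun a b hab => (cancel_mono κ).1 hab, fun ψ => ?_⟩⟩
  have h0 : (ψ ≫ ι) ≫ cokernel.π σ' = 0 := comp_cokernel_eq_zero σ' (ψ ≫ ι) fun E hE s =>
    let t : T := ⟨⟨E, hE⟩, appM ψ E s, H', hH', ψ, s, rfl⟩
    ⟨appM (Sigma.ι H t) E (h t), (appM_ι_comp H φ ι t E (h t)).trans (congrArg (appM ι E) (hφ t))⟩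
  let l : H' ⟶ G' := kernel.lift (cokernel.π σ') (ψ ≫ ι) h0
  refine ⟨l, (cancel_mono ι).1 ?_⟩
  show (l ≫ κ) ≫ ι = ψ ≫ ι
  rw [Category.assoc, hκ]
  exact kernel.lift_ι _ _ _

end Groth.ModEtQCoh
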