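import Groth.Agent.ModEtQCoh.SpanFamily
import Groth.Agent.ModEtQCoh.Coherator
import Mathlib.CategoryTheory.Subobject.MonoOver

/-!
# A quasi-coherent module on a Noetherian space is the union of its coherent submodules
-/

set_option autoImplicit false
set_option backward.isDefEq.respectTransparency.types false
set_option linter.style.haveILetI false
set_option maxHeartbeats 400000
universe u

open CategoryTheory CategoryTheory.Limits AlgebraicGeometry Opposite AlgSp TensorProduct Groth.AlgSpBasic
  Groth.ModEtQCoh.SpanFamily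

namespace Groth.ModEtQCoh.CoherentUnion

noncomputable section

/-- A morphism from linear maps on affine objects. -/
theorem exists_hom_of_affine {S : Scheme.{u}} {X : Sp S} {M P : ModEt X}
    (φ : ∀ (E : EtOver X), IsAffine E.obj.left.left → sectModEt M E → sectModEt P E)
    (hadd : ∀ E hE t t', φ E hE (t + t') = φ E hE t + φ E hE t')
    (hsmul : ∀ E hE (r : fnA E) t, φ E hE (r • t) = r • φ E hE t)
    (hnat : ∀ {E E' : EtOver X} (hE : IsAffine E.obj.left.left) (hE' : IsAffine E'.obj.left.left) (k : E' ⟶ E)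
      (t : sectModEt M E), φ E' hE' (resM M k t) = resM P k (φ E hE t)) :
    ∃ d : M ⟶ P, ∀ (E : EtOver X) (hE : IsAffine E.obj.left.left) (t : sectModEt M E), appM d E t = φ E hE t := by
  choose W k w hW hk using fun Z : EtOver X => fun x => exists_affine_chart_of_ofPt Z x
  have hJ : ∀ Z, JointlySurj (k Z) := fun Z x => ⟨x, w Z x, hk Z x⟩
  have ext : ∀ {Z : EtOver X} {p q : sectModEt P Z},
      (∀ (V : EtOver X) (_ : IsAffine V.obj.left.left) (j : V ⟶ Z), resM P j p = resM P j q) → p = q :=
    fun {Z} _ _ h => resM_ext P (hJ Z) fun x => h _ (hW Z x) (k Z x)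
  have key : ∀ (Z : EtOver X) (t : sectModEt M Z), ∃ p : sectModEt P Z,
      ∀ (V : EtOver X) (hV : IsAffine V.obj.left.left) (j : V ⟶ Z), resM P j p = φ V hV (resM M j t) := by
    intro Z t
    obtain ⟨p, hp⟩ := exists_resM_eq P (hJ Z) (fun x => φ (W Z x) (hW Z x) (resM M (k Z x) t)) fun x y =>
      ext fun V hV j => by
        rw [← resM_comp, ← resM_comp, ← hnat (hW Z x) hV, ← hnat (hW Z y) hV, ← resM_comp, ← resM_comp,
          Category.assoc, Category.assoc, EtOver.pullback_condition]
    refine ⟨p, fun V hV j => ?_⟩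
    refine resM_ext P (g := fun x => EtOver.pullbackFst j (k Z x))
      (fun v => ?_) fun x => ext fun V' hV' i => ?_
    · obtain ⟨x, z, hz⟩ := hJ Z (j.hom.left.left v)
      obtain ⟨q, hq, -⟩ := Scheme.exists_preimage_of_isPullback
        ((EtOver.isPullback j (k Z x)).map (EtOver.toScheme X)) v z hz.symm
      exact ⟨x, q, hq⟩
    · calc resM P i (resM P (EtOver.pullbackFst j (k Z x)) (resM P j p))
          = resM P (i ≫ EtOver.pullbackSnd j (k Z x)) (resM P (k Z x) p) := by
            rw [← resM_comp, ← resM_comp, ← resM_comp, Category.assoc, Category.assoc, EtOver.pullback_condition]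
        _ = φ V' hV' (resM M (i ≫ EtOver.pullbackSnd j (k Z x)) (resM M (k Z x) t)) := by rw [hp, ← hnat]
        _ = φ V' hV' (resM M (i ≫ EtOver.pullbackFst j (k Z x)) (resM M j t)) := by
            rw [← resM_comp, ← resM_comp, Category.assoc, Category.assoc, EtOver.pullback_condition]
        _ = _ := by rw [← resM_comp P, hnat hV hV']
  choose Φ hΦ using key
  have hΦadd : ∀ Z t t', Φ Z (t + t') = Φ Z t + Φ Z t' := fun Z t t' => ext fun V hV j => by
    rw [map_add, hΦ, hΦ, hΦ, map_add, hadd]
    all_goals exact hV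
  have hΦsmul : ∀ Z (r : fnA Z) t, Φ Z (r • t) = r • Φ Z t := fun Z r t => ext fun V hV j => by
    rw [map_smulₛₗ, hΦ, hΦ, map_smulₛₗ, hsmul]
    all_goals exact hV
  have hΦnat : ∀ {Z Z' : EtOver X} (f : Z' ⟶ Z) t, Φ Z' (resM M f t) = resM P f (Φ Z t) :=
    fun {Z Z'} f t => ext fun V hV j => by
      rw [hΦ, ← resM_comp, ← resM_comp, hΦ]
      all_goals exact hV
  let app : ∀ Z : (EtOver X)ᵒᵖ, M.val.obj Z ⟶ P.val.obj Z := fun Z => ModuleCat.ofHom
    { toFun := fun t => Φ Z.unop t
      map_add' := hΦadd Z.unop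
      map_smul' := fun r t => hΦsmul Z.unop r.down t }
  refine ⟨⟨{ app := app, naturality := fun {Z Z'} f => ModuleCat.hom_ext (LinearMap.ext fun t => hΦnat f.unop t) }⟩,
    fun E hE t => ?_⟩
  have h := hΦ E t E hE (𝟙 E)
  rwa [resM_id, resM_id] at h

variable {S : Scheme.{u}} {X : Sp S} (M : ModEt X) [M.IsQuasicoherent] {U : EtOver X}
  [hUa : IsAffine U.obj.left.left] (F : Set (sectModEt M U))

/-- The submodule attached to a set of sections over the chart. -/
def G : ModEt X := SubFromAffine.sub (isLocalFamily_fam M F)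

/-- Its inclusion. -/
def ι : G M F ⟶ M := SubFromAffine.subι (isLocalFamily_fam M F)

instance : Mono (ι M F) := SubFromAffine.mono_subι (isLocalFamily_fam M F)

omit hUa in
theorem mem_range_iff (E : EtOver X) [hE : IsAffine E.obj.left.left] (t : sectModEt M E) :
    (∃ a, appM (ι M F) E a = t) ↔ t ∈ fam M F E hE :=
  ⟨fun ⟨a, ha⟩ => ha ▸ SubFromAffine.appM_subι_mem (isLocalFamily_fam M F) E hE a,
    fun h => SubFromAffine.exists_appM_subι (isLocalFamily_fam M F) E hE h⟩

variable [QuasiSeparatedSpace ↥S] (hX : IsAlgSpace X) (hqs : IsQuasiSeparatedSp X) (hN : IsLocNoethSp X)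
  (hsurj : Function.Surjective (Points.ofPt U.obj.hom))

omit hUa [M.IsQuasicoherent] [QuasiSeparatedSpace ↥S] in
include hsurj in
theorem jointlySurj_prod {E : EtOver X} {n : ℕ} {W : Fin n → EtOver X} (w : ∀ j, W j ⟶ EtOver.prodObj E U)
    (hcov : JointlySurj w) : JointlySurj fun j => w j ≫ EtOver.prodFst E U := by
  intro x
  obtain ⟨y, hy⟩ := hsurj (Points.ofPt E.obj.hom x)
  rw [Groth.AlgSpBasic.ofPt_eq_map U.obj.hom y] at hy
  obtain ⟨v, -, hv⟩ := (Groth.AlgSpBasic.map_eq_ofPt_iff (U.property.1.isPullback E.obj.hom) _ x).1 hy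
  obtain ⟨j, z, hz⟩ := hcov v
  refine ⟨j, z, ?_⟩
  show (EtOver.prodFst E U).hom.left.left ((w j).hom.left.left z) = x
  rw [hz]
  exact hv

include hX hqs hN hsurj in
theorem finite_sectModEt_G (hF : F.Finite) (E : EtOver X) [hE : IsAffine E.obj.left.left] :
    Module.Finite (fnA E) (sectModEt (G M F) E) := by
  obtain ⟨n, W, w, hW, hcov⟩ := exists_affine_cover_prod hqs E U
  let p := fun j => w j ≫ EtOver.prodFst E U
  have hp : JointlySurj p := jointlySurj_prod hsurj w hcov
  haveI : (G M F).IsQuasicoherent := isQuasicoherent_sub_fam M F hqs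
  let : ∀ j, Algebra (fnA E) (fnA (W j)) := fun j => (resA (p j)).toAlgebra
  have : ∀ j, Module.Flat (fnA E) (fnA (W j)) := fun j => flat_resA (p j)
  refine finite_of_forall_finite_tensor (B := fun j => fnA (W j)) (fun m hm => exists_prime_over hp m) fun j => ?_
  haveI := hW j
  haveI := isNoetherianRing_fnA hX hN (W j)
  haveI : Module.Finite (fnA (W j)) (resSpan M F (w j ≫ EtOver.prodSnd E U)) :=
    Module.Finite.of_fg (Submodule.fg_span (hF.image _))
  have hfin : Module.Finite (fnA (W j)) (sectModEt (G M F) (W j)) :=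
    Module.Finite.of_injective
      ((appM (ι M F) (W j)).codRestrict (resSpan M F (w j ≫ EtOver.prodSnd E U)) fun t => by
        have h := SubFromAffine.appM_subι_mem (isLocalFamily_fam M F) (W j) (hW j) t (W j) (hW j) (𝟙 _)
          (w j ≫ EtOver.prodSnd E U)
        rwa [resM_id] at h)
      fun a b hab => by
        have h := congrArg (fun z : resSpan M F (w j ≫ EtOver.prodSnd E U) => (z : sectModEt M (W j))) hab
        exact appM_injective_of_mono (ι M F) (W j) h
  let := Module.compHom (sectModEt (G M F) (W j)) (resA (p j))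
  have : IsScalarTower (fnA E) (fnA (W j)) (sectModEt (G M F) (W j)) :=
    IsScalarTower.of_algebraMap_smul fun _ _ => rfl
  let r : sectModEt (G M F) E →ₗ[fnA E] sectModEt (G M F) (W j) :=
    { toFun := resM (G M F) (p j), map_add' := map_add _, map_smul' := (resM (G M F) (p j)).map_smulₛₗ }
  exact Module.Finite.equiv ((isBC_iff (resM (G M F) (p j)) rfl r fun _ => rfl).1 (isBC_resM (G M F) (p j))).equiv.symm

include hX hqs hN hsurj in
theorem isFinitePresentation_G (hF : F.Finite) : (G M F).IsFinitePresentation :=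
  haveI : (G M F).IsQuasicoherent := isQuasicoherent_sub_fam M F hqs
  isFinitePresentation_of_forall_finite hX hN (G M F) fun E _ =>
    finite_sectModEt_G M F hX hqs hN hsurj hF E

omit hUa [M.IsQuasicoherent] [QuasiSeparatedSpace ↥S] in
theorem fam_mono {F F' : Set (sectModEt M U)} (h : F ⊆ F') (E : EtOver X) (hE : IsAffine E.obj.left.left)
    [M.IsQuasicoherent] : fam M F E hE ≤ fam M F' E hE := fun _ ht W hW k l =>
  Submodule.span_mono (Set.image_mono h) (ht W hW k l)

include hqs in
/-- Every section lies in the submodule of a finite set. -/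
theorem exists_finite_mem (E : EtOver X) [hE : IsAffine E.obj.left.left] (t : sectModEt M E) :
    ∃ F : Set (sectModEt M U), F.Finite ∧ t ∈ fam M F E hE := by
  classical
  obtain ⟨n, W, w, hW, hcov⟩ := exists_affine_cover_prod hqs E U
  have hloc : ∀ j, ∃ F : Finset (sectModEt M U),
      resM M (w j ≫ EtOver.prodFst E U) t ∈ resSpan M ↑F (w j ≫ EtOver.prodSnd E U) := by
    intro j
    haveI := hW j
    obtain ⟨z, hz⟩ := (isBC_resM M (w j ≫ EtOver.prodSnd E U)).2 (resM M (w j ≫ EtOver.prodFst E U) t)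
    rw [← hz]
    clear hz
    let := (resA (w j ≫ EtOver.prodSnd E U)).toAlgebra
    induction z using TensorProduct.induction_on with
    | zero => exact ⟨∅, by rw [map_zero]; exact zero_mem _⟩
    | tmul a f =>
      refine ⟨{f}, ?_⟩
      rw [show bcLift (resM M (w j ≫ EtOver.prodSnd E U)) (a ⊗ₜ f) = a • _ from bcLift_tmul _ a f]
      exact Submodule.smul_mem _ _ (Submodule.subset_span ⟨f, by simp, rfl⟩)
    | add x y hx hy =>
      obtain ⟨F₁, h₁⟩ := hx
      obtain ⟨F₂, h₂⟩ := hy
      refine ⟨F₁ ∪ F₂, ?_⟩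
      erw [map_add]
      exact add_mem (Submodule.span_mono (Set.image_mono (by simp)) h₁)
        (Submodule.span_mono (Set.image_mono (by simp)) h₂)
  choose F hF using hloc
  refine ⟨⋃ j, (F j : Set (sectModEt M U)), Set.finite_iUnion fun j => (F j).finite_toSet, ?_⟩
  exact mem_fam_of_cover M _ hE w hcov fun j =>
    Submodule.span_mono (Set.image_mono (Set.subset_iUnion (fun j => (F j : Set (sectModEt M U))) j)) (hF j)

/-- The coherent submodules. -/
abbrev Coh : Type (u + 2) :=
  ObjectProperty.FullSubcategory (fun N : MonoOver M => SheafOfModules.IsFinitePresentation N.obj.left)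

omit hUa [M.IsQuasicoherent] [QuasiSeparatedSpace ↥S] in
/-- A map into the submodule exists when sections land in the family. -/
theorem exists_hom_of_mem [M.IsQuasicoherent] {N : ModEt X} (a : N ⟶ M)
    (h : ∀ (E : EtOver X) (hE : IsAffine E.obj.left.left) (s : sectModEt N E), appM a E s ∈ fam M F E hE) :
    ∃ b : N ⟶ G M F, b ≫ ι M F = a := by
  have h0 : a ≫ cokernel.π (ι M F) = 0 := comp_cokernel_eq_zero (ι M F) a fun E hE s =>
    (mem_range_iff M F E (appM a E s)).2 (h E hE s)
  exact ⟨Abelian.monoLift (ι M F) a h0, Abelian.monoLift_comp _ _ _⟩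

variable {M}

/-- The object of a finite set. -/
def obj (hF : F.Finite) : Coh M :=
  ⟨MonoOver.mk (ι M F), isFinitePresentation_G M F hX hqs hN hsurj hF⟩

include hX hqs hN hsurj in
theorem exists_le_obj (N : Coh M) : ∃ (F : Set (sectModEt M U)) (hF : F.Finite),
    Nonempty (N ⟶ obj F hX hqs hN hsurj hF) := by
  haveI : (N.obj.obj.left : ModEt X).IsFinitePresentation := N.property
  let a : (N.obj.obj.left : ModEt X) ⟶ M := N.obj.obj.hom
  obtain ⟨T, hT⟩ := (finite_sectModEt (N.obj.obj.left : ModEt X) U).fg_top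
  let F : Set (sectModEt M U) := appM a U '' (T : Set _)
  have hF : F.Finite := T.finite_toSet.image _
  obtain ⟨b, hb⟩ := exists_hom_of_mem M F a fun E hE s W hW k l => by
    rw [← appM_resM]
    generalize resM (N.obj.obj.left : ModEt X) k s = t
    obtain ⟨z, rfl⟩ := (isBC_resM (N.obj.obj.left : ModEt X) l).2 t
    let := (resA l).toAlgebra
    induction z using TensorProduct.induction_on with
    | zero => rw [map_zero, map_zero]; exact zero_mem _
    | tmul c x =>
      rw [show bcLift (resM (N.obj.obj.left : ModEt X) l) (c ⊗ₜ x) = c • _ from bcLift_tmul _ c x, map_smul,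
        appM_resM]
      refine Submodule.smul_mem _ _ ?_
      have hx : x ∈ Submodule.span (fnA U) (T : Set _) := hT ▸ Submodule.mem_top
      induction hx using Submodule.span_induction with
      | mem y hy => exact Submodule.subset_span ⟨_, ⟨y, hy, rfl⟩, rfl⟩
      | zero => rw [map_zero, map_zero]; exact zero_mem _
      | add y y' _ _ hy hy' => rw [map_add, map_add]; exact add_mem hy hy'
      | smul r y _ hy => rw [map_smul, map_smulₛₗ]; exact Submodule.smul_mem _ _ hy
    | add x y hx hy => erw [map_add, map_add]; exact add_mem hx hy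
  exact ⟨F, hF, ⟨ObjectProperty.homMk (MonoOver.homMk b hb)⟩⟩

include hX hqs hN hsurj in
theorem exists_hom_obj_of_subset {F F' : Set (sectModEt M U)} (hF : F.Finite) (hF' : F'.Finite) (h : F ⊆ F') :
    Nonempty (obj F hX hqs hN hsurj hF ⟶ obj F' hX hqs hN hsurj hF') := by
  obtain ⟨b, hb⟩ := exists_hom_of_mem M F' (ι M F) fun E hE s =>
    fam_mono M h E hE ((mem_range_iff M F E (hE := hE) _).1 ⟨s, rfl⟩)
  exact ⟨ObjectProperty.homMk (MonoOver.homMk b hb)⟩

include hX hqs hN hsurj in
theorem isFiltered_coh : IsFiltered (Coh M) := by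
  haveI : Nonempty (Coh M) := ⟨obj ∅ hX hqs hN hsurj Set.finite_empty⟩
  haveI : IsFilteredOrEmpty (Coh M) := by
    refine ⟨fun A B => ?_, fun A B f g => ⟨B, 𝟙 _, by
      rw [Category.comp_id, Category.comp_id]; exact ObjectProperty.hom_ext _ (Subsingleton.elim _ _)⟩⟩
    obtain ⟨FA, hFA, ⟨a⟩⟩ := exists_le_obj hX hqs hN hsurj A
    obtain ⟨FB, hFB, ⟨b⟩⟩ := exists_le_obj hX hqs hN hsurj B
    exact ⟨obj (FA ∪ FB) hX hqs hN hsurj (hFA.union hFB),
      a ≫ (exists_hom_obj_of_subset hX hqs hN hsurj hFA (hFA.union hFB) Set.subset_union_left).some,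
      b ≫ (exists_hom_obj_of_subset hX hqs hN hsurj hFB (hFA.union hFB) Set.subset_union_right).some, trivial⟩
  exact IsFiltered.mk

include hX hqs hN hsurj in
/-- Compatible maps out of the coherent submodules glue. -/
theorem existsUnique_desc {P : ModEt X} (s : ∀ N : Coh M, (N.obj.obj.left : ModEt X) ⟶ P)
    (hs : ∀ (A B : Coh M) (f : A ⟶ B), f.hom.hom.left ≫ s B = s A) :
    ∃! d : M ⟶ P, ∀ N : Coh M, N.obj.obj.hom ≫ d = s N := by
  classical
  let O := fun (F : Set (sectModEt M U)) (hF : F.Finite) => obj F hX hqs hN hsurj hF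
  let sG : ∀ (F : Set (sectModEt M U)) (hF : F.Finite), G M F ⟶ P := fun F hF => s (O F hF)
  have compat : ∀ (N : Coh M) (F : Set (sectModEt M U)) (hF : F.Finite) (E : EtOver X) [IsAffine E.obj.left.left]
      (x : sectModEt (N.obj.obj.left : ModEt X) E) (y : sectModEt (G M F) E),
      appM N.obj.obj.hom E x = appM (ι M F) E y → appM (s N) E x = appM (sG F hF) E y := by
    intro N F hF E _ x y e
    obtain ⟨F₁, hF₁, ⟨a⟩⟩ := exists_le_obj hX hqs hN hsurj N
    obtain ⟨b⟩ := exists_hom_obj_of_subset hX hqs hN hsurj hF₁ (hF.union hF₁) Set.subset_union_right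
    obtain ⟨c⟩ := exists_hom_obj_of_subset hX hqs hN hsurj hF (hF.union hF₁) Set.subset_union_left
    rw [← hs N _ (a ≫ b), show sG F hF = c.hom.hom.left ≫ s _ from (hs _ _ c).symm]
    refine (appM_comp _ _ E x).trans (Eq.trans ?_ (appM_comp _ _ E y).symm)
    refine congrArg _ (appM_injective_of_mono (ι M (F ∪ F₁)) E ?_)
    refine (appM_comp _ _ E x).symm.trans (Eq.trans ?_ (appM_comp _ _ E y))
    refine Eq.trans (congrArg (fun k => appM k E x) (Over.w (a ≫ b).hom.hom)) ?_
    exact e.trans (congrArg (fun k => appM k E y) (Over.w c.hom.hom)).symm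
  choose Ft hFt hmem using fun (E : EtOver X) (hE : IsAffine E.obj.left.left) (t : sectModEt M E) =>
    exists_finite_mem M hqs (U := U) E t
  choose pre hpre using fun (E : EtOver X) (hE : IsAffine E.obj.left.left) (t : sectModEt M E) =>
    (mem_range_iff M (Ft E hE t) E t).2 (hmem E hE t)
  let φ : ∀ (E : EtOver X) (hE : IsAffine E.obj.left.left), sectModEt M E → sectModEt P E := fun E hE t =>
    appM (sG (Ft E hE t) (hFt E hE t)) E (pre E hE t)
  have hφ : ∀ (E : EtOver X) (hE : IsAffine E.obj.left.left) (t : sectModEt M E) (N : Coh M)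
      (x : sectModEt (N.obj.obj.left : ModEt X) E), appM N.obj.obj.hom E x = t → appM (s N) E x = φ E hE t :=
    fun E hE t N x hx => compat N _ (hFt E hE t) E x (pre E hE t) (hx.trans (hpre E hE t).symm)
  have hadd : ∀ (E : EtOver X) (hE : IsAffine E.obj.left.left) (t t' : sectModEt M E),
      φ E hE (t + t') = φ E hE t + φ E hE t' := by
    intro E hE t t'
    let F₂ := Ft E hE t ∪ Ft E hE t'
    have hF₂ : F₂.Finite := (hFt E hE t).union (hFt E hE t')
    obtain ⟨x, hx⟩ := (mem_range_iff M F₂ E t).2 (fam_mono M Set.subset_union_left E hE (hmem E hE t))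
    obtain ⟨x', hx'⟩ := (mem_range_iff M F₂ E t').2 (fam_mono M Set.subset_union_right E hE (hmem E hE t'))
    have hx'' : appM (ι M F₂) E (x + x') = t + t' := by rw [map_add, hx, hx']
    rw [← hφ E hE t (O F₂ hF₂) x hx, ← hφ E hE t' (O F₂ hF₂) x' hx', ← hφ E hE _ (O F₂ hF₂) (x + x') hx'']
    exact map_add (appM (s (O F₂ hF₂)) E) x x'
  have hsmul : ∀ (E : EtOver X) (hE : IsAffine E.obj.left.left) (r : fnA E) (t : sectModEt M E),
      φ E hE (r • t) = r • φ E hE t := by
    intro E hE r t
    have h1 : appM (ι M (Ft E hE t)) E (r • pre E hE t) = r • t := by rw [map_smul, hpre]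
    rw [← hφ E hE _ (O _ (hFt E hE t)) (r • pre E hE t) h1]
    exact map_smul _ r _
  have hnat : ∀ {E E' : EtOver X} (hE : IsAffine E.obj.left.left) (hE' : IsAffine E'.obj.left.left) (k : E' ⟶ E)
      (t : sectModEt M E), φ E' hE' (resM M k t) = resM P k (φ E hE t) := by
    intro E E' hE hE' k t
    rw [← hφ E' hE' _ (O _ (hFt E hE t)) (resM _ k (pre E hE t))
      ((appM_resM (ι M (Ft E hE t)) k _).trans (congrArg _ (hpre E hE t)))]
    exact appM_resM _ k _
  obtain ⟨d, hd⟩ := exists_hom_of_affine φ hadd hsmul hnat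
  refine ⟨d, fun N => hom_ext_affine fun E hE x => ?_, fun d' hd' => hom_ext_affine fun E hE t => ?_⟩
  · rw [appM_comp, hd E hE, hφ E hE _ N x rfl]
  · rw [hd E hE]
    refine Eq.trans (congrArg _ (hpre E hE t).symm) ?_
    refine (appM_comp _ _ E _).symm.trans ?_
    exact congrArg (fun k => appM k E (pre E hE t)) (hd' (O (Ft E hE t) (hFt E hE t)))

end

end Groth.ModEtQCoh.CoherentUnion
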