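import Groth.Agent.ModEtQCoh.Exact
import Mathlib.LinearAlgebra.DirectSum.TensorProduct

/-!
# Extensions and colimits of quasi-coherent modules on the small etale site
-/

set_option autoImplicit false
set_option backward.isDefEq.respectTransparency.types false
universe u

open CategoryTheory CategoryTheory.Limits AlgebraicGeometry Opposite AlgSp TensorProduct

namespace Groth.ModEtQCoh

variable {S : Scheme.{u}} {X : Sp S}

/-- The local criterion on the small etale site of the space. -/
theorem isBC_resM_of_local {Q : ModEt X} {E : EtOver X} [IsAffine E.obj.left.left] {N₀ : Type (u + 1)}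
    [AddCommGroup N₀] [Module (fnA E) N₀] (φ : N₀ →ₗ[fnA E] sectModEt Q E)
    (hi : ∀ (V : EtOver X) [IsAffine V.obj.left.left] (k : V ⟶ E) (z : Tens (resA k) N₀),
      bcLift ((resM Q k).comp φ) z = 0 → ∃ (n : ℕ) (W : Fin n → EtOver X) (h : ∀ i, W i ⟶ V),
        (∀ i, IsAffine (W i).obj.left.left) ∧ JointlySurj h ∧
          ∀ i, mapTens (resA k) (resA (h i)) N₀ (resA (h i ≫ k)) (fun _ => rfl) z = 0)
    (hs : ∀ (V : EtOver X) [IsAffine V.obj.left.left] (k : V ⟶ E) (s : sectModEt Q V),
      ∃ (n : ℕ) (W : Fin n → EtOver X) (h : ∀ i, W i ⟶ V), (∀ i, IsAffine (W i).obj.left.left) ∧ JointlySurj h ∧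
        ∀ i, ∃ z : Tens (resA (h i ≫ k)) N₀, bcLift ((resM Q (h i ≫ k)).comp φ) z = resM Q (h i) s)
    {E' : EtOver X} [IsAffine E'.obj.left.left] (g : E' ⟶ E) : IsBC (resM Q g) := by
  haveI : IsAffine (topO E).left.obj.left.left := ‹IsAffine E.obj.left.left›
  haveI : IsAffine (Over.mk g).left.obj.left.left := ‹IsAffine E'.obj.left.left›
  letI : Module (fnA (topO E).left) N₀ := ‹Module (fnA E) N₀›
  let φ₀ : N₀ →ₗ[fnA (topO E).left] SecO (Q.over E) (topO E) := φ
  refine isBC_resM_of_isBC_slO φ₀ (fun V _ k => isBC_of_local ?_ ?_ V k) (Over.mk g) (toTopO (Over.mk g))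
  · intro V _ k z hz
    obtain ⟨n, W, h, hW, hcov, hl⟩ := hi V.left k.left z hz
    exact ⟨n, fun i => Over.mk (h i ≫ V.hom), fun i => Over.homMk (h i) rfl, hW, hcov, hl⟩
  · intro V _ k s
    obtain ⟨n, W, h, hW, hcov, hl⟩ := hs V.left k.left s
    exact ⟨n, fun i => Over.mk (h i ≫ V.hom), fun i => Over.homMk (h i) rfl, hW, hcov, hl⟩

theorem hasBC_third {C : ShortComplex (ModEt X)} (hC : C.ShortExact) (h₁ : HasBC C.X₁) (h₂ : HasBC C.X₂) :
    HasBC C.X₃ := by
  haveI := hC.epi_g
  refine hasBC_of_cokernel h₁ h₂ C.f C.g C.zero fun V _ y hy => ?_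
  obtain ⟨κ, hκ⟩ := exists_preimage_of_shortExact hC hy
  exact ⟨1, fun _ => V, fun _ => 𝟙 V, fun _ => inferInstance, fun x => ⟨0, x, rfl⟩,
    fun _ => ⟨κ, by rw [hκ, resM_id]⟩⟩

theorem hasBC_first {C : ShortComplex (ModEt X)} (hC : C.ShortExact) (h₂ : HasBC C.X₂) (h₃ : HasBC C.X₃) :
    HasBC C.X₁ :=
  haveI := hC.mono_f
  hasBC_of_kernel h₂ h₃ C.f C.g C.zero fun _ _ hy => exists_preimage_of_shortExact hC hy

theorem hasBC_middle {C : ShortComplex (ModEt X)} (hC : C.ShortExact) (h₁ : HasBC C.X₁) (h₃ : HasBC C.X₃) :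
    HasBC C.X₂ := by
  intro E E' _ _ g
  haveI := hC.mono_f
  have hf := fun z => bcLift_mapN (resM C.X₁ g) (resM C.X₂ g) (appM C.f E) (appM C.f E')
    (fun m => (appM_resM C.f g m).symm) z
  have hg := fun z => bcLift_mapN (resM C.X₂ g) (resM C.X₃ g) (appM C.g E) (appM C.g E')
    (fun m => (appM_resM C.g g m).symm) z
  have hsurj := appM_surjective_of_shortExact hC h₁ E
  refine ⟨?_, fun s => ?_⟩
  · rw [injective_iff_map_eq_zero]
    intro z hz
    have h0 : mapN (resA g) (appM C.g E) z = 0 :=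
      (h₃ g).1 ((hg z).trans (by rw [hz, map_zero, map_zero]))
    let := (resA g).toAlgebra
    have hex : Function.Exact (appM C.f E) (appM C.g E) := fun y =>
      ⟨fun hy => exists_preimage_of_shortExact hC hy, fun ⟨x, hx⟩ => hx ▸ appM_comp_eq_zero C.zero E x⟩
    obtain ⟨z₁, hz₁⟩ := (lTensor_exact (fnA E') hex hsurj z).1 h0
    have hz₁' : mapN (resA g) (appM C.f E) z₁ = z := hz₁
    have h1 : bcLift (resM C.X₁ g) z₁ = 0 := appM_injective_of_mono C.f E' (by
      rw [← hf z₁, hz₁', hz, map_zero])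
    have h2 : z₁ = 0 := (h₁ g).1 (h1.trans (map_zero _).symm)
    rw [← hz₁', h2, map_zero]
  · obtain ⟨z₃, hz₃⟩ := (h₃ g).2 (appM C.g E' s)
    obtain ⟨z₂, rfl⟩ := mapN_surjective (resA g) hsurj z₃
    rw [hg] at hz₃
    obtain ⟨w, hw⟩ := exists_preimage_of_shortExact hC (y := s - bcLift (resM C.X₂ g) z₂)
      (by rw [map_sub, hz₃, sub_self])
    obtain ⟨z₁, rfl⟩ := (h₁ g).2 w
    exact ⟨z₂ + mapN (resA g) (appM C.f E) z₁, by rw [map_add, hf, hw, add_sub_cancel]⟩

theorem hasBC_of_iso {M N : ModEt X} (e : M ≅ N) (h : HasBC M) : HasBC N := by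
  haveI := isQuasicoherent_of_hasBC h
  haveI : N.IsQuasicoherent := (SheafOfModules.isQuasicoherent (OEtRing X)).prop_of_iso e ‹_›
  exact hasBC_of_isQuasicoherent N

theorem directSumRight_component {A B : Type u} [CommRing A] [CommRing B] [Algebra A B] {ι : Type (u + 1)}
    [DecidableEq ι] {N : ι → Type (u + 1)} [∀ i, AddCommGroup (N i)] [∀ i, Module A (N i)]
    (w : B ⊗[A] DirectSum ι N) (i : ι) :
    DirectSum.component A ι _ i (TensorProduct.directSumRight A A B N w) =
      LinearMap.lTensor B (DirectSum.component A ι _ i) w := by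
  induction w using TensorProduct.induction_on with
  | zero => simp
  | tmul b n =>
    induction n using DirectSum.induction_on with
    | zero => simp
    | of j m =>
      rw [show DirectSum.of N j m = DirectSum.lof A ι _ j m from rfl,
        TensorProduct.directSumRight_tmul_lof, LinearMap.lTensor_tmul, DirectSum.component.of,
        DirectSum.component.of]
      by_cases hji : j = i
      · subst hji; simp
      · simp [hji]
    | add a c ha hc => simp only [TensorProduct.tmul_add, map_add, ha, hc]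
  | add a c ha hc => simp only [map_add, ha, hc]

theorem eq_zero_of_component {A B : Type u} [CommRing A] [CommRing B] (f : A →+* B) {ι : Type (u + 1)}
    [DecidableEq ι] {N : ι → Type (u + 1)} [∀ i, AddCommGroup (N i)] [∀ i, Module A (N i)]
    (z : Tens f (DirectSum ι N)) (h : ∀ i, mapN f (DirectSum.component A ι _ i) z = 0) : z = 0 := by
  let := f.toAlgebra
  refine (TensorProduct.directSumRight A A B N).injective ?_
  rw [map_zero]
  refine DirectSum.ext_component A fun i => ?_
  rw [map_zero, directSumRight_component]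
  exact h i

/-- An extension of modules with finite sections on an affine chart has finite sections there. -/
theorem finite_middle {C : ShortComplex (ModEt X)} (hC : C.ShortExact) (h₁ : HasBC C.X₁)
    [C.X₁.IsFiniteType] [C.X₃.IsFiniteType] [C.X₃.IsQuasicoherent] (E : EtOver X) [IsAffine E.obj.left.left] :
    Module.Finite (fnA E) (sectModEt C.X₂ E) := by
  haveI := isQuasicoherent_of_hasBC h₁
  haveI := finite_sectModEt C.X₁ E
  haveI := finite_sectModEt C.X₃ E
  haveI := hC.mono_f
  refine ⟨Submodule.fg_of_fg_map_of_fg_inf_ker (appM C.g E) ?_ ?_⟩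
  · rw [Submodule.map_top, LinearMap.range_eq_top.2 (appM_surjective_of_shortExact hC h₁ E)]
    exact Module.Finite.fg_top
  · have e : (⊤ : Submodule (fnA E) (sectModEt C.X₂ E)) ⊓ LinearMap.ker (appM C.g E) = LinearMap.range (appM C.f E) := by
      ext y
      rw [top_inf_eq, LinearMap.mem_ker]
      exact ⟨fun hy => exists_preimage_of_shortExact hC hy, fun ⟨x, hx⟩ => hx ▸ appM_comp_eq_zero C.zero E x⟩
    rw [e, LinearMap.range_eq_map]
    exact Module.Finite.fg_top.map _

section sigma

variable {ι : Type (u + 1)} (F : ι → ModEt X) [HasCoproduct F]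

open Classical in
/-- The coordinate morphisms of a coproduct. -/
noncomputable def sigmaCoord (i : ι) : ∐ F ⟶ F i :=
  Sigma.desc fun j => if h : j = i then eqToHom (congrArg F h) else 0

theorem sigmaCoord_ι_self (i : ι) : Sigma.ι F i ≫ sigmaCoord F i = 𝟙 _ := by
  rw [sigmaCoord, Sigma.ι_desc, dif_pos rfl]; rfl

theorem sigmaCoord_ι_ne {i j : ι} (h : j ≠ i) : Sigma.ι F j ≫ sigmaCoord F i = 0 := by
  rw [sigmaCoord, Sigma.ι_desc, dif_neg h]

/-- The sections in the sum of the images of the summands. -/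
noncomputable def sigmaSub : (∐ F).val.Submodule where
  obj Z := ⨆ i, LinearMap.range ((Sigma.ι F i).val.app Z).hom
  map {Z W} f := iSup_le fun i => by
    rintro _ ⟨t, rfl⟩
    refine Submodule.mem_comap.2 (Submodule.mem_iSup_of_mem i ⟨(F i).val.map f t, ?_⟩)
    exact PresheafOfModules.naturality_apply (Sigma.ι F i).val f t

theorem locSurj_sigmaSub :
    Presheaf.IsLocallySurjective (etTop X) ((PresheafOfModules.toPresheaf _).map (sigmaSub F).ι) := by
  let adj := PresheafOfModules.sheafificationAdjunction.{u + 1} (𝟙 (OEtRing X).obj)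
  let f := (adj.homEquiv _ (∐ F)).symm (sigmaSub F).ι
  have hf : adj.homEquiv _ _ f = (sigmaSub F).ι := Equiv.apply_symm_apply _ _
  have : Epi f := by
    refine ⟨fun {Z} a b hab => Sigma.hom_ext _ _ fun i => ?_⟩
    have h2 := congrArg (adj.homEquiv _ Z) hab
    rw [adj.homEquiv_naturality_right, adj.homEquiv_naturality_right, hf] at h2
    refine SheafOfModules.hom_ext (PresheafOfModules.hom_ext fun W => ModuleCat.hom_ext (LinearMap.ext fun t => ?_))
    exact congrArg (fun k : (sigmaSub F).toPresheafOfModules ⟶ _ => (k.app W).hom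
      ⟨_, Submodule.mem_iSup_of_mem i ⟨t, rfl⟩⟩) h2
  have h1 : Presheaf.IsLocallySurjective (etTop X) ((PresheafOfModules.toPresheaf _).map f.val) :=
    ⟨fun s => imageSieve_mem_of_epi f s⟩
  rw [← hf, PresheafOfModules.sheafificationAdjunction_homEquiv_apply]
  show Presheaf.IsLocallySurjective _ (CategoryTheory.toSheafify _ _ ≫ (PresheafOfModules.toPresheaf _).map f.val)
  exact @Presheaf.isLocallySurjective_comp _ _ _ _ _ _ _ _ _ _ _ _ _ _ inferInstance h1

theorem coord_lof {i : ι} [DecidableEq ι] {E V : EtOver X} (k : V ⟶ E)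
    (ψ : DirectSum ι (fun i => sectModEt (F i) E) →ₛₗ[resA k] sectModEt (∐ F) V)
    (hψ : ∀ j m, ψ (DirectSum.lof (fnA E) ι (fun i => sectModEt (F i) E) j m) = appM (Sigma.ι F j) V (resM (F j) k m))
    (n : DirectSum ι (fun i => sectModEt (F i) E)) :
    resM (F i) k (DirectSum.component (fnA E) ι (fun i => sectModEt (F i) E) i n) = appM (sigmaCoord F i) V (ψ n) := by
  induction n using DirectSum.induction_on with
  | zero => simp only [map_zero]
  | of j m =>
    refine Eq.trans ?_ (congrArg (appM (sigmaCoord F i) V) (hψ j m)).symm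
    rw [← appM_comp]
    show resM (F i) k (DirectSum.component (fnA E) ι (fun i => sectModEt (F i) E) i (DirectSum.lof (fnA E) ι (fun i => sectModEt (F i) E) j m)) = _
    rw [DirectSum.component.of]
    by_cases hji : j = i
    · subst hji
      rw [sigmaCoord_ι_self, dif_pos rfl]; rfl
    · rw [sigmaCoord_ι_ne F hji, dif_neg hji, map_zero]; rfl
  | add a b ha hb => simp only [map_add, ha, hb]

theorem coord_eq_zero [DecidableEq ι] (hF : ∀ i, HasBC (F i)) {E V : EtOver X} [IsAffine E.obj.left.left]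
    [IsAffine V.obj.left.left] (k : V ⟶ E)
    (ψ : DirectSum ι (fun i => sectModEt (F i) E) →ₛₗ[resA k] sectModEt (∐ F) V)
    (hψ : ∀ j m, ψ (DirectSum.lof (fnA E) ι (fun i => sectModEt (F i) E) j m) = appM (Sigma.ι F j) V (resM (F j) k m))
    (z : Tens (resA k) (DirectSum ι (fun i => sectModEt (F i) E))) (hz : bcLift ψ z = 0) : z = 0 := by
  refine eq_zero_of_component (N := fun i => sectModEt (F i) E) (resA k) z fun i => (hF i k).1 ?_
  rw [bcLift_mapN ψ (resM (F i) k) (DirectSum.component (fnA E) ι (fun i => sectModEt (F i) E) i) (appM (sigmaCoord F i) V) (coord_lof F k ψ hψ) z, hz, map_zero, map_zero]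

theorem exists_of_mem_sigmaSub [DecidableEq ι] (hF : ∀ i, HasBC (F i)) {E V : EtOver X} [IsAffine E.obj.left.left]
    [IsAffine V.obj.left.left] (k : V ⟶ E)
    (ψ : DirectSum ι (fun i => sectModEt (F i) E) →ₛₗ[resA k] sectModEt (∐ F) V)
    (hψ : ∀ j m, ψ (DirectSum.lof (fnA E) ι (fun i => sectModEt (F i) E) j m) = appM (Sigma.ι F j) V (resM (F j) k m))
    (x : sectModEt (∐ F) V) (hx : x ∈ (sigmaSub F).obj (op V)) : ∃ z, bcLift ψ z = x := by
  refine Submodule.iSup_induction _ (motive := fun x => ∃ z, bcLift ψ z = x) hx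
    (fun j x hxj => ?_) ⟨0, map_zero _⟩ fun x y hx hy => ?_
  · obtain ⟨w, rfl⟩ := hxj
    obtain ⟨z, rfl⟩ := (hF j k).2 w
    exact ⟨mapN (resA k) (DirectSum.lof (fnA E) ι (fun i => sectModEt (F i) E) j) z,
      bcLift_mapN (resM (F j) k) ψ (DirectSum.lof (fnA E) ι (fun i => sectModEt (F i) E) j) (appM (Sigma.ι F j) V) (fun m => hψ j m) z⟩
  · obtain ⟨z, rfl⟩ := hx
    obtain ⟨z', rfl⟩ := hy
    exact ⟨z + z', map_add _ z z'⟩

/-- The map from the sum of sections to sections of the coproduct. -/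
noncomputable def sigmaHom [DecidableEq ι] (E : EtOver X) :
    DirectSum ι (fun i => sectModEt (F i) E) →ₗ[fnA E] sectModEt (∐ F) E :=
  DirectSum.toModule (fnA E) ι _ fun i => appM (Sigma.ι F i) E

theorem resM_sigmaHom_lof [DecidableEq ι] {E V : EtOver X} (k : V ⟶ E) (j : ι) (m : sectModEt (F j) E) :
    (resM (∐ F) k).comp (sigmaHom F E) (DirectSum.lof (fnA E) ι (fun i => sectModEt (F i) E) j m) =
      appM (Sigma.ι F j) V (resM (F j) k m) :=
  by
  rw [LinearMap.comp_apply, sigmaHom, DirectSum.toModule_lof]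
  exact (appM_resM (Sigma.ι F j) k m).symm

theorem hasBC_sigma (hF : ∀ i, HasBC (F i)) : HasBC (∐ F) := by
  classical
  intro E E' _ _ g
  refine isBC_resM_of_local (sigmaHom F E) (fun V _ k z hz => ?_) (fun V _ k s => ?_) g
  · have hz0 : z = 0 := coord_eq_zero F hF k ((resM (∐ F) k).comp (sigmaHom F E)) (resM_sigmaHom_lof F k) z hz
    exact ⟨1, fun _ => V, fun _ => 𝟙 V, fun _ => inferInstance, fun x => ⟨0, x, rfl⟩, fun _ => by
      rw [hz0, map_zero]⟩
  · have := locSurj_sigmaSub F
    obtain ⟨n, W, h, hW, hcov, hl⟩ := exists_affine_cover (this.imageSieve_mem (U := V) s)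
    refine ⟨n, W, h, hW, hcov, fun i => ?_⟩
    haveI := hW i
    obtain ⟨⟨t, ht⟩, htW⟩ := hl i
    obtain ⟨z, hz⟩ := exists_of_mem_sigmaSub F hF (h i ≫ k) ((resM (∐ F) (h i ≫ k)).comp (sigmaHom F E))
      (resM_sigmaHom_lof F (h i ≫ k)) t ht
    exact ⟨z, hz.trans htW⟩

end sigma

/-- Colimits of modules with base change on affine objects have it. -/
theorem hasBC_colimit {J : Type u} [SmallCategory J] (D : J ⥤ ModEt X) [HasColimit D]
    (hD : ∀ j, HasBC (D.obj j)) : HasBC (colimit D) := by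
  let O := ULift.{u + 1} J
  let A := ULift.{u + 1} (Σ j k : J, j ⟶ k)
  let FO : O → ModEt X := fun j => D.obj j.down
  let FA : A → ModEt X := fun f => D.obj f.down.1
  let d : ∐ FA ⟶ ∐ FO :=
    Sigma.desc fun f => Sigma.ι FO ⟨f.down.1⟩ - D.map f.down.2.2 ≫ Sigma.ι FO ⟨f.down.2.1⟩
  let π : ∐ FO ⟶ colimit D := Sigma.desc fun j => colimit.ι D j.down
  have hdπ : d ≫ π = 0 := Sigma.hom_ext _ _ fun f => by
    simp only [d, π, Sigma.ι_desc_assoc, Sigma.ι_desc, Preadditive.sub_comp, Category.assoc, comp_zero]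
    rw [colimit.w D f.down.2.2, sub_self]
  let cc : Cocone D :=
    { pt := cokernel d
      ι :=
        { app := fun j => Sigma.ι FO ⟨j⟩ ≫ cokernel.π d
          naturality := fun j k f => by
            have h0 : Sigma.ι FA ⟨⟨j, k, f⟩⟩ ≫ d ≫ cokernel.π d = 0 := by rw [cokernel.condition, comp_zero]
            simp only [d, Sigma.ι_desc_assoc, Preadditive.sub_comp, Category.assoc, sub_eq_zero] at h0
            simpa using h0.symm } }
  refine hasBC_of_iso (M := cokernel d)
    { hom := cokernel.desc d π hdπ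
      inv := colimit.desc D cc
      hom_inv_id := coequalizer.hom_ext (Sigma.hom_ext _ _ fun j => by
        simp [π, cc]; rfl)
      inv_hom_id := colimit.hom_ext fun j => by simp [π, cc] }
    (hasBC_cokernel (hasBC_sigma FA fun f => hD _) (hasBC_sigma FO fun j => hD _) d)

end Groth.ModEtQCoh
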