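import Mathlib.RingTheory.Flat.Equalizer
import Mathlib.RingTheory.RingHom.Flat
import Mathlib.RingTheory.Ideal.Quotient.Operations
import Mathlib.RingTheory.TensorProduct.Maps
import Mathlib.LinearAlgebra.TensorProduct.Pi
import Mathlib.LinearAlgebra.TensorProduct.RightExactness
import Mathlib.RingTheory.Spectrum.Prime.Basic
import Mathlib.RingTheory.IsTensorProduct
import Mathlib.RingTheory.TensorProduct.IsBaseChangePi
import Mathlib.LinearAlgebra.DirectSum.Finsupp
import Mathlib.Algebra.Category.Ring.Constructions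

/-!
# Commutative algebra for quasi-coherent modules on the small etale site

Flat covering families detect and glue elements, and base change is detected on an equalizer.
-/

set_option autoImplicit false
universe u v w

open TensorProduct

namespace Groth.ModEtQCoh

section cover

variable {A : Type u} [CommRing A] {K : Type v} {B : K → Type u}
  [∀ k, CommRing (B k)] [∀ k, Algebra A (B k)] [∀ k, Module.Flat A (B k)]
  {P : Type w} [AddCommGroup P] [Module A P]

/-- An element killed by a flat covering family vanishes. -/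
theorem eq_zero_of_forall_one_tmul
    (hcov : ∀ m : Ideal A, m.IsMaximal →
      ∃ k, ∃ q : Ideal (B k), q.IsPrime ∧ q.comap (algebraMap A (B k)) = m)
    {x : P} (hx : ∀ k, (1 : B k) ⊗ₜ[A] x = 0) : x = 0 := by
  let g : A →ₗ[A] P := LinearMap.toSpanSingleton A P x
  let I : Ideal A := LinearMap.ker g
  suffices hI : I = ⊤ by
    have : g 1 = 0 := by rw [← LinearMap.mem_ker]; exact (Ideal.eq_top_iff_one _).mp hI
    simpa [g] using this
  by_contra hI
  obtain ⟨m, hm, hIm⟩ := Ideal.exists_le_maximal I hI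
  obtain ⟨k, q, hq, hqm⟩ := hcov m hm
  let gbar : (A ⧸ I) →ₗ[A] P := Submodule.liftQ I g le_rfl
  have hgbar : Function.Injective gbar :=
    LinearMap.ker_eq_bot.1 (Submodule.ker_liftQ_eq_bot _ _ _ le_rfl)
  have hz : (1 : B k) ⊗ₜ[A] (1 : A ⧸ I) = 0 := by
    refine Module.Flat.lTensor_preserves_injective_linearMap (M := B k) gbar hgbar ?_
    rw [LinearMap.lTensor_tmul, map_zero]
    have : gbar 1 = x := (Submodule.liftQ_apply I g (1 : A)).trans (one_smul A _)
    rw [this, hx k]
  have hIq : I ≤ q.comap (algebraMap A (B k)) := hqm ▸ hIm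
  let f : B k ⊗[A] (A ⧸ I) →ₐ[A] B k ⧸ q :=
    Algebra.TensorProduct.lift (Ideal.Quotient.mkₐ A q)
      (Ideal.quotientMapₐ q (Algebra.ofId A (B k)) hIq) fun _ _ => Commute.all _ _
  have h1 : (1 : B k ⧸ q) = 0 := by
    rw [← map_one f, Algebra.TensorProduct.one_def, hz, map_zero]
  exact hq.ne_top (Ideal.Quotient.zero_eq_one_iff.mp h1.symm)

variable (A B P) in
/-- The difference of the two pullbacks of the `k`-th and `l`-th components. -/
noncomputable def amitsurDiff (k l : K) :
    ((j : K) → B j ⊗[A] P) →ₗ[A] B k ⊗[A] (B l ⊗[A] P) :=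
  LinearMap.lTensor (B k) (TensorProduct.mk A (B l) P 1) ∘ₗ LinearMap.proj k -
    TensorProduct.mk A (B k) (B l ⊗[A] P) 1 ∘ₗ LinearMap.proj l

/-- A compatible family on a finite flat covering family comes from a unique element. -/
theorem exists_eq_one_tmul_of_compat [Finite K]
    (hcov : ∀ m : Ideal A, m.IsMaximal →
      ∃ k, ∃ q : Ideal (B k), q.IsPrime ∧ q.comap (algebraMap A (B k)) = m)
    (e : ∀ k, B k ⊗[A] P)
    (hcomp : ∀ k l, LinearMap.lTensor (B k) (TensorProduct.mk A (B l) P 1) (e k) = 1 ⊗ₜ e l) :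
    ∃ p : P, ∀ k, e k = 1 ⊗ₜ p := by
  classical
  let _ := Fintype.ofFinite K
  let C : Submodule A ((k : K) → B k ⊗[A] P) :=
    ⨅ (k) (l), LinearMap.ker (amitsurDiff A B P k l)
  have memC : ∀ x, x ∈ C ↔ ∀ k l,
      LinearMap.lTensor (B k) (TensorProduct.mk A (B l) P 1) (x k) = 1 ⊗ₜ x l := by
    intro x
    simp [C, amitsurDiff, sub_eq_zero]
  let δ : P →ₗ[A] C := LinearMap.codRestrict C
    (LinearMap.pi fun k => TensorProduct.mk A (B k) P 1) fun p => (memC _).2 fun k l => by simp
  let x : C := ⟨e, (memC e).2 hcomp⟩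
  suffices h : x ∈ LinearMap.range δ by
    obtain ⟨p, hp⟩ := h
    exact ⟨p, fun k => (congrFun (congrArg Subtype.val hp) k).symm⟩
  let hC : AddCommGroup C := Submodule.addCommGroup C
  rw [← Submodule.Quotient.mk_eq_zero]
  refine eq_zero_of_forall_one_tmul hcov fun k => ?_
  have hw : LinearMap.lTensor (B k) δ (e k) = 1 ⊗ₜ x := by
    refine Module.Flat.lTensor_preserves_injective_linearMap (M := B k) C.subtype
      C.injective_subtype ?_
    refine (TensorProduct.piRight A A (B k) fun l => B l ⊗[A] P).injective (funext fun l => ?_)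
    rw [← LinearMap.comp_apply, ← LinearMap.lTensor_comp]
    have key : ∀ z : B k ⊗[A] P,
        TensorProduct.piRight A A (B k) (fun l => B l ⊗[A] P)
          (LinearMap.lTensor (B k) (C.subtype ∘ₗ δ) z) l =
        LinearMap.lTensor (B k) (TensorProduct.mk A (B l) P 1) z := by
      intro z
      induction z using TensorProduct.induction_on with
      | zero => simp
      | tmul b p => simp [δ]
      | add a b ha hb => simp only [map_add, Pi.add_apply, ha, hb]
    rw [key]
    simp [x, hcomp k l]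
  calc (1 : B k) ⊗ₜ[A] (Submodule.Quotient.mk x : C ⧸ LinearMap.range δ)
      = LinearMap.lTensor (B k) (LinearMap.range δ).mkQ (1 ⊗ₜ x) := rfl
    _ = LinearMap.lTensor (B k) ((LinearMap.range δ).mkQ ∘ₗ δ) (e k) := by
        rw [← hw, LinearMap.lTensor_comp, LinearMap.comp_apply]
    _ = 0 := by rw [LinearMap.range_mkQ_comp, LinearMap.lTensor_zero, LinearMap.zero_apply]

end cover

section chase

variable {A A' : Type u} [CommRing A] [CommRing A'] [Algebra A A'] [Module.Flat A A']
  {M Q Q₂ : Type w} [AddCommGroup M] [Module A M] [AddCommGroup Q] [Module A Q]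
  [AddCommGroup Q₂] [Module A Q₂]
  {M' Q' Q₂' : Type w} [AddCommGroup M'] [Module A M'] [Module A' M'] [IsScalarTower A A' M']
  [AddCommGroup Q'] [Module A Q'] [Module A' Q'] [IsScalarTower A A' Q']
  [AddCommGroup Q₂'] [Module A Q₂'] [Module A' Q₂'] [IsScalarTower A A' Q₂']

/-- Base change of an equalizer along a flat map. -/
theorem isBaseChange_of_equalizer
    {r : M →ₗ[A] M'} {q : Q →ₗ[A] Q'} {q₂ : Q₂ →ₗ[A] Q₂'}
    (j : M →ₗ[A] Q) (d₁ d₂ : Q →ₗ[A] Q₂) (j' : M' →ₗ[A'] Q') (d₁' d₂' : Q' →ₗ[A'] Q₂')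
    (hj : Function.Injective j) (hjd : ∀ m, d₁ (j m) = d₂ (j m))
    (hex : ∀ y, d₁ y = d₂ y → ∃ m, j m = y)
    (hj' : Function.Injective j') (hjd' : ∀ m, d₁' (j' m) = d₂' (j' m))
    (cj : ∀ m, j' (r m) = q (j m)) (cd₁ : ∀ y, d₁' (q y) = q₂ (d₁ y))
    (cd₂ : ∀ y, d₂' (q y) = q₂ (d₂ y))
    (hq : IsBaseChange A' q) (hq₂ : IsBaseChange A' q₂) : IsBaseChange A' r := by
  have eq : ∀ z, hq.equiv (LinearMap.lTensor A' j z) = j' (LinearMap.liftBaseChange A' r z) := by
    intro z
    induction z using TensorProduct.induction_on with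
    | zero => simp
    | tmul a m => simp [IsBaseChange.equiv_tmul, cj]
    | add a b ha hb => simp only [map_add, ha, hb]
  have e₁ : ∀ (d : Q →ₗ[A] Q₂) (d' : Q' →ₗ[A'] Q₂'), (∀ y, d' (q y) = q₂ (d y)) →
      ∀ z, d' (hq.equiv z) = hq₂.equiv (LinearMap.lTensor A' d z) := by
    intro d d' h z
    induction z using TensorProduct.induction_on with
    | zero => simp
    | tmul a m => simp [IsBaseChange.equiv_tmul, h]
    | add a b ha hb => simp only [map_add, ha, hb]
  suffices h : Function.Bijective (LinearMap.liftBaseChange A' r) from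
    IsBaseChange.of_equiv (LinearEquiv.ofBijective _ h) fun x => by simp
  refine ⟨fun z z' hz => ?_, fun n => ?_⟩
  · refine Module.Flat.lTensor_preserves_injective_linearMap (M := A') j hj (hq.equiv.injective ?_)
    rw [eq, eq, hz]
  · obtain ⟨z, hz⟩ := hq.equiv.surjective (j' n)
    have h12 : LinearMap.lTensor A' d₁ z = LinearMap.lTensor A' d₂ z := by
      refine hq₂.equiv.injective ?_
      rw [← e₁ d₁ d₁' cd₁, ← e₁ d₂ d₂' cd₂, hz]
      exact hjd' n
    have hexact : Function.Exact j (d₁ - d₂) := fun y => by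
      constructor
      · intro h
        exact hex y (by rwa [LinearMap.sub_apply, sub_eq_zero] at h)
      · rintro ⟨m, rfl⟩
        rw [LinearMap.sub_apply, hjd, sub_self]
    obtain ⟨t, rfl⟩ := (Module.Flat.lTensor_exact A' hexact z).1 (by
      rw [LinearMap.lTensor_sub, LinearMap.sub_apply, h12, sub_self])
    exact ⟨t, hj' ((eq t).symm.trans hz)⟩

end chase

section pushout

variable {A A' B B' : Type u} [CommRing A] [CommRing A'] [CommRing B] [CommRing B'] [Algebra A A']
  [Algebra A B] [Algebra A B'] [Algebra B B'] [Algebra A' B'] [IsScalarTower A B B']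
  [IsScalarTower A A' B'] [Algebra.IsPushout A A' B B']
  {M N : Type w} [AddCommGroup M] [Module A M] [Module B M] [IsScalarTower A B M]
  [AddCommGroup N] [Module A N] [Module B N] [Module B' N] [IsScalarTower B B' N]
  [IsScalarTower A B N] [Module A' N] [IsScalarTower A' B' N] [IsScalarTower A A' N]

/-- If `B' = A' ⊗ B` then base change from `B` to `B'` is base change from `A` to `A'`. -/
theorem isBaseChange_of_isPushout {f : M →ₗ[B] N} (hf : IsBaseChange B' f) :
    IsBaseChange A' (f.restrictScalars A) := by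
  refine IsBaseChange.of_equiv ((Algebra.IsPushout.cancelBaseChange A A' B B' M).symm ≪≫ₗ
    hf.equiv.restrictScalars A') fun x => ?_
  simp [IsBaseChange.equiv_tmul]

end pushout

section descent

variable {A B : Type u} [CommRing A] [CommRing B] [Algebra A B] (N : Type w) [AddCommGroup N] [Module A N]

/-- The map on `B ⊗ N` induced by a map of algebras. -/
noncomputable abbrev mapT {B₁ B₂ : Type u} [CommRing B₁] [CommRing B₂] [Algebra A B₁] [Algebra A B₂]
    (f : B₁ →ₐ[A] B₂) : B₁ ⊗[A] N →ₗ[A] B₂ ⊗[A] N :=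
  LinearMap.rTensor N f.toLinearMap

variable {N} {K : Type v} {Bk : K → Type u} [∀ k, CommRing (Bk k)] [∀ k, Algebra A (Bk k)]
  [∀ k, Algebra B (Bk k)] [∀ k, IsScalarTower A B (Bk k)] [∀ k, Module.Flat B (Bk k)]

omit [∀ k, Module.Flat B (Bk k)] in
/-- The cancellation equivalence, applied to a tensor with one on the left. -/
theorem cancelBaseChange_one_tmul (k : K) (z : B ⊗[A] N) :
    TensorProduct.AlgebraTensorModule.cancelBaseChange A B B (Bk k) N (1 ⊗ₜ z) =
      mapT N (IsScalarTower.toAlgHom A B (Bk k)) z := by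
  induction z using TensorProduct.induction_on with
  | zero => simp
  | tmul b n => simp [Algebra.smul_def]
  | add a b ha hb => simp only [TensorProduct.tmul_add, map_add, ha, hb]

/-- An element of `B ⊗ N` vanishes if it vanishes on a flat covering family of `B`. -/
theorem eq_zero_of_forall_mapT
    (hcov : ∀ m : Ideal B, m.IsMaximal →
      ∃ k, ∃ q : Ideal (Bk k), q.IsPrime ∧ q.comap (algebraMap B (Bk k)) = m)
    {z : B ⊗[A] N} (hz : ∀ k, mapT N (IsScalarTower.toAlgHom A B (Bk k)) z = 0) : z = 0 :=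
  eq_zero_of_forall_one_tmul hcov fun k =>
    (TensorProduct.AlgebraTensorModule.cancelBaseChange A B B (Bk k) N).injective (by
      rw [cancelBaseChange_one_tmul, hz k, map_zero])

/-- Gluing of tensors along a finite flat covering family. -/
theorem exists_mapT_eq [Finite K]
    (hcov : ∀ m : Ideal B, m.IsMaximal →
      ∃ k, ∃ q : Ideal (Bk k), q.IsPrime ∧ q.comap (algebraMap B (Bk k)) = m)
    (e : ∀ k, Bk k ⊗[A] N)
    (hcomp : ∀ k l, ∃ (C : Type u) (_ : CommRing C) (_ : Algebra A C) (_ : Algebra B C)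
      (_ : IsScalarTower A B C) (_ : Algebra (Bk k) C) (_ : Algebra (Bk l) C)
      (_ : IsScalarTower B (Bk k) C) (_ : IsScalarTower B (Bk l) C)
      (_ : IsScalarTower A (Bk k) C) (_ : IsScalarTower A (Bk l) C),
      Algebra.IsPushout B (Bk k) (Bk l) C ∧
        mapT N (IsScalarTower.toAlgHom A (Bk k) C) (e k) = mapT N (IsScalarTower.toAlgHom A (Bk l) C) (e l)) :
    ∃ p : B ⊗[A] N, ∀ k, mapT N (IsScalarTower.toAlgHom A B (Bk k)) p = e k := by
  let c := fun k => TensorProduct.AlgebraTensorModule.cancelBaseChange A B B (Bk k) N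
  obtain ⟨p, hp⟩ := exists_eq_one_tmul_of_compat (P := B ⊗[A] N) hcov (fun k => (c k).symm (e k)) fun k l => by
    obtain ⟨C, _, _, _, _, _, _, _, _, _, _, hpo, he⟩ := hcomp k l
    let θ : Bk k ⊗[B] (Bk l ⊗[B] (B ⊗[A] N)) ≃ₗ[B] C ⊗[A] N :=
      (TensorProduct.assoc B (Bk k) (Bk l) (B ⊗[A] N)).symm ≪≫ₗ
        TensorProduct.congr ((Algebra.IsPushout.equiv B (Bk k) (Bk l) C).toLinearEquiv.restrictScalars B)
          (LinearEquiv.refl B _) ≪≫ₗ
        TensorProduct.AlgebraTensorModule.cancelBaseChange A B B C N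
    have hk : ∀ z, θ (LinearMap.lTensor (Bk k) (TensorProduct.mk B (Bk l) (B ⊗[A] N) 1) ((c k).symm z)) =
        mapT N (IsScalarTower.toAlgHom A (Bk k) C) z := by
      intro z
      induction z using TensorProduct.induction_on with
      | zero => simp
      | tmul b n => simp [c, θ, Algebra.IsPushout.equiv_tmul]
      | add a b ha hb => simp only [map_add, ha, hb]
    have hl : ∀ z, θ (1 ⊗ₜ (c l).symm z) = mapT N (IsScalarTower.toAlgHom A (Bk l) C) z := by
      intro z
      induction z using TensorProduct.induction_on with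
      | zero => simp
      | tmul b n => simp [c, θ, Algebra.IsPushout.equiv_tmul]
      | add a b ha hb => simp only [map_add, TensorProduct.tmul_add, ha, hb]
    refine θ.injective ?_
    rw [hk, hl, he]
  refine ⟨p, fun k => ?_⟩
  rw [← cancelBaseChange_one_tmul k p, ← hp k, LinearEquiv.apply_symm_apply]

end descent

section semilinear

variable {A B C : Type u} [CommRing A] [CommRing B] [CommRing C] (f : A →+* B) (h : B →+* C)
  (N : Type w) [AddCommGroup N] [Module A N]

/-- The base change of a module along a ring map. -/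
abbrev Tens : Type max u w := letI := f.toAlgebra; B ⊗[A] N

/-- Base change along a composite. -/
noncomputable def mapTens (f' : A →+* C) (hh : ∀ a, h (f a) = f' a) : Tens f N →+ Tens f' N :=
  letI := f.toAlgebra
  letI := f'.toAlgebra
  (mapT N ({ h with commutes' := hh } : B →ₐ[A] C)).toAddMonoidHom

variable {f h N} {W : Type v} [AddCommGroup W] [Module B W]

/-- The map out of a base change given by a semilinear map. -/
noncomputable def bcLift (ψ : N →ₛₗ[f] W) : Tens f N →+ W :=
  letI := f.toAlgebra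
  letI := Module.compHom W f
  haveI : IsScalarTower A B W := IsScalarTower.of_algebraMap_smul fun _ _ => rfl
  (LinearMap.liftBaseChange B
    ({ toFun := ψ, map_add' := map_add ψ, map_smul' := ψ.map_smulₛₗ } : N →ₗ[A] W)).toAddMonoidHom

/-- A semilinear map which exhibits its target as a base change. -/
def IsBC (ψ : N →ₛₗ[f] W) : Prop := Function.Bijective (bcLift ψ)

theorem bcLift_tmul (ψ : N →ₛₗ[f] W) (b : B) (n : N) :
    bcLift ψ (letI := f.toAlgebra; b ⊗ₜ[A] n) = b • ψ n := by
  let := f.toAlgebra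
  let := Module.compHom W f
  have : IsScalarTower A B W := IsScalarTower.of_algebraMap_smul fun _ _ => rfl
  exact LinearMap.liftBaseChange_tmul _ _ _ _

theorem bcLift_mapTens {W' : Type v} [AddCommGroup W'] [Module C W'] (ψ : N →ₛₗ[f] W)
    {f' : A →+* C} (hh : ∀ a, h (f a) = f' a)
    (ψ' : N →ₛₗ[f'] W') (ρ : W →ₛₗ[h] W') (hψ : ∀ n, ψ' n = ρ (ψ n)) (z : Tens f N) :
    bcLift ψ' (mapTens f h N f' hh z) = ρ (bcLift ψ z) := by
  let := f.toAlgebra
  induction z using TensorProduct.induction_on with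
  | zero => simp only [map_zero]
  | tmul b n =>
    rw [bcLift_tmul, map_smulₛₗ, ← hψ]
    exact bcLift_tmul ψ' (h b) n
  | add a b ha hb =>
    erw [map_add, map_add, map_add, map_add, ha, hb]

theorem isBC_iff [i : Algebra A B] [Module A W] [IsScalarTower A B W] (ψ : N →ₛₗ[f] W)
    (hf : algebraMap A B = f) (r : N →ₗ[A] W) (hr : ∀ n, r n = ψ n) : IsBC ψ ↔ IsBaseChange B r := by
  obtain rfl : i = f.toAlgebra := Algebra.algebra_ext _ _ fun a => RingHom.congr_fun hf a
  let := f.toAlgebra
  have key : (bcLift ψ : B ⊗[A] N → W) = LinearMap.liftBaseChange B r := by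
    funext z
    induction z using TensorProduct.induction_on with
    | zero => simp
    | tmul b n => rw [LinearMap.liftBaseChange_tmul, hr]; exact bcLift_tmul ψ b n
    | add a b ha hb => simp only [map_add, ← ha, ← hb]
  constructor
  · intro H
    refine IsBaseChange.of_equiv (LinearEquiv.ofBijective (LinearMap.liftBaseChange B r) ?_) fun n => by
      show LinearMap.liftBaseChange B r (1 ⊗ₜ n) = r n
      rw [LinearMap.liftBaseChange_tmul, one_smul]
    rw [← key]
    exact H
  · intro H
    have h2 : (LinearMap.liftBaseChange B r : B ⊗[A] N → W) = H.equiv := by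
      funext z
      induction z using TensorProduct.induction_on with
      | zero => simp
      | tmul b n => simp [IsBaseChange.equiv_tmul]
      | add a b ha hb => simp only [map_add, ha, hb]
    show Function.Bijective (bcLift ψ : B ⊗[A] N → W)
    rw [key, h2]
    exact H.equiv.bijective

/-- A coordinate functional computes the coordinates of a tensor with a free module. -/
theorem eq_zero_of_coord {f : A →+* B} {ι : Type w} (ψ : (ι →₀ A) →ₛₗ[f] W) (c : ι → W →ₗ[B] B)
    (hc : ∀ i j a, c i (ψ (Finsupp.single j a)) = Finsupp.single j (f a) i)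
    {z : Tens f (ι →₀ A)} (hz : bcLift ψ z = 0) : z = 0 := by
  classical
  let := f.toAlgebra
  let e := TensorProduct.finsuppScalarRight A B B ι
  refine e.injective ?_
  rw [map_zero]
  ext i
  have key : ∀ w : B ⊗[A] (ι →₀ A), e w i = c i (bcLift ψ w) := by
    intro w
    induction w using TensorProduct.induction_on with
    | zero => simp
    | tmul b p =>
      rw [TensorProduct.finsuppScalarRight_apply_tmul_apply, bcLift_tmul, map_smul]
      induction p using Finsupp.induction_linear with
      | zero => simp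
      | add p q hp hq => simp only [Finsupp.add_apply, add_smul, map_add, smul_add, hp, hq]
      | single j a =>
        rw [hc, Finsupp.single_apply, Finsupp.single_apply]
        by_cases hji : j = i
        · simp [hji, Algebra.smul_def, RingHom.algebraMap_toAlgebra, mul_comm]
        · simp [hji]
    | add a b ha hb => simp only [map_add, Finsupp.add_apply, ha, hb]
  rw [key z, hz, map_zero]; rfl

variable (f) {N' N'' : Type w} [AddCommGroup N'] [Module A N'] [AddCommGroup N''] [Module A N'']

/-- The map on base changes induced by a linear map. -/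
noncomputable def mapN (T : N →ₗ[A] N') : Tens f N →+ Tens f N' :=
  letI := f.toAlgebra
  (LinearMap.lTensor B T).toAddMonoidHom

theorem mapN_surjective {T : N →ₗ[A] N'} (hT : Function.Surjective T) : Function.Surjective (mapN f T) :=
  letI := f.toAlgebra
  LinearMap.lTensor_surjective B hT

theorem mapN_mapN_eq_zero {T : N →ₗ[A] N'} {T' : N' →ₗ[A] N''} (hT : T' ∘ₗ T = 0) (z : Tens f N) :
    mapN f T' (mapN f T z) = 0 := by
  let := f.toAlgebra
  show LinearMap.lTensor B T' (LinearMap.lTensor B T z) = 0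
  rw [← LinearMap.comp_apply, ← LinearMap.lTensor_comp, hT, LinearMap.lTensor_zero, LinearMap.zero_apply]

theorem mapTens_mapN (T : N →ₗ[A] N') (h : B →+* C) (f' : A →+* C) (hh : ∀ a, h (f a) = f' a)
    (z : Tens f N) : mapTens f h N' f' hh (mapN f T z) = mapN f' T (mapTens f h N f' hh z) := by
  let := f.toAlgebra
  let := f'.toAlgebra
  induction z using TensorProduct.induction_on with
  | zero => simp only [map_zero]
  | tmul b n => rfl
  | add a b ha hb => erw [map_add, map_add, map_add, map_add, ha, hb]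

variable {f}

theorem bcLift_mapN {W' : Type v} [AddCommGroup W'] [Module B W'] (ψ : N →ₛₗ[f] W) (ψ' : N' →ₛₗ[f] W')
    (T : N →ₗ[A] N') (ρ : W →ₗ[B] W') (hψ : ∀ n, ψ' (T n) = ρ (ψ n)) (z : Tens f N) :
    bcLift ψ' (mapN f T z) = ρ (bcLift ψ z) := by
  let := f.toAlgebra
  induction z using TensorProduct.induction_on with
  | zero => simp only [map_zero]
  | tmul b n =>
    rw [bcLift_tmul, map_smul, ← hψ]
    exact bcLift_tmul ψ' b (T n)
  | add a b ha hb => erw [map_add, map_add, map_add, map_add, ha, hb]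

end semilinear

section semilinearBC

variable {A A' : Type u} [CommRing A] [CommRing A'] {f : A →+* A'}

/-- A finite product of base changes is a base change. -/
theorem isBC_pi {ι : Type v} [Finite ι] {N W : ι → Type w} [∀ k, AddCommGroup (N k)] [∀ k, Module A (N k)]
    [∀ k, AddCommGroup (W k)] [∀ k, Module A' (W k)] (ψ : ∀ k, N k →ₛₗ[f] W k) (h : ∀ k, IsBC (ψ k))
    (Ψ : (∀ k, N k) →ₛₗ[f] (∀ k, W k)) (hΨ : ∀ x k, Ψ x k = ψ k (x k)) : IsBC Ψ := by
  let := f.toAlgebra
  let : ∀ k, Module A (W k) := fun k => Module.compHom (W k) f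
  have : ∀ k, IsScalarTower A A' (W k) := fun k => IsScalarTower.of_algebraMap_smul fun _ _ => rfl
  let r : ∀ k, N k →ₗ[A] W k := fun k =>
    { toFun := ψ k, map_add' := map_add _, map_smul' := (ψ k).map_smulₛₗ }
  have hr : ∀ k, IsBaseChange A' (r k) := fun k => (isBC_iff (ψ k) rfl (r k) fun _ => rfl).1 (h k)
  exact (isBC_iff Ψ rfl (LinearMap.pi fun k => r k ∘ₗ LinearMap.proj k)
    fun x => funext fun k => (hΨ x k).symm).2 (IsBaseChange.pi _ hr)

/-- Base change of an equalizer along a flat map, for semilinear maps. -/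
theorem isBC_of_equalizer (hf : f.Flat) {M Q Q₂ M' Q' Q₂' : Type w} [AddCommGroup M] [Module A M]
    [AddCommGroup Q] [Module A Q] [AddCommGroup Q₂] [Module A Q₂] [AddCommGroup M'] [Module A' M']
    [AddCommGroup Q'] [Module A' Q'] [AddCommGroup Q₂'] [Module A' Q₂']
    (r : M →ₛₗ[f] M') (q : Q →ₛₗ[f] Q') (q₂ : Q₂ →ₛₗ[f] Q₂')
    (j : M →ₗ[A] Q) (d₁ d₂ : Q →ₗ[A] Q₂) (j' : M' →ₗ[A'] Q') (d₁' d₂' : Q' →ₗ[A'] Q₂')
    (hj : Function.Injective j) (hjd : ∀ m, d₁ (j m) = d₂ (j m))
    (hex : ∀ y, d₁ y = d₂ y → ∃ m, j m = y)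
    (hj' : Function.Injective j') (hjd' : ∀ m, d₁' (j' m) = d₂' (j' m))
    (cj : ∀ m, j' (r m) = q (j m)) (cd₁ : ∀ y, d₁' (q y) = q₂ (d₁ y)) (cd₂ : ∀ y, d₂' (q y) = q₂ (d₂ y))
    (hq : IsBC q) (hq₂ : IsBC q₂) : IsBC r := by
  let := f.toAlgebra
  have : Module.Flat A A' := hf
  let := Module.compHom M' f
  let := Module.compHom Q' f
  let := Module.compHom Q₂' f
  have : IsScalarTower A A' M' := IsScalarTower.of_algebraMap_smul fun _ _ => rfl
  have : IsScalarTower A A' Q' := IsScalarTower.of_algebraMap_smul fun _ _ => rfl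
  have : IsScalarTower A A' Q₂' := IsScalarTower.of_algebraMap_smul fun _ _ => rfl
  let r₀ : M →ₗ[A] M' := { toFun := r, map_add' := map_add _, map_smul' := r.map_smulₛₗ }
  let q₀ : Q →ₗ[A] Q' := { toFun := q, map_add' := map_add _, map_smul' := q.map_smulₛₗ }
  let q₂₀ : Q₂ →ₗ[A] Q₂' := { toFun := q₂, map_add' := map_add _, map_smul' := q₂.map_smulₛₗ }
  exact (isBC_iff r rfl r₀ fun _ => rfl).2 (isBaseChange_of_equalizer (r := r₀) (q := q₀) (q₂ := q₂₀)
    j d₁ d₂ j' d₁' d₂' hj hjd hex hj' hjd' cj cd₁ cd₂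
    ((isBC_iff q rfl q₀ fun _ => rfl).1 hq) ((isBC_iff q₂ rfl q₂₀ fun _ => rfl).1 hq₂))

/-- In a pushout square of rings base change along one side is base change along the opposite side. -/
theorem isBC_of_isPushout {B B' : Type u} [CommRing B] [CommRing B'] (iB : A →+* B) (g : B →+* B')
    (jA : A' →+* B')
    (hpo : CategoryTheory.IsPushout (CommRingCat.ofHom f) (CommRingCat.ofHom iB)
      (CommRingCat.ofHom jA) (CommRingCat.ofHom g))
    {N W : Type w} [AddCommGroup N] [Module A N] [Module B N] [AddCommGroup W] [Module A' W] [Module B' W]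
    (hN : ∀ (a : A) (n : N), a • n = iB a • n) (hW : ∀ (a : A') (x : W), a • x = jA a • x)
    (ψ : N →ₛₗ[g] W) (ψ' : N →ₛₗ[f] W) (hψ : ∀ n, ψ' n = ψ n) (h : IsBC ψ) : IsBC ψ' := by
  letI := f.toAlgebra
  letI := iB.toAlgebra
  letI := g.toAlgebra
  letI := jA.toAlgebra
  letI : Algebra A B' := (g.comp iB).toAlgebra
  letI : Module B W := Module.compHom W g
  letI : Module A W := Module.compHom W f
  have e : g.comp iB = jA.comp f := RingHom.ext fun a =>
    (CategoryTheory.ConcreteCategory.congr_hom hpo.w a).symm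
  haveI : IsScalarTower A B B' := IsScalarTower.of_algebraMap_eq' rfl
  haveI : IsScalarTower A A' B' := IsScalarTower.of_algebraMap_eq' e
  haveI : IsScalarTower A B N := IsScalarTower.of_algebraMap_smul fun a n => (hN a n).symm
  haveI : IsScalarTower B B' W := IsScalarTower.of_algebraMap_smul fun _ _ => rfl
  haveI : IsScalarTower A' B' W := IsScalarTower.of_algebraMap_smul fun a x => (hW a x).symm
  haveI : IsScalarTower A A' W := IsScalarTower.of_algebraMap_smul fun _ _ => rfl
  haveI : IsScalarTower A B W := IsScalarTower.of_algebraMap_smul fun a x => by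
    show g (iB a) • x = f a • x
    rw [hW]
    exact congrArg (· • x) (RingHom.congr_fun e a)
  haveI : Algebra.IsPushout A A' B B' := CommRingCat.isPushout_iff_isPushout.1 hpo
  let r : N →ₗ[B] W := { toFun := ψ, map_add' := map_add _, map_smul' := ψ.map_smulₛₗ }
  exact (isBC_iff ψ' rfl (r.restrictScalars A) fun n => (hψ n).symm).2
    (isBaseChange_of_isPushout ((isBC_iff ψ rfl r fun _ => rfl).1 h))

end semilinearBC

end Groth.ModEtQCoh

namespace Groth.ModEtQCoh

/-- A tensor `1 ⊗ x` along a flat map is non-zero when a prime upstairs lies over the annihilator of `x`. -/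
theorem one_tmul_ne_zero_of_ann_le {A B : Type u} [CommRing A] [CommRing B] [Algebra A B] [Module.Flat A B]
    {P : Type w} [AddCommGroup P] [Module A P] {x : P} (q : Ideal B) [q.IsPrime]
    (h : ∀ a : A, a • x = 0 → algebraMap A B a ∈ q) : (1 : B) ⊗ₜ[A] x ≠ 0 := by
  intro hx
  let g : A →ₗ[A] P := LinearMap.toSpanSingleton A P x
  let I : Ideal A := LinearMap.ker g
  let gbar : (A ⧸ I) →ₗ[A] P := Submodule.liftQ I g le_rfl
  have hgbar : Function.Injective gbar :=
    LinearMap.ker_eq_bot.1 (Submodule.ker_liftQ_eq_bot _ _ _ le_rfl)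
  have hz : (1 : B) ⊗ₜ[A] (1 : A ⧸ I) = 0 := by
    refine Module.Flat.lTensor_preserves_injective_linearMap (M := B) gbar hgbar ?_
    rw [LinearMap.lTensor_tmul, map_zero]
    have : gbar 1 = x := (Submodule.liftQ_apply I g (1 : A)).trans (one_smul A _)
    rw [this, hx]
  have hIq : I ≤ q.comap (algebraMap A B) := fun a ha => h a (by simpa [I, g] using ha)
  let f : B ⊗[A] (A ⧸ I) →ₐ[A] B ⧸ q :=
    Algebra.TensorProduct.lift (Ideal.Quotient.mkₐ A q)
      (Ideal.quotientMapₐ q (Algebra.ofId A B) hIq) fun _ _ => Commute.all _ _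
  have h1 : (1 : B ⧸ q) = 0 := by rw [← map_one f, Algebra.TensorProduct.one_def, hz, map_zero]
  exact (Ideal.IsPrime.ne_top inferInstance) (Ideal.Quotient.zero_eq_one_iff.mp h1.symm)

end Groth.ModEtQCoh
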