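import Groth.Agent.ModEtQCoh.StalkOpen
import Groth.Agent.ModEtQCoh.ClosedPush
import Groth.Agent.AlgSpBasic.Compact

/-!
# Coherent modules supported in a closed subspace are killed by a power of its ideal
-/

set_option autoImplicit false
set_option backward.isDefEq.respectTransparency.types false
set_option linter.style.haveILetI false
universe u

open CategoryTheory CategoryTheory.Limits AlgebraicGeometry Opposite AlgSp TopologicalSpace TensorProduct
open Groth.AlgSpEt (ctr)
open Groth.ModEtQCoh.StalkOpen (zeroLocus mem_zeroLocus resM_eq_zero_iff)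

namespace Groth.ModEtQCoh.SuppPow

/-- An element killed in a flat algebra is killed outside every prime with a prime over it. -/
theorem exists_notMem_smul_eq_zero {A B : Type u} [CommRing A] [CommRing B] [Algebra A B] [Module.Flat A B]
    {P : Type (u + 1)} [AddCommGroup P] [Module A P] (q : Ideal B) [q.IsPrime] {x : P}
    (hx : (1 : B) ⊗ₜ[A] x = 0) : ∃ a, a ∉ q.comap (algebraMap A B) ∧ a • x = 0 := by
  by_contra hne
  push Not at hne
  let g : A →ₗ[A] P := LinearMap.toSpanSingleton A P x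
  let I : Ideal A := LinearMap.ker g
  have hIq : I ≤ q.comap (algebraMap A B) := fun a ha => by
    by_contra h
    exact hne a h ha
  let gbar : (A ⧸ I) →ₗ[A] P := Submodule.liftQ I g le_rfl
  have hgbar : Function.Injective gbar :=
    LinearMap.ker_eq_bot.1 (Submodule.ker_liftQ_eq_bot _ _ _ le_rfl)
  have hz : (1 : B) ⊗ₜ[A] (1 : A ⧸ I) = 0 := by
    refine Module.Flat.lTensor_preserves_injective_linearMap (M := B) gbar hgbar ?_
    rw [LinearMap.lTensor_tmul, map_zero]
    have : gbar 1 = x := (Submodule.liftQ_apply I g (1 : A)).trans (one_smul A _)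
    rw [this, hx]
  let f : B ⊗[A] (A ⧸ I) →ₐ[A] B ⧸ q :=
    Algebra.TensorProduct.lift (Ideal.Quotient.mkₐ A q)
      (Ideal.quotientMapₐ q (Algebra.ofId A B) hIq) fun _ _ => Commute.all _ _
  have h1 : (1 : B ⧸ q) = 0 := by
    rw [← map_one f, Algebra.TensorProduct.one_def, hz, map_zero]
  exact (inferInstance : q.IsPrime).ne_top (Ideal.Quotient.zero_eq_one_iff.mp h1.symm)

theorem eq_zero_of_isUnit_smul {R : Type u} {N : Type (u + 1)} {_ : CommRing R} {_ : AddCommGroup N} {_ : Module R N}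
    {r : R} (hr : IsUnit r) {x : N} (h : r • x = 0) : x = 0 :=
  hr.smul_eq_zero.1 h

/-- On an affine scheme, a function is invertible at a point iff it is outside its prime. -/
theorem mem_basicOpen_iff_notMem (U : Scheme.{u}) [IsAffine U] (u : U) (a : Γ(U, ⊤)) :
    u ∈ U.basicOpen a ↔ a ∉ (U.isoSpec.hom u).asIdeal := by
  rw [← Scheme.toSpecΓ_preimage_basicOpen]
  rfl

/-- Outside the image of a morphism some power of a function killed by pullback is nonzero. -/
theorem exists_ker_mem_basicOpen {U Z : Scheme.{u}} [IsAffine U] [CompactSpace Z] (f : Z ⟶ U) [IsClosedImmersion f]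
    {u : U} (h : u ∉ Set.range f) : ∃ a, f.appTop.hom a = 0 ∧ u ∈ U.basicOpen a := by
  obtain ⟨_, ⟨_, ⟨a, rfl⟩, rfl⟩, hu, hsub⟩ := (isBasis_basicOpen U).exists_subset_of_mem_open (a := u)
    (show u ∈ (Set.range f)ᶜ from h) f.isClosedEmbedding.isClosed_range.isOpen_compl
  have h0 : Z.basicOpen (f.appTop.hom a) = ⊥ := by
    refine le_bot_iff.1 fun z hz => ?_
    rw [← Scheme.preimage_basicOpen_top] at hz
    exact hsub hz ⟨z, rfl⟩
  obtain ⟨n, hn⟩ : IsNilpotent (f.appTop.hom a) := (Scheme.isNilpotent_iff_basicOpen_eq_bot _).2 h0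
  rcases Nat.eq_zero_or_pos n with rfl | hpos
  · refine ⟨a, ?_, hu⟩
    rw [pow_zero] at hn
    rw [← one_mul (f.appTop.hom a), hn, zero_mul]
  · refine ⟨a ^ n, by rw [map_pow]; exact hn, ?_⟩
    refine (mem_basicOpen_iff_notMem U u _).2 fun hmem => (mem_basicOpen_iff_notMem U u a).1 hu ?_
    exact ((inferInstance : (U.isoSpec.hom u).asIdeal.IsPrime).mem_of_pow_mem n hmem)

variable {S : Scheme.{u}} {X Z : Space S} {i : Z.obj ⟶ X.obj} (hcl : RepWith @IsClosedImmersion i)

/-- A point of a chart is in the closed subspace iff it is in its base change. -/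
theorem mem_range_iff (E : EtOver X.obj) (u : E.obj.left.left) :
    Points.ofPt E.obj.hom u ∈ Set.range (Points.map i) ↔ u ∈ Set.range (EtOver.bcπ hcl.1 E).left := by
  constructor
  · rintro ⟨z, hz⟩
    obtain ⟨v, -, hv⟩ := (Groth.AlgSpBasic.map_eq_ofPt_iff (EtOver.isPullback_bcObj hcl.1 E) z u).1 hz
    exact ⟨v, hv⟩
  · rintro ⟨v, rfl⟩
    exact ⟨Points.ofPt (EtOver.bcObj hcl.1 E).obj.hom v,
      (Groth.AlgSpBasic.map_eq_ofPt_iff (EtOver.isPullback_bcObj hcl.1 E) _ _).2 ⟨v, rfl, rfl⟩⟩

variable (M : ModEt X.obj) [M.IsFinitePresentation]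

include hcl in
/-- If stalks vanish outside `Z`, sections over affine charts are killed by powers of the ideal. -/
theorem exists_pow_le_annSect (hN : IsLocNoethSp X.obj)
    (hz : ∀ x : FieldPt X.obj, x.IsGeometric → Points.mk x ∉ Set.range (Points.map i) →
      IsZero (stalkEt x ((toAbEt X.obj).obj M)))
    (E : EtOver X.obj) [IsAffine E.obj.left.left] :
    ∃ n : ℕ, ∀ s : sectModEt M E, ∀ a ∈ RingHom.ker (EtOver.bcπ hcl.1 E).left.appTop.hom ^ n, a • s = 0 := by
  haveI := isNoetherianRing_fnA X.property hN E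
  let I : Ideal (fnA E) := RingHom.ker (EtOver.bcπ hcl.1 E).left.appTop.hom
  have key : ∀ (s : sectModEt M E) (q : Ideal (fnA E)) [q.IsPrime], ¬ I ≤ q → ∃ a, a ∉ q ∧ a • s = 0 := by
    intro s q _ hq
    obtain ⟨a, haI, haq⟩ := SetLike.not_le_iff_exists.1 hq
    let u := E.obj.left.left.isoSpec.inv ⟨q, inferInstance⟩
    have hqu : (E.obj.left.left.isoSpec.hom u).asIdeal = q := by
      show (E.obj.left.left.isoSpec.hom (E.obj.left.left.isoSpec.inv ⟨q, inferInstance⟩)).asIdeal = q
      rw [← Scheme.Hom.comp_apply, Iso.inv_hom_id]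
      rfl
    have hu : u ∉ Set.range (EtOver.bcπ hcl.1 E).left := by
      rintro ⟨v, hv⟩
      have h1 : u ∈ E.obj.left.left.basicOpen a := (mem_basicOpen_iff_notMem _ u a).2 (by rw [hqu]; exact haq)
      have h2 : v ∈ (EtOver.bcπ hcl.1 E).left ⁻¹ᵁ E.obj.left.left.basicOpen a := by
        show (EtOver.bcπ hcl.1 E).left v ∈ E.obj.left.left.basicOpen a
        rw [hv]; exact h1
      rw [Scheme.preimage_basicOpen_top,
        show (EtOver.bcπ hcl.1 E).left.appTop a = 0 from haI, Scheme.basicOpen_zero] at h2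
      exact h2
    obtain ⟨p, w, hp, hw⟩ := Groth.AlgSpEt.exists_geometric_lift E u
    have hx : Points.mk p ∉ Set.range (Points.map i) := fun h => hu ((mem_range_iff hcl E u).1 (by
      rw [← hw, Groth.AlgSpEt.ofPt_lift w]; exact h))
    have h0 : u ∈ zeroLocus M s := by
      rw [← hw]
      refine (StalkOpen.germ_eq_zero_iff hp ⟨E, w⟩ s).1 ?_
      haveI := AddCommGrpCat.subsingleton_of_isZero (hz p hp hx)
      exact Subsingleton.elim _ _
    obtain ⟨V, g, hg, v, hv⟩ := mem_zeroLocus.1 h0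
    obtain ⟨T, k, t, hT, hk⟩ := exists_affine_chart_of_ofPt V v
    let := (resA (k ≫ g)).toAlgebra
    haveI : Module.Flat (fnA E) (fnA T) := flat_resA (k ≫ g)
    let q' : Ideal (fnA T) := (T.obj.left.left.isoSpec.hom t).asIdeal
    have hq' : q'.comap (resA (k ≫ g)) = q := by
      let f := (k ≫ g).hom.left.left
      have h1 : E.obj.left.left.isoSpec.hom (f t) = Spec.map f.appTop (T.obj.left.left.isoSpec.hom t) := by
        rw [← Scheme.Hom.comp_apply, ← Scheme.Hom.comp_apply, Scheme.isoSpec_hom_naturality]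
      have h2 : f t = u := by
        show g.hom.left.left (k.hom.left.left t) = u
        rw [hk, hv]
      rw [h2] at h1
      rw [← hqu]
      exact (congrArg PrimeSpectrum.asIdeal h1).symm
    obtain ⟨b, hb, hbs⟩ := exists_notMem_smul_eq_zero (B := fnA T) q' (x := s) (by
      refine (isBC_resM M (k ≫ g)).1 ?_
      rw [map_zero]
      refine (bcLift_tmul _ 1 s).trans ?_
      rw [one_smul, resM_comp, hg, map_zero])
    exact ⟨b, fun h => hb (show b ∈ q'.comap (resA (k ≫ g)) by rw [hq']; exact h), hbs⟩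
  have hpow : ∀ s : sectModEt M E, ∃ n : ℕ, ∀ a ∈ I ^ n, a • s = 0 := by
    intro s
    let J : Ideal (fnA E) := LinearMap.ker (LinearMap.toSpanSingleton (fnA E) (sectModEt M E) s)
    have hrad : I ≤ J.radical := by
      rw [Ideal.radical_eq_sInf]
      refine le_sInf fun q hq => ?_
      haveI := hq.2
      by_contra hle
      obtain ⟨a, haq, has⟩ := key s q hle
      exact haq (hq.1 has)
    obtain ⟨n, hn⟩ := Ideal.exists_pow_le_of_le_radical_of_fg hrad (IsNoetherian.noetherian I)
    exact ⟨n, fun a ha => hn ha⟩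
  haveI := finite_sectModEt M E
  obtain ⟨t, ht⟩ := (inferInstance : Module.Finite (fnA E) (sectModEt M E)).fg_top
  choose n hn using hpow
  refine ⟨t.sup n, fun s a ha => ?_⟩
  have hs : s ∈ Submodule.span (fnA E) (t : Set (sectModEt M E)) := by rw [ht]; trivial
  induction hs using Submodule.span_induction with
  | mem g hg => exact hn g a (Ideal.pow_le_pow_right (Finset.le_sup hg) ha)
  | zero => exact smul_zero _
  | add x y _ _ hx hy => rw [smul_add, hx, hy, add_zero]
  | smul c x _ hx => rw [smul_comm, hx, smul_zero]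

include hcl in
/-- If stalks vanish outside `Z`, one power of the ideal kills the module. -/
theorem exists_pow_annihilates (hqc : IsQuasiCompactSp X.obj) (hN : IsLocNoethSp X.obj)
    (hI : (idealOfRep hcl.1).IsQCoh)
    (hz : ∀ x : FieldPt X.obj, x.IsGeometric → Points.mk x ∉ Set.range (Points.map i) →
      IsZero (stalkEt x ((toAbEt X.obj).obj M))) :
    ∃ n : ℕ, ∀ (E : EtOver X.obj) (hE : IsAffine E.obj.left.left) (s : sectModEt M E),
      (idealOfRep hcl.1 ^ n).ideal E hE ≤ annSect s := by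
  obtain ⟨V, q, hV, hqe, hqs⟩ := Groth.AlgSpBasic.exists_affine_chart X.property hqc
  obtain ⟨E₀, hE₀, hsurj⟩ : ∃ E₀ : EtOver X.obj, IsAffine E₀.obj.left.left ∧
      Function.Surjective (Points.ofPt E₀.obj.hom) :=
    ⟨EtOver.mk q hqe, hV, Groth.AlgSpBasic.surjective_ofPt_of_repWith hqs⟩
  obtain ⟨n, hn⟩ := exists_pow_le_annSect hcl M hN hz E₀
  refine ⟨n, fun E hE s a ha => ?_⟩
  rw [mem_annSect_iff]
  show a • s = 0
  choose e he using fun u => hsurj (Points.ofPt E.obj.hom u)
  choose T k₁ k₂ w hT hk₁ hk₂ using fun u => exists_common_chart E E₀ u (e u) (he u).symm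
  refine resM_ext M (g := k₁) (fun u => ⟨u, w u, hk₁ u⟩) fun u => ?_
  haveI := hT u
  rw [map_smulₛₗ, map_zero]
  have h1 : resA (k₁ u) a ∈ ((idealOfRep hcl.1).ideal E₀ hE₀ ^ n).map (resA (k₂ u)) := by
    rw [Ideal.map_pow]
    refine Ideal.pow_right_mono (hI (k₂ u) hE₀ (hT u)) n ?_
    have := Ideal.mem_map_of_mem (resA (k₁ u)) ha
    rw [IdealEt.pow_ideal, Ideal.map_pow] at this
    exact Ideal.pow_right_mono ((idealOfRep hcl.1).map_le (k₁ u) hE (hT u)) n this
  generalize resA (k₁ u) a = b at h1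
  generalize resM M (k₁ u) s = y
  obtain ⟨z, rfl⟩ := (isBC_resM M (k₂ u)).2 y
  let := (resA (k₂ u)).toAlgebra
  induction z using TensorProduct.induction_on with
  | zero => rw [map_zero, smul_zero]
  | add x y hx hy => rw [map_add, smul_add, hx, hy, add_zero]
  | tmul c m =>
    rw [bcLift_tmul (resM M (k₂ u)) c m, smul_comm]
    suffices h : b • resM M (k₂ u) m = 0 by rw [h, smul_zero]
    induction h1 using Submodule.span_induction with
    | mem x hx =>
      obtain ⟨a', ha', rfl⟩ := hx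
      rw [← map_smulₛₗ, hn m a' ha', map_zero]
    | zero => exact zero_smul _ _
    | add x y _ _ hx hy => rw [add_smul, hx, hy, add_zero]
    | smul d x _ hx => rw [smul_eq_mul, mul_smul, hx, smul_zero]

include hcl in
omit [M.IsFinitePresentation] in
/-- A module killed by a power of the ideal has vanishing stalks outside `Z`. -/
theorem isZero_stalk_of_pow (n : ℕ)
    (hn : ∀ (E : EtOver X.obj) (hE : IsAffine E.obj.left.left) (s : sectModEt M E),
      (idealOfRep hcl.1 ^ n).ideal E hE ≤ annSect s)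
    (x : FieldPt X.obj) (hx : x.IsGeometric) (hZ : Points.mk x ∉ Set.range (Points.map i)) :
    IsZero (stalkEt x ((toAbEt X.obj).obj M)) := by
  by_contra h
  obtain ⟨U, σ, u, hu, hnot⟩ := (Groth.AlgSpEt.not_isZero_stalkEt_iff X _ hx).1 h
  obtain ⟨T, k, t, hT, hk⟩ := exists_affine_chart_of_ofPt U u
  have ht : t ∉ Set.range (EtOver.bcπ hcl.1 T).left := fun h' => hZ (by
    rw [← hu, ← hk, ← Groth.AlgSpBasic.ofPt_comp_yon, EtOver.w k]
    exact (mem_range_iff hcl T t).2 h')
  haveI := Groth.ModEtQCoh.ClosedPush.isClosedImmersion_bcπ hcl.1 hcl T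
  haveI : CompactSpace (EtOver.bcObj hcl.1 T).obj.left.left :=
    QuasiCompact.compactSpace_of_compactSpace (EtOver.bcπ hcl.1 T).left
  obtain ⟨a, haI, hat⟩ := exists_ker_mem_basicOpen (EtOver.bcπ hcl.1 T).left ht
  let O := T.obj.left.left.basicOpen a
  let ι : Over.mk (O.ι ≫ T.obj.left.hom) ⟶ T.obj.left := Over.homMk O.ι rfl
  let D : EtOver X.obj := EtOver.mk ((yon S).map ι ≫ T.obj.hom)
    (Groth.AlgSpBasic.repWith_comp ((repWith_yon_map_iff _ ι).2 (inferInstanceAs (Etale O.ι))) T.property)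
  let j : D ⟶ T := EtOver.homMk ι rfl
  have hunit : IsUnit (resA j a) := by
    have h := (T.obj.left.left.toRingedSpace.isUnit_res_basicOpen a).map O.topIso.inv.hom
    show IsUnit (O.ι.appTop a)
    convert h using 1
    show O.ι.appTop a = (T.obj.left.left.presheaf.map _ ≫ O.topIso.inv) a
    refine congrArg (fun φ : Γ(T.obj.left.left, ⊤) ⟶ Γ(↑O, ⊤) => φ a) ?_
    rw [Scheme.Opens.ι_appTop, Scheme.Opens.topIso_inv]
    exact (congrArg T.obj.left.left.presheaf.map (Subsingleton.elim _ _)).trans (T.obj.left.left.presheaf.map_comp _ _)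
  have hzero : resM M (j ≫ k) (show sectModEt M U from σ) = 0 := by
    rw [resM_comp]
    have h2 : (a ^ n) • resM M k (show sectModEt M U from σ) = 0 :=
      (mem_annSect_iff _ _).1 (hn T hT _ (Ideal.pow_mem_pow haI n))
    have h3 := congrArg (resM M j) h2
    rw [map_smulₛₗ, map_zero, map_pow] at h3
    exact eq_zero_of_isUnit_smul (hunit.pow n) h3
  refine hnot ?_
  have := (resM_eq_zero_iff (show sectModEt M U from σ) (j ≫ k)).1 hzero (⟨t, hat⟩ : O)
  exact hk ▸ this

end Groth.ModEtQCoh.SuppPow
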