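import Groth.Agent.ModEtQCoh.SubFromAffine
import Groth.Agent.ModEtQCoh.SuppPow

/-!
# Sections annihilated by an ideal; sections supported on a closed set
-/

set_option autoImplicit false
set_option backward.isDefEq.respectTransparency.types false
set_option linter.style.haveILetI false
universe u

open CategoryTheory CategoryTheory.Limits AlgebraicGeometry Opposite AlgSp TensorProduct
open Groth.ModEtQCoh.SubFromAffine Groth.ModEtQCoh.SuppPow

namespace Groth.ModEtQCoh.AnnSub

/-- The elements annihilated by an ideal. -/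
def annSub {A : Type u} [CommRing A] (P : Type (u + 1)) [AddCommGroup P] [Module A P] (I : Ideal A) :
    Submodule A P where
  carrier := {s | ∀ a ∈ I, a • s = 0}
  add_mem' := fun hx hy a ha => by rw [smul_add, hx a ha, hy a ha, add_zero]
  zero_mem' := fun a _ => smul_zero a
  smul_mem' := fun c x hx a ha => by rw [smul_comm, hx a ha, smul_zero]

/-- Annihilators of finitely generated ideals commute with flat base change. -/
theorem exists_lTensor_annSub {A B : Type u} [CommRing A] [CommRing B] [Algebra A B] [Module.Flat A B]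
    {P : Type (u + 1)} [AddCommGroup P] [Module A P] {I : Ideal A} (hI : I.FG) (z : B ⊗[A] P)
    (hz : ∀ a ∈ I, algebraMap A B a • z = 0) :
    ∃ w, LinearMap.lTensor B (annSub P I).subtype w = z := by
  classical
  obtain ⟨t, rfl⟩ := hI
  let π : P →ₗ[A] (↥t → P) := LinearMap.pi fun a => LinearMap.lsmul A P (a : A)
  have hex : Function.Exact (annSub P (Ideal.span (t : Set A))).subtype π := by
    intro s
    constructor
    · intro h
      refine ⟨⟨s, fun a ha => ?_⟩, rfl⟩
      induction ha using Submodule.span_induction with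
      | mem x hx => exact congrFun h ⟨x, hx⟩
      | zero => exact zero_smul _ _
      | add x y _ _ hx hy => rw [add_smul, hx, hy, add_zero]
      | smul d x _ hx => rw [smul_eq_mul, mul_smul, hx, smul_zero]
    · rintro ⟨s, rfl⟩
      funext a
      exact s.2 a (Submodule.subset_span a.2)
  have hzero : LinearMap.lTensor B π z = 0 := by
    refine (TensorProduct.piRight A A B fun _ : ↥t => P).injective (funext fun a => ?_)
    rw [map_zero]
    have key : ∀ w, TensorProduct.piRight A A B (fun _ : ↥t => P) (LinearMap.lTensor B π w) a =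
        algebraMap A B (a : A) • w := by
      intro w
      induction w using TensorProduct.induction_on with
      | zero => simp
      | tmul b p =>
        rw [LinearMap.lTensor_tmul, TensorProduct.piRight_apply, TensorProduct.piRightHom_tmul,
          algebraMap_smul]
        exact TensorProduct.tmul_smul _ _ _
      | add x y hx hy => rw [map_add, map_add, Pi.add_apply, hx, hy, smul_add]
    rw [key]
    exact hz a (Submodule.subset_span a.2)
  exact (Module.Flat.lTensor_exact (R := A) B hex z).1 hzero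

variable {S : Scheme.{u}}

/-- Sections killed by an ideal on a smaller object come from killed sections by base change. -/
theorem exists_bc_of_annihilated {X : Sp S} (M : ModEt X) [M.IsQuasicoherent]
    {N : ∀ (E : EtOver X), IsAffine E.obj.left.left → Submodule (fnA E) (sectModEt M E)}
    {E E' : EtOver X} (g : E' ⟶ E) (hE : IsAffine E.obj.left.left) [IsAffine E'.obj.left.left]
    (I : Ideal (fnA E)) (hI : I.FG) (hle : annSub (sectModEt M E) I ≤ N E hE)
    (y : sectModEt M E') (hy : ∀ a ∈ I, resA g a • y = 0) :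
    ∃ z, bcLift (resFam (M := M) (N := N) hE g) z = y := by
  haveI := hE
  let := (resA g).toAlgebra
  have : Module.Flat (fnA E) (fnA E') := flat_resA g
  obtain ⟨z, rfl⟩ := (isBC_resM M g).2 y
  have hlin : ∀ (b : fnA E') (w : fnA E' ⊗[fnA E] sectModEt M E),
      bcLift (resM M g) (b • w) = b • bcLift (resM M g) w := by
    intro b w
    induction w using TensorProduct.induction_on with
    | zero => rw [smul_zero, map_zero, smul_zero]
    | tmul c m =>
      rw [TensorProduct.smul_tmul', bcLift_tmul, bcLift_tmul, smul_eq_mul, mul_smul]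
    | add x y hx hy => rw [smul_add, map_add, map_add, hx, hy, smul_add]
  obtain ⟨w, rfl⟩ := exists_lTensor_annSub hI z fun a ha => (isBC_resM M g).1 (by
    rw [hlin, map_zero]
    exact hy a ha)
  refine ⟨LinearMap.lTensor _ (Submodule.inclusion hle) w, ?_⟩
  have h1 := bcLift_mapN (resFam (M := M) (N := N) hE g) (resM M g) (N E hE).subtype LinearMap.id (fun _ => rfl)
    (mapN (resA g) (Submodule.inclusion hle) w)
  refine Eq.trans h1.symm (congrArg (bcLift (resM M g)) ?_)
  show LinearMap.lTensor _ (N E hE).subtype (LinearMap.lTensor _ (Submodule.inclusion hle) w) = _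
  rw [← LinearMap.comp_apply, ← LinearMap.lTensor_comp]
  rfl

variable {X : Space S}

/-- The quasi-coherent subsheaf of sections annihilated by a quasi-coherent ideal of finite type. -/
theorem exists_annihilated_sub (I : IdealEt X.obj) (hI : I.IsQCoh)
    (hft : ∀ (E : EtOver X.obj) (hE : IsAffine E.obj.left.left), (I.ideal E hE).FG)
    (F : ModEt X.obj) [F.IsQuasicoherent] :
    ∃ (F' : ModEt X.obj) (ι : F' ⟶ F), Mono ι ∧ F'.IsQuasicoherent ∧
      ∀ (E : EtOver X.obj) (hE : IsAffine E.obj.left.left),
        Set.range (ι.val.app (op E)).hom = {s : sectModEt F E | ∀ a ∈ I.ideal E hE, (upΓ E a) • s = 0} := by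
  let N : ∀ (E : EtOver X.obj), IsAffine E.obj.left.left → Submodule (fnA E) (sectModEt F E) := fun E hE =>
    annSub (sectModEt F E) (I.ideal E hE)
  have hN : IsLocalFamily F N := by
    refine ⟨fun {E E'} g hE hE' s hs a ha => ?_, fun E hE n Y g hY hg s hs a ha => ?_⟩
    · have ha' : a ∈ Submodule.span (fnA E') (resA g '' (I.ideal E hE : Set (fnA E))) := hI g hE hE' ha
      clear ha
      induction ha' using Submodule.span_induction with
      | mem x hx =>
        obtain ⟨a', ha', rfl⟩ := hx
        rw [← map_smulₛₗ, hs a' ha', map_zero]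
      | zero => exact zero_smul _ _
      | add x y _ _ hx hy => rw [add_smul, hx, hy, add_zero]
      | smul d x _ hx => rw [smul_eq_mul, mul_smul, hx, smul_zero]
    · refine resM_ext F hg fun i => ?_
      rw [map_smulₛₗ, map_zero]
      exact hs i _ (I.map_le (g i) hE (hY i) (Ideal.mem_map_of_mem _ ha))
  refine ⟨sub hN, subι hN, inferInstance, isQuasicoherent_sub hN fun {E E'} g hE hE' y hy => ?_,
    fun E hE => range_subι hN E hE⟩
  haveI := hE'
  exact exists_bc_of_annihilated F g hE (I.ideal E hE) (hft E hE) le_rfl y fun a ha =>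
    hy _ (I.map_le g hE hE' (Ideal.mem_map_of_mem _ ha))

variable (T : Set (Points X.obj))

/-- The points of a chart over `T`. -/
abbrev overT (W : EtOver X.obj) : Set W.obj.left.left := {w | Points.ofPt W.obj.hom w ∈ T}

/-- The sections with support over `T`. -/
abbrev suppIn (F : ModEt X.obj) (W : EtOver X.obj) (x : sectModEt F W) : Prop :=
  W.obj.left.left.zeroLocus (U := ⊤) ((annSect x : Ideal Γ(W.obj.left.left, ⊤)) : Set Γ(W.obj.left.left, ⊤)) ⊆
    overT T W

theorem mem_zeroLocus_iff_le {W : Scheme.{u}} [IsAffine W] (I : Ideal Γ(W, ⊤)) (w : W) :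
    w ∈ W.zeroLocus (U := ⊤) (I : Set Γ(W, ⊤)) ↔ I ≤ (W.isoSpec.hom w).asIdeal := by
  rw [Scheme.mem_zeroLocus_iff]
  constructor
  · intro h a ha
    by_contra hn
    exact h a ha ((mem_basicOpen_iff_notMem W w a).2 hn)
  · intro h a ha hw
    exact (mem_basicOpen_iff_notMem W w a).1 hw (h ha)

theorem suppIn_iff (F : ModEt X.obj) {W : EtOver X.obj} [IsAffine W.obj.left.left] (I : Ideal (fnA W)) (hI : I.FG)
    (hz : W.obj.left.left.zeroLocus (U := ⊤) (I : Set Γ(W.obj.left.left, ⊤)) = overT T W) (x : sectModEt F W) :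
    suppIn T F W x ↔ ∃ n : ℕ, ∀ a ∈ I ^ n, a • x = 0 := by
  let J : Ideal (fnA W) := annSect x
  have hJ : ∀ a, a ∈ J ↔ a • x = 0 := fun a => mem_annSect_iff x a
  constructor
  · intro h
    have hrad : I ≤ J.radical := by
      rw [Ideal.radical_eq_sInf]
      refine le_sInf fun q hq => ?_
      haveI := hq.2
      let w := W.obj.left.left.isoSpec.inv ⟨q, inferInstance⟩
      have hw : (W.obj.left.left.isoSpec.hom w).asIdeal = q := by
        show (W.obj.left.left.isoSpec.hom (W.obj.left.left.isoSpec.inv ⟨q, inferInstance⟩)).asIdeal = q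
        rw [← Scheme.Hom.comp_apply, Iso.inv_hom_id]
        rfl
      have h1 : w ∈ overT T W := h ((mem_zeroLocus_iff_le J w).2 (hw ▸ hq.1))
      rw [← hz, mem_zeroLocus_iff_le, hw] at h1
      exact h1
    obtain ⟨n, hn⟩ := Ideal.exists_pow_le_of_le_radical_of_fg hrad hI
    exact ⟨n, fun a ha => (hJ a).1 (hn ha)⟩
  · rintro ⟨n, hn⟩ w hw
    rw [← hz, mem_zeroLocus_iff_le]
    have h1 : I ^ n ≤ (W.obj.left.left.isoSpec.hom w).asIdeal := fun a ha =>
      (mem_zeroLocus_iff_le J w).1 hw ((hJ a).2 (hn a ha))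
    exact (inferInstance : (W.obj.left.left.isoSpec.hom w).asIdeal.IsPrime).le_of_pow_le h1

theorem zeroLocus_map {E E' : EtOver X.obj} (g : E' ⟶ E) (I : Ideal (fnA E))
    (hz : E.obj.left.left.zeroLocus (U := ⊤) (I : Set Γ(E.obj.left.left, ⊤)) = overT T E) :
    E'.obj.left.left.zeroLocus (U := ⊤) ((I.map (resA g) : Ideal (fnA E')) : Set Γ(E'.obj.left.left, ⊤)) = overT T E' := by
  rw [Ideal.map, Scheme.zeroLocus_span]
  ext w
  have h1 : w ∈ overT T E' ↔ g.hom.left.left w ∈ overT T E := by
    show Points.ofPt E'.obj.hom w ∈ T ↔ Points.ofPt E.obj.hom (g.hom.left.left w) ∈ T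
    rw [← Groth.AlgSpBasic.ofPt_comp_yon, EtOver.w g]
  rw [h1, ← hz, Scheme.mem_zeroLocus_iff, Scheme.mem_zeroLocus_iff]
  refine ⟨fun h a ha hw => h (resA g a) ⟨a, ha, rfl⟩ ?_, ?_⟩
  · rw [← Scheme.preimage_basicOpen_top]
    exact hw
  · rintro h _ ⟨a, ha, rfl⟩ hw
    refine h a ha ?_
    rw [← Scheme.preimage_basicOpen_top] at hw
    exact hw

/-- The quasi-coherent subsheaf of sections supported on a closed set with quasi-compact complement. -/
theorem exists_supported_sub
    (hT : ∀ (W : EtOver X.obj), IsAffine W.obj.left.left →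
      ∃ I : Ideal Γ(W.obj.left.left, ⊤), I.FG ∧
        W.obj.left.left.zeroLocus (U := ⊤) (I : Set Γ(W.obj.left.left, ⊤)) = overT T W)
    (F : ModEt X.obj) [F.IsQuasicoherent] :
    ∃ (F' : ModEt X.obj) (ι : F' ⟶ F), Mono ι ∧ F'.IsQuasicoherent ∧
      (∀ (W : EtOver X.obj), IsAffine W.obj.left.left →
        Set.range (ι.val.app (op W)).hom = {x : sectModEt F W | suppIn T F W x}) ∧
      ∀ (W : EtOver X.obj), IsAffine W.obj.left.left →
        ∀ I : Ideal Γ(W.obj.left.left, ⊤), I.FG →
          W.obj.left.left.zeroLocus (U := ⊤) (I : Set Γ(W.obj.left.left, ⊤)) = overT T W →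
          Set.range (ι.val.app (op W)).hom =
            {x : sectModEt F W | ∃ n : ℕ, ∀ a ∈ I ^ n, (upΓ W a) • x = 0} := by
  choose I hIfg hIz using hT
  let N : ∀ (E : EtOver X.obj), IsAffine E.obj.left.left → Submodule (fnA E) (sectModEt F E) := fun E hE =>
    ⨆ n : ℕ, annSub (sectModEt F E) (I E hE ^ n)
  have hmem : ∀ (E : EtOver X.obj) (hE : IsAffine E.obj.left.left) (x : sectModEt F E),
      x ∈ N E hE ↔ suppIn T F E x := by
    intro E hE x
    haveI := hE
    rw [suppIn_iff T F (I E hE) (hIfg E hE) (hIz E hE) x]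
    exact Submodule.mem_iSup_of_directed _ (Monotone.directed_le (f := fun n : ℕ => annSub (sectModEt F E) (I E hE ^ n)) fun m n hmn s hs a ha =>
      hs a (Ideal.pow_le_pow_right hmn ha))
  have hres : ∀ {E E' : EtOver X.obj} (g : E' ⟶ E) (hE : IsAffine E.obj.left.left)
      (hE' : IsAffine E'.obj.left.left) (y : sectModEt F E'), y ∈ N E' hE' ↔
        ∃ n : ℕ, ∀ a ∈ I E hE ^ n, resA g a • y = 0 := by
    intro E E' g hE hE' y
    haveI := hE'
    rw [hmem E' hE' y, suppIn_iff T F ((I E hE).map (resA g)) ((hIfg E hE).map _) (zeroLocus_map T g _ (hIz E hE))]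
    refine exists_congr fun n => ?_
    rw [← Ideal.map_pow]
    constructor
    · exact fun h a ha => h _ (Ideal.mem_map_of_mem _ ha)
    · intro h a ha
      induction ha using Submodule.span_induction with
      | mem x hx =>
        obtain ⟨a', ha', rfl⟩ := hx
        exact h a' ha'
      | zero => exact zero_smul _ _
      | add x y _ _ hx hy => rw [add_smul, hx, hy, add_zero]
      | smul d x _ hx => rw [smul_eq_mul, mul_smul, hx, smul_zero]
  have hN : IsLocalFamily F N := by
    refine ⟨fun {E E'} g hE hE' s hs => ?_, fun E hE n Y g hY hg s hs => ?_⟩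
    · haveI := hE
      obtain ⟨m, hm⟩ := (suppIn_iff T F (I E hE) (hIfg E hE) (hIz E hE) s).1 ((hmem E hE s).1 hs)
      exact (hres g hE hE' _).2 ⟨m, fun a ha => by rw [← map_smulₛₗ, hm a ha, map_zero]⟩
    · haveI := hE
      choose m hm using fun i => (hres (g i) hE (hY i) _).1 (hs i)
      refine (hmem E hE s).2 ((suppIn_iff T F (I E hE) (hIfg E hE) (hIz E hE) s).2 ⟨Finset.univ.sup m, fun a ha => ?_⟩)
      refine resM_ext F hg fun i => ?_
      rw [map_smulₛₗ, map_zero]
      exact hm i a (Ideal.pow_le_pow_right (Finset.le_sup (Finset.mem_univ i)) ha)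
  refine ⟨sub hN, subι hN, inferInstance, isQuasicoherent_sub hN fun {E E'} g hE hE' y hy => ?_,
    fun W hW => (range_subι hN W hW).trans (Set.ext fun x => hmem W hW x),
    fun W hW J hJ hJz => (range_subι hN W hW).trans (Set.ext fun x => (hmem W hW x).trans ?_)⟩
  · haveI := hE'
    obtain ⟨n, hn⟩ := (hres g hE hE' y).1 hy
    exact exists_bc_of_annihilated F g hE (I E hE ^ n) ((hIfg E hE).pow) (le_iSup (fun n : ℕ => annSub (sectModEt F E) (I E hE ^ n)) n) y hn
  · haveI := hW
    exact suppIn_iff T F J hJ hJz x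

end Groth.ModEtQCoh.AnnSub
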