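import Groth.Agent.ModEtQCoh.Morphisms
import Mathlib.RingTheory.Ideal.AssociatedPrime.Finiteness

/-!
# Finiteness of associated points of coherent modules on locally Noetherian spaces
-/

set_option autoImplicit false
set_option backward.isDefEq.respectTransparency.types false
universe u

open CategoryTheory CategoryTheory.Limits AlgebraicGeometry Opposite AlgSp

namespace Groth.ModEtQCoh

variable {S : Scheme.{u}} {X : Sp S}

theorem primeAtPt_injective (U : Scheme.{u}) [IsAffine U] : Function.Injective (primeAtPt U) := by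
  intro a b h
  obtain ⟨P, rfl⟩ : ∃ P, (isAffineOpen_top U).fromSpec P = a := by
    show a ∈ Set.range (isAffineOpen_top U).fromSpec
    rw [IsAffineOpen.range_fromSpec]; exact trivial
  obtain ⟨Q, rfl⟩ : ∃ Q, (isAffineOpen_top U).fromSpec Q = b := by
    show b ∈ Set.range (isAffineOpen_top U).fromSpec
    rw [IsAffineOpen.range_fromSpec]; exact trivial
  rw [Groth.AlgSpCartier.primeAtPt_fromSpec, Groth.AlgSpCartier.primeAtPt_fromSpec] at h
  rw [PrimeSpectrum.ext h]

theorem finite_weakAssEt_inter (hX : IsAlgSpace X) (hN : IsLocNoethSp X) (M : ModEt X) [M.IsQuasicoherent]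
    [M.IsFiniteType] (W : Set (Points X)) (hWc : IsCompact W) : (WeakAssEt M ∩ W).Finite := by
  obtain ⟨U, p, hp, hps⟩ := hX.atlas
  let E₀ : EtOver X := EtOver.mk p hp
  choose E k w hE hk using fun u : U.left => exists_affine_chart_of_ofPt E₀ u
  have hcov : W ⊆ ⋃ u, Set.range (Points.ofPt (E u).obj.hom) := by
    intro x _
    obtain ⟨u, rfl⟩ := Groth.AlgSpBasic.surjective_ofPt_of_repWith hps x
    refine Set.mem_iUnion.2 ⟨u, w u, ?_⟩
    rw [← EtOver.w (k u), Groth.AlgSpBasic.ofPt_comp_yon]
    exact congrArg _ (hk u)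
  obtain ⟨t, ht⟩ := hWc.elim_finite_subcover _
    (fun u => (Groth.AlgSpBasic.isOpenMap_ofPt_of_etale (E u).property).isOpen_range) hcov
  have hfin : ∀ u, {v : (E u).obj.left.left | haveI := hE u; IsWeakAssOn M (E u) v}.Finite := by
    intro u
    haveI := hE u
    haveI := isNoetherianRing_fnA hX hN (E u)
    haveI := finite_sectModEt M (E u)
    have : (FlatCA.weakAss (fnA (E u)) (sectModEt M (E u))).Finite := by
      rw [Groth.Calg5.weakAss_eq_associatedPrimes]
      exact associatedPrimes.finite _ _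
    refine (this.preimage (primeAtPt_injective _).injOn).subset fun v hv => ?_
    exact (isWeakAssOn_iff M (E u) v).1 hv
  refine ((t.finite_toSet.biUnion fun u _ => (hfin u).image (Points.ofPt (E u).obj.hom))).subset ?_
  rintro x ⟨hx, hxW⟩
  obtain ⟨u, hu, v, hv⟩ := Set.mem_iUnion₂.1 (ht hxW)
  haveI := hE u
  exact Set.mem_biUnion hu ⟨v, (mem_weakAssEt_iff M x ⟨E u, v, hv⟩).1 hx (E u) v hv, hv⟩

end Groth.ModEtQCoh
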