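import Groth.Agent.ModEtQCoh.ClosedPush
import Groth.Agent.ModEtQCoh.PullExist
import Groth.Agent.ModEtQCoh.PullSections

/-!
# Quasi-coherent modules annihilated by the ideal of a closed subspace
-/

set_option autoImplicit false
set_option backward.isDefEq.respectTransparency.types false
set_option linter.style.haveILetI false
universe u v

open CategoryTheory CategoryTheory.Limits AlgebraicGeometry Opposite AlgSp TensorProduct

namespace Groth.ModEtQCoh.ClosedPush

/-- Base change along a surjection does not change a module killed by the kernel. -/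
theorem bijective_of_isBC_of_surjective {A B : Type u} [CommRing A] [CommRing B] {f : A →+* B}
    {N W : Type v} [AddCommGroup N] [Module A N] [AddCommGroup W] [Module B W] (ψ : N →ₛₗ[f] W)
    (hψ : IsBC ψ) (hf : Function.Surjective f) (hN : ∀ a ∈ RingHom.ker f, ∀ n : N, a • n = 0) :
    Function.Bijective ψ := by
  letI := f.toAlgebra
  let σ := Function.surjInv hf
  have hσ : ∀ b, f (σ b) = b := Function.surjInv_eq hf
  have key : ∀ (a a' : A) (n : N), f a = f a' → a • n = a' • n := fun a a' n h =>
    sub_eq_zero.1 ((sub_smul a a' n).symm.trans (hN _ (by rw [RingHom.mem_ker, map_sub, h, sub_self]) n))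
  let L : B →ₗ[A] N →ₗ[A] N :=
    LinearMap.mk₂ A (fun b n => σ b • n)
      (fun b b' n => by rw [← add_smul]; exact key _ _ n (by rw [map_add, hσ, hσ, hσ]))
      (fun a b n => by rw [← mul_smul]; exact key _ _ n (by rw [map_mul, hσ, hσ]; rfl))
      (fun b n n' => smul_add _ _ _) (fun a b n => smul_comm _ _ _)
  have hsurj : ∀ z : B ⊗[A] N, ∃ n, z = (1 : B) ⊗ₜ[A] n := by
    intro z
    induction z using TensorProduct.induction_on with
    | zero => exact ⟨0, (TensorProduct.tmul_zero N (1 : B)).symm⟩
    | tmul b n =>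
      refine ⟨σ b • n, ?_⟩
      rw [← TensorProduct.smul_tmul, Algebra.smul_def, mul_one]
      exact congrArg (fun c => c ⊗ₜ[A] n) (hσ b).symm
    | add x y hx hy =>
      obtain ⟨n, rfl⟩ := hx
      obtain ⟨m, rfl⟩ := hy
      exact ⟨n + m, (TensorProduct.tmul_add _ _ _).symm⟩
  have h1 : ∀ n, bcLift ψ ((1 : B) ⊗ₜ[A] n) = ψ n := fun n => (bcLift_tmul ψ 1 n).trans (one_smul _ _)
  refine ⟨fun n m h => ?_, fun w => ?_⟩
  · have he : (1 : B) ⊗ₜ[A] n = (1 : B) ⊗ₜ[A] m := hψ.1 ((h1 n).trans (h.trans (h1 m).symm))
    have := congrArg (TensorProduct.lift L) he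
    rw [TensorProduct.lift.tmul, TensorProduct.lift.tmul] at this
    have e : ∀ n, L 1 n = n := fun n => (key _ 1 n (by rw [hσ, map_one])).trans (one_smul A n)
    rwa [e, e] at this
  · obtain ⟨z, hz⟩ := hψ.2 w
    obtain ⟨n, rfl⟩ := hsurj z
    exact ⟨n, (h1 n).symm.trans hz⟩

variable {S : Scheme.{u}}

/-- Morphisms of modules bijective on affine objects are isomorphisms. -/
theorem isIso_of_bijective_affine {X : Sp S} {M N : ModEt X} (p : M ⟶ N)
    (h : ∀ (E : EtOver X) [IsAffine E.obj.left.left], Function.Bijective (appM p E)) : IsIso p := by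
  haveI : Mono p := ⟨fun a b hab => hom_ext_affine' a b fun E _ s =>
    (h E).1 (congrArg (fun m => appM m E s) hab)⟩
  haveI : Epi p := by
    refine epi_of_local p fun E s => ?_
    choose W k w hW hk using exists_affine_chart_of_ofPt E
    refine ⟨E.obj.left.left, W, k, fun x => ⟨x, w x, hk x⟩, fun x => ?_⟩
    haveI := hW x
    exact (h (W x)).2 _
  exact isIso_of_mono_of_epi p

variable {Z X : Sp S} {f : Z ⟶ X} (hf : Representable f) (hcl : RepWith @IsClosedImmersion f)

include hcl in
/-- A quasi-coherent module killed by the ideal of a closed subspace is a direct image from it. -/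
theorem exists_push_iso (hX : IsAlgSpace X) (F : ModEt X) [F.IsQuasicoherent]
    (hF : ∀ (E : EtOver X) (hE : IsAffine E.obj.left.left) (s : sectModEt F E),
      (idealOfRep hf).ideal E hE ≤ annSect s) :
    ∃ G : ModEt Z, G.IsQuasicoherent ∧ Nonempty ((pushModEt hf).obj G ≅ F) := by
  haveI := PullExist.isRightAdjoint_push hf
  refine ⟨(pullModEt hf).obj F, isQuasicoherent_pull hf hX F, ?_⟩
  haveI : IsIso ((pullPushAdjModEt hf).unit.app F) := by
    refine isIso_of_bijective_affine _ fun E hE => ?_
    haveI := isClosedImmersion_bcπ hf hcl E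
    haveI : IsAffine (EtOver.bcObj hf E).obj.left.left := isAffine_of_isAffineHom (EtOver.bcπ hf E).left
    exact bijective_of_isBC_of_surjective (pullUnitM hf F E) (isBC_pullUnit hf F E)
      (IsClosedImmersion.isAffine_surjective_of_isAffine (f := (EtOver.bcπ hf E).left)).2
      fun a ha s => hF E hE s ha
  exact ⟨(asIso ((pullPushAdjModEt hf).unit.app F)).symm⟩

/-- Direct images along a closed immersion are killed by its ideal. -/
theorem ideal_le_annSect (G : ModEt Z) (E : EtOver X) (hE : IsAffine E.obj.left.left)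
    (s : sectModEt ((pushModEt hf).obj G) E) : (idealOfRep hf).ideal E hE ≤ annSect s := by
  intro a ha
  rw [mem_annSect_iff]
  show upΓ (EtOver.bcObj hf E) ((EtOver.bcπ hf E).left.appTop.hom a) • (show sectModEt G (EtOver.bcObj hf E) from s) = 0
  rw [(mem_idealOfRep_iff hf E hE a).1 ha, map_zero]
  exact zero_smul _ _

end Groth.ModEtQCoh.ClosedPush
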