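import Groth.Agent.ModEtQCoh.Presented

/-!
# Quasi-coherent modules on the small etale site: base change between affine objects

`isBC_resM`: for a quasi-coherent `M` and `g : E' ⟶ E` between affine objects,
`Γ(E') ⊗ M(E) ⟶ M(E')` is bijective.
-/

set_option autoImplicit false
set_option backward.isDefEq.respectTransparency.types false
universe u

open CategoryTheory CategoryTheory.Limits AlgebraicGeometry Opposite AlgSp TensorProduct

namespace Groth.ModEtQCoh

variable {S : Scheme.{u}} {X : Sp S}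

theorem isBC_resO_of_presentation {Y : EtOver X} {K : ModOver Y} (p : K.Presentation) {U V : Over Y}
    [IsAffine U.left.obj.left.left] [IsAffine V.left.obj.left.left] (g : V ⟶ U) : IsBC (resO K g) := by
  obtain ⟨N, _, _, φ, hφ⟩ := exists_isBC_of_presentation p U
  have key : ∀ z, bcLift (resO K g) (mapN (resA g.left) φ z) = bcLift (slO K φ g) z := fun z =>
    bcLift_mapN (slO K φ g) (resO K g) φ LinearMap.id (fun _ => rfl) z
  have hs := mapN_surjective (resA g.left) (surjective_of_isBC_id φ (hφ U (𝟙 U)))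
  refine ⟨fun z z' hzz => ?_, fun s => ?_⟩
  · obtain ⟨w, rfl⟩ := hs z
    obtain ⟨w', rfl⟩ := hs z'
    rw [key, key] at hzz
    rw [(hφ V g).1 hzz]
  · obtain ⟨w, hw⟩ := (hφ V g).2 s
    exact ⟨_, (key w).trans hw⟩

variable (M : ModEt X)

theorem isBC_resM_of_over {Y : EtOver X} (p : (M.over Y).Presentation) {E E' : EtOver X}
    [IsAffine E.obj.left.left] [IsAffine E'.obj.left.left] (g : E' ⟶ E) (b : E ⟶ Y) : IsBC (resM M g) :=
  haveI : IsAffine (Over.mk b).left.obj.left.left := ‹IsAffine E.obj.left.left›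
  haveI : IsAffine (Over.mk (g ≫ b)).left.obj.left.left := ‹IsAffine E'.obj.left.left›
  isBC_resO_of_presentation (K := M.over Y) p (Over.homMk g rfl : Over.mk (g ≫ b) ⟶ Over.mk b)

/-- Sections over `Z` seen over the base `E` of `p : Z ⟶ E`. -/
def SecVia {E Z : EtOver X} (_p : Z ⟶ E) : Type (u + 1) := sectModEt M Z

noncomputable instance {E Z : EtOver X} (p : Z ⟶ E) : AddCommGroup (SecVia M p) :=
  inferInstanceAs (AddCommGroup (sectModEt M Z))

noncomputable instance {E Z : EtOver X} (p : Z ⟶ E) : Module (fnA Z) (SecVia M p) :=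
  inferInstanceAs (Module (fnA Z) (sectModEt M Z))

noncomputable instance instModuleSecVia {E Z : EtOver X} (p : Z ⟶ E) : Module (fnA E) (SecVia M p) :=
  Module.compHom (SecVia M p) (resA p)

/-- Restriction between sections over objects over `E`. -/
noncomputable def resVia {E Z Z' : EtOver X} (p : Z ⟶ E) (p' : Z' ⟶ E) (k : Z' ⟶ Z) (hk : k ≫ p = p') :
    SecVia M p →ₗ[fnA E] SecVia M p' where
  toFun s := resM M k s
  map_add' := map_add (resM M k)
  map_smul' a s := by
    subst hk
    exact (resM M k).map_smulₛₗ (resA p a) s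

/-- Restriction from sections over the base. -/
noncomputable def jVia {E Z : EtOver X} (p : Z ⟶ E) : sectModEt M E →ₗ[fnA E] SecVia M p where
  toFun s := resM M p s
  map_add' := map_add (resM M p)
  map_smul' a s := (resM M p).map_smulₛₗ a s

/-- Restriction between sections over objects over two bases. -/
noncomputable def qVia {E E' Z Z' : EtOver X} (g : E' ⟶ E) (p : Z ⟶ E) (p' : Z' ⟶ E') (k : Z' ⟶ Z)
    (hk : k ≫ p = p' ≫ g) : SecVia M p →ₛₗ[resA g] SecVia M p' where
  toFun s := resM M k s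
  map_add' := map_add (resM M k)
  map_smul' a s := by
    refine ((resM M k).map_smulₛₗ (resA p a) s).trans ?_
    show resA (k ≫ p) a • resM M k s = resA (p' ≫ g) a • resM M k s
    rw [hk]

theorem isBC_qVia {Y : EtOver X} (q : (M.over Y).Presentation) {E E' Z : EtOver X} [IsAffine E.obj.left.left]
    [IsAffine E'.obj.left.left] [IsAffine Z.obj.left.left] (g : E' ⟶ E) (p : Z ⟶ E) (b : Z ⟶ Y) :
    IsBC (qVia M g p (EtOver.pullbackFst g p) (EtOver.pullbackSnd g p) (EtOver.pullback_condition g p).symm) :=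
  isBC_of_isPushout (resA p) (resA (EtOver.pullbackSnd g p)) (resA (EtOver.pullbackFst g p))
    (isPushout_resA g p) (N := SecVia M p) (W := SecVia M (EtOver.pullbackFst g p)) (fun _ _ => rfl) (fun _ _ => rfl)
    (resM M (EtOver.pullbackSnd g p) : SecVia M p →ₛₗ[resA (EtOver.pullbackSnd g p)] SecVia M (EtOver.pullbackFst g p))
    _ (fun _ => rfl)
    (isBC_resM_of_over M q (EtOver.pullbackSnd g p) b)

/-- For a quasi-coherent module, restriction between affine objects is base change. -/
theorem isBC_resM [M.IsQuasicoherent] {E E' : EtOver X} [IsAffine E.obj.left.left] [IsAffine E'.obj.left.left]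
    (g : E' ⟶ E) : IsBC (resM M g) := by
  obtain ⟨⟨q⟩⟩ := (inferInstance : M.IsQuasicoherent)
  obtain ⟨n, Z, a, hZ, hcov, hY⟩ := exists_affine_cover (q.coversTop E)
  choose i hb using fun k => (Sieve.mem_ofObjects_iff _ _).1 (hY k)
  let b : ∀ k, Z k ⟶ q.X (i k) := fun k => (hb k).some
  let P : Fin n → EtOver X := fun k => EtOver.pullbackObj g (a k)
  let D : Fin n × Fin n → EtOver X := fun kl => EtOver.pullbackObj (a kl.1) (a kl.2)
  let d : ∀ kl, D kl ⟶ E := fun kl => EtOver.pullbackFst (a kl.1) (a kl.2) ≫ a kl.1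
  have : ∀ kl, IsAffine (D kl).obj.left.left := fun kl => isAffine_pullbackObj (a kl.1) (a kl.2)
  let a' : ∀ k, P k ⟶ E' := fun k => EtOver.pullbackFst g (a k)
  have hcov' : JointlySurj a' := by
    intro x
    obtain ⟨k, y, hy⟩ := hcov (g.hom.left.left x)
    obtain ⟨z, hz, -⟩ := Scheme.exists_preimage_of_isPullback ((EtOver.isPullback g (a k)).map (EtOver.toScheme X)) x y hy.symm
    exact ⟨k, z, hz⟩
  let d' : ∀ kl, EtOver.pullbackObj g (d kl) ⟶ E' := fun kl => EtOver.pullbackFst g (d kl)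
  -- the two maps from the overlap upstairs
  have e₁ : ∀ kl : Fin n × Fin n, ∃ u : EtOver.pullbackObj g (d kl) ⟶ P kl.1,
      u ≫ a' kl.1 = d' kl ∧
        u ≫ EtOver.pullbackSnd g (a kl.1) =
          EtOver.pullbackSnd g (d kl) ≫ EtOver.pullbackFst (a kl.1) (a kl.2) := fun kl => by
    have w : d' kl ≫ g = (EtOver.pullbackSnd g (d kl) ≫ EtOver.pullbackFst (a kl.1) (a kl.2)) ≫ a kl.1 := by
      rw [Category.assoc]; exact EtOver.pullback_condition g (d kl)
    exact ⟨(EtOver.isPullback g (a kl.1)).lift _ _ w, (EtOver.isPullback g (a kl.1)).lift_fst _ _ w,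
      (EtOver.isPullback g (a kl.1)).lift_snd _ _ w⟩
  have e₂ : ∀ kl : Fin n × Fin n, ∃ u : EtOver.pullbackObj g (d kl) ⟶ P kl.2,
      u ≫ a' kl.2 = d' kl ∧
        u ≫ EtOver.pullbackSnd g (a kl.2) =
          EtOver.pullbackSnd g (d kl) ≫ EtOver.pullbackSnd (a kl.1) (a kl.2) := fun kl => by
    have w : d' kl ≫ g = (EtOver.pullbackSnd g (d kl) ≫ EtOver.pullbackSnd (a kl.1) (a kl.2)) ≫ a kl.2 := by
      rw [Category.assoc, ← EtOver.pullback_condition (a kl.1) (a kl.2)]; exact EtOver.pullback_condition g (d kl)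
    exact ⟨(EtOver.isPullback g (a kl.2)).lift _ _ w, (EtOver.isPullback g (a kl.2)).lift_fst _ _ w,
      (EtOver.isPullback g (a kl.2)).lift_snd _ _ w⟩
  choose u₁ hu₁ hu₁' using e₁
  choose u₂ hu₂ hu₂' using e₂
  let qq : (∀ k, SecVia M (a k)) →ₛₗ[resA g] (∀ k, SecVia M (a' k)) :=
    { toFun := fun y k => qVia M g (a k) (a' k) _ (EtOver.pullback_condition g (a k)).symm (y k)
      map_add' := fun x y => funext fun k => map_add _ _ _
      map_smul' := fun c x => funext fun k => LinearMap.map_smulₛₗ _ c (x k) }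
  let qq₂ : (∀ kl, SecVia M (d kl)) →ₛₗ[resA g] (∀ kl, SecVia M (d' kl)) :=
    { toFun := fun y kl => qVia M g (d kl) (d' kl) _ (EtOver.pullback_condition g (d kl)).symm (y kl)
      map_add' := fun x y => funext fun kl => map_add _ _ _
      map_smul' := fun c x => funext fun kl => LinearMap.map_smulₛₗ _ c (x kl) }
  have w₂ : ∀ kl : Fin n × Fin n, EtOver.pullbackSnd (a kl.1) (a kl.2) ≫ a kl.2 = d kl := fun kl =>
    (EtOver.pullback_condition (a kl.1) (a kl.2)).symm
  refine isBC_of_equalizer (flat_resA g) (resM M g) qq qq₂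
    (LinearMap.pi fun k => jVia M (a k))
    (LinearMap.pi fun kl => resVia M (a kl.1) (d kl) (EtOver.pullbackFst (a kl.1) (a kl.2)) rfl ∘ₗ LinearMap.proj kl.1)
    (LinearMap.pi fun kl => resVia M (a kl.2) (d kl) (EtOver.pullbackSnd (a kl.1) (a kl.2)) (w₂ kl) ∘ₗ LinearMap.proj kl.2)
    (LinearMap.pi fun k => jVia M (a' k))
    (LinearMap.pi fun kl => resVia M (a' kl.1) (d' kl) (u₁ kl) (hu₁ kl) ∘ₗ LinearMap.proj kl.1)
    (LinearMap.pi fun kl => resVia M (a' kl.2) (d' kl) (u₂ kl) (hu₂ kl) ∘ₗ LinearMap.proj kl.2)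
    ?_ ?_ ?_ ?_ ?_ ?_ ?_ ?_ ?_ ?_
  · exact fun s t h => resM_ext M hcov fun k => congrFun h k
  · intro m; funext kl
    exact (resM_comp M _ _ m).symm.trans ((congrArg (fun z => resM M z m) (w₂ kl).symm).trans (resM_comp M _ _ m))
  · intro y hy
    obtain ⟨s, hs⟩ := exists_resM_eq M hcov (fun k => y k) fun k l => congrFun hy (k, l)
    exact ⟨s, funext fun k => hs k⟩
  · exact fun s t h => resM_ext M hcov' fun k => congrFun h k
  · intro m; funext kl
    exact (resM_comp M _ _ m).symm.trans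
      ((congrArg (fun z => resM M z m) ((hu₁ kl).trans (hu₂ kl).symm)).trans (resM_comp M _ _ m))
  · intro m; funext k
    exact (resM_comp M _ _ m).symm.trans
      ((congrArg (fun z => resM M z m) (EtOver.pullback_condition g (a k))).trans (resM_comp M _ _ m))
  · intro y; funext kl
    exact (resM_comp M _ _ _).symm.trans
      ((congrArg (fun z => resM M z (y kl.1)) (hu₁' kl)).trans (resM_comp M _ _ _))
  · intro y; funext kl
    exact (resM_comp M _ _ _).symm.trans
      ((congrArg (fun z => resM M z (y kl.2)) (hu₂' kl)).trans (resM_comp M _ _ _))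
  · exact isBC_pi _ (fun k => isBC_qVia M (q.presentation (i k)) g (a k) (b k)) qq fun _ _ => rfl
  · exact isBC_pi _ (fun kl => isBC_qVia M (q.presentation (i kl.1)) g (d kl)
      (EtOver.pullbackFst (a kl.1) (a kl.2) ≫ b kl.1)) qq₂ fun _ _ => rfl

end Groth.ModEtQCoh
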