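import Groth.Agent.ModEtQCoh.Local
import Groth.Agent.ModEtQCoh.EpiLocSurj
import Mathlib.Algebra.Category.ModuleCat.Presheaf.Submodule
import Mathlib.Algebra.Category.ModuleCat.Sheaf.Free

/-!
# Free modules on the small etale site: sections over affine objects
-/

set_option autoImplicit false
set_option backward.isDefEq.respectTransparency.types false
universe u

open CategoryTheory CategoryTheory.Limits AlgebraicGeometry Opposite AlgSp TensorProduct

namespace Groth.ModEtQCoh

variable {S : Scheme.{u}} {X : Sp S} {Y : EtOver X}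

/-- Covering sieves of an affine object of a slice contain finite affine covering families. -/
theorem exists_affine_cover_over {U : Over Y} [IsAffine U.left.obj.left.left] {R : Sieve U}
    (hR : R ∈ (etTop X).over Y U) :
    ∃ (n : ℕ) (W : Fin n → Over Y) (h : ∀ i, W i ⟶ U),
      (∀ i, IsAffine (W i).left.obj.left.left) ∧ JointlySurj (fun i => (h i).left) ∧ ∀ i, R (h i) := by
  rw [GrothendieckTopology.mem_over_iff] at hR
  obtain ⟨n, V, g, hV, hg, hRg⟩ := exists_affine_cover hR
  exact ⟨n, fun i => Over.mk (g i ≫ U.hom), fun i => Over.homMk (g i) rfl, hV, hg, fun i =>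
    (Sieve.overEquiv_iff R _).1 (hRg i)⟩

/-- A morphism of modules on a slice, on sections. -/
noncomputable def appO {K L : ModOver Y} (p : K ⟶ L) (U : Over Y) : SecO K U →ₗ[fnA U.left] SecO L U where
  toFun s := (p.val.app (op U)).hom s
  map_add' := map_add _
  map_smul' a s := (p.val.app (op U)).hom.map_smul (upO U a) s

theorem appO_resO {K L : ModOver Y} (p : K ⟶ L) {U V : Over Y} (g : V ⟶ U) (s : SecO K U) :
    appO p V (resO K g s) = resO L g (appO p U s) :=
  PresheafOfModules.naturality_apply p.val g.op s

theorem exists_local_preimage {K L : ModOver Y} (p : K ⟶ L) [Epi p] {U : Over Y} [IsAffine U.left.obj.left.left]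
    (s : SecO L U) :
    ∃ (n : ℕ) (W : Fin n → Over Y) (h : ∀ i, W i ⟶ U),
      (∀ i, IsAffine (W i).left.obj.left.left) ∧ JointlySurj (fun i => (h i).left) ∧
        ∀ i, ∃ t, appO p (W i) t = resO L (h i) s :=
  exists_affine_cover_over (imageSieve_mem_of_epi p s)

variable (I : Type (u + 1)) (U : Over Y)

/-- The free module on `I` over `Y`. -/
noncomputable abbrev freeO (Y : EtOver X) (I : Type (u + 1)) : ModOver Y := SheafOfModules.free I

/-- The value of a basic section. -/
noncomputable abbrev gen (i : I) : SecO (freeO Y I) U := (SheafOfModules.freeSection i).1 (op U)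

theorem resO_gen {V : Over Y} (g : V ⟶ U) (i : I) : resO (freeO Y I) g (gen I U i) = gen I V i :=
  (SheafOfModules.freeSection (R := (OEtRing X).over Y) i).2 g.op

/-- The map from the free module over the ring to sections of the free sheaf. -/
noncomputable def eFree : (I →₀ fnA U.left) →ₗ[fnA U.left] SecO (freeO Y I) U :=
  Finsupp.linearCombination _ (gen I U)

theorem slO_eFree_single {V : Over Y} (g : V ⟶ U) (i : I) (a : fnA U.left) :
    slO (freeO Y I) (eFree I U) g (Finsupp.single i a) = resA g.left a • gen I V i := by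
  show resO _ g (eFree I U _) = _
  rw [eFree, Finsupp.linearCombination_single, map_smulₛₗ, resO_gen]

open Classical in
/-- The coordinate morphism. -/
noncomputable def coord (i : I) : freeO Y I ⟶ SheafOfModules.unit ((OEtRing X).over Y) :=
  (SheafOfModules.freeHomEquiv _).symm fun j =>
    (SheafOfModules.unit _).unitHomEquiv (if j = i then 𝟙 _ else 0)

/-- The coordinate of a section. -/
noncomputable def coordO (i : I) : SecO (freeO Y I) U →ₗ[fnA U.left] fnA U.left where
  toFun s := ULift.down (((coord I i).val.app (op U)).hom s)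
  map_add' a b := by rw [map_add]; rfl
  map_smul' a s := by
    show ULift.down (((coord I i).val.app (op U)).hom (upO U a • s)) = _
    rw [LinearMap.map_smul]; rfl

open Classical in
theorem coordO_gen (i j : I) : coordO I U i (gen I U j) = if j = i then 1 else 0 := by
  have h := congrArg (fun σ => ULift.down (σ.1 (op U)))
    (SheafOfModules.sectionsMap_freeHomEquiv_symm_freeSection (R := (OEtRing X).over Y)
      (fun j => (SheafOfModules.unit _).unitHomEquiv (if j = i then 𝟙 _ else 0)) j)
  refine h.trans ?_
  by_cases hji : j = i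
  · simp only [hji, if_true]; rfl
  · simp only [hji, if_false]; rfl

theorem locInj_eFree : LocInj (freeO Y I) (eFree I U) := by
  classical
  intro V _ g z hz
  have h0 : z = 0 := eq_zero_of_coord (slO (freeO Y I) (eFree I U) g) (fun i => coordO I V i)
    (fun i j a => by
      rw [slO_eFree_single, map_smul, coordO_gen, Finsupp.single_apply, smul_eq_mul, mul_ite, mul_one,
        mul_zero]) hz
  subst h0
  exact ⟨1, fun _ => V, fun _ => 𝟙 V, fun _ => inferInstance, fun x => ⟨0, x, rfl⟩, fun _ => map_zero _⟩

/-- The submodule of sections in the span of the basic sections. -/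
noncomputable def genSub : (freeO Y I).val.Submodule where
  obj Z := Submodule.span _ (Set.range fun i => (SheafOfModules.freeSection (R := (OEtRing X).over Y) i).1 Z)
  map {Z W} f := Submodule.span_le.2 (by
    rintro _ ⟨i, rfl⟩
    exact Submodule.subset_span ⟨i, ((SheafOfModules.freeSection (R := (OEtRing X).over Y) i).2 f).symm⟩)

theorem locSurj_genSub :
    Presheaf.IsLocallySurjective ((etTop X).over Y)
      ((PresheafOfModules.toPresheaf _).map (genSub (Y := Y) I).ι) := by
  let R' := (OEtRing X).over Y
  let adj := PresheafOfModules.sheafificationAdjunction.{u + 1} (𝟙 R'.obj)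
  let f := (adj.homEquiv _ (freeO Y I)).symm (genSub (Y := Y) I).ι
  have hf : adj.homEquiv _ _ f = (genSub (Y := Y) I).ι := Equiv.apply_symm_apply _ _
  have : Epi f := by
    refine ⟨fun {Z} a b hab => (SheafOfModules.freeHomEquiv Z).injective (funext fun i => ?_)⟩
    have h2 := congrArg (adj.homEquiv _ Z) hab
    rw [adj.homEquiv_naturality_right, adj.homEquiv_naturality_right, hf] at h2
    refine PresheafOfModules.sections_ext _ _ fun W => ?_
    exact congrArg (fun k : (genSub (Y := Y) I).toPresheafOfModules ⟶ _ => (k.app W).hom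
      ⟨_, Submodule.subset_span ⟨i, rfl⟩⟩) h2
  have h1 : Presheaf.IsLocallySurjective ((etTop X).over Y) ((PresheafOfModules.toPresheaf _).map f.val) :=
    ⟨fun s => imageSieve_mem_of_epi f s⟩
  rw [← hf, PresheafOfModules.sheafificationAdjunction_homEquiv_apply]
  show Presheaf.IsLocallySurjective _ (CategoryTheory.toSheafify _ _ ≫ (PresheafOfModules.toPresheaf _).map f.val)
  exact @Presheaf.isLocallySurjective_comp _ _ _ _ _ _ _ _ _ _ _ _ _ _ inferInstance h1

theorem locSurj_eFree : LocSurj (freeO Y I) (eFree I U) := by
  intro V _ g s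
  have := locSurj_genSub (Y := Y) I
  obtain ⟨n, W, h, hW, hcov, hsieve⟩ := exists_affine_cover_over
    (this.imageSieve_mem s)
  refine ⟨n, W, h, hW, hcov, fun i => ?_⟩
  obtain ⟨t, ht⟩ := hsieve i
  obtain ⟨c, hc⟩ := Finsupp.mem_span_range_iff_exists_finsupp.1 t.2
  let := (resA (h i ≫ g).left).toAlgebra
  refine ⟨c.sum fun j a => (ULift.down a : fnA (W i).left) ⊗ₜ[fnA U.left] Finsupp.single j (1 : fnA U.left), ?_⟩
  refine (map_finsuppSum (bcLift (slO (freeO Y I) (eFree I U) (h i ≫ g))) c _).trans
    ((Finsupp.sum_congr fun j _ => ?_).trans (hc.trans ht))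
  rw [bcLift_tmul, slO_eFree_single, map_one, one_smul]
  rfl

theorem isBC_eFree [IsAffine U.left.obj.left.left] (V : Over Y) [IsAffine V.left.obj.left.left] (g : V ⟶ U) :
    IsBC (slO (freeO Y I) (eFree I U) g) :=
  isBC_of_local (locInj_eFree I U) (locSurj_eFree I U) V g

end Groth.ModEtQCoh
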