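import Groth.Agent.ModEtQCoh.Main

/-!
# Generators of quasi-coherent modules on affine objects
-/

set_option autoImplicit false
set_option backward.isDefEq.respectTransparency.types false
universe u

open CategoryTheory CategoryTheory.Limits AlgebraicGeometry Opposite AlgSp TensorProduct

namespace Groth.ModEtQCoh

/-- Finite generation descends along a finite flat covering family. -/
theorem finite_of_forall_finite_tensor {A : Type u} [CommRing A] {K : Type} [Finite K] {B : K → Type u}
    [∀ k, CommRing (B k)] [∀ k, Algebra A (B k)] [∀ k, Module.Flat A (B k)]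
    {P : Type (u + 1)} [AddCommGroup P] [Module A P]
    (hcov : ∀ m : Ideal A, m.IsMaximal →
      ∃ k, ∃ q : Ideal (B k), q.IsPrime ∧ q.comap (algebraMap A (B k)) = m)
    (h : ∀ k, Module.Finite (B k) (B k ⊗[A] P)) : Module.Finite A P := by
  classical
  have hL : ∀ k, ∃ L : Submodule A P, L.FG ∧
      Function.Surjective (LinearMap.baseChange (B k) L.subtype) := by
    intro k
    obtain ⟨t, ht⟩ := (h k).fg_top
    have hz : ∀ z : B k ⊗[A] P, ∃ L : Submodule A P, L.FG ∧ z ∈ LinearMap.range (LinearMap.baseChange (B k) L.subtype) := by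
      intro z
      induction z using TensorProduct.induction_on with
      | zero => exact ⟨⊥, Submodule.fg_bot, zero_mem _⟩
      | tmul b p =>
        exact ⟨Submodule.span A {p}, Submodule.fg_span_singleton p,
          b ⊗ₜ ⟨p, Submodule.mem_span_singleton_self p⟩, by simp⟩
      | add a b ha hb =>
        obtain ⟨L₁, h₁, ha⟩ := ha
        obtain ⟨L₂, h₂, hb⟩ := hb
        have mono : ∀ L : Submodule A P, L ≤ L₁ ⊔ L₂ →
            LinearMap.range (LinearMap.baseChange (B k) L.subtype) ≤
              LinearMap.range (LinearMap.baseChange (B k) (L₁ ⊔ L₂).subtype) := by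
          intro L hle
          rw [← Submodule.subtype_comp_inclusion _ _ hle, LinearMap.baseChange_comp]
          exact LinearMap.range_comp_le_range _ _
        exact ⟨L₁ ⊔ L₂, h₁.sup h₂, add_mem (mono L₁ le_sup_left ha) (mono L₂ le_sup_right hb)⟩
    choose L hLfg hLmem using hz
    refine ⟨⨆ z ∈ t, L z, Submodule.fg_biSup t L fun z _ => hLfg z, ?_⟩
    rw [← LinearMap.range_eq_top, eq_top_iff, ← ht, Submodule.span_le]
    intro z hz
    have hle : L z ≤ ⨆ w ∈ t, L w := le_iSup₂_of_le z hz le_rfl
    have := hLmem z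
    rw [← Submodule.subtype_comp_inclusion _ _ hle, LinearMap.baseChange_comp] at this
    exact LinearMap.range_comp_le_range _ _ this
  choose L hLfg hLsurj using hL
  let N : Submodule A P := ⨆ k, L k
  have hN : N.FG := Submodule.fg_iSup L hLfg
  refine ⟨?_⟩
  suffices N = ⊤ by rwa [← this]
  rw [eq_top_iff]
  intro x _
  rw [← Submodule.Quotient.mk_eq_zero]
  refine eq_zero_of_forall_one_tmul hcov fun k => ?_
  obtain ⟨z, hz⟩ := hLsurj k (1 ⊗ₜ x)
  have h0 : N.mkQ ∘ₗ (L k).subtype = 0 := by
    ext ⟨y, hy⟩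
    exact (Submodule.Quotient.mk_eq_zero N).2 (le_iSup L k hy)
  calc (1 : B k) ⊗ₜ[A] (Submodule.Quotient.mk x : P ⧸ N)
      = LinearMap.baseChange (B k) N.mkQ (1 ⊗ₜ x) := rfl
    _ = LinearMap.baseChange (B k) (N.mkQ ∘ₗ (L k).subtype) z := by rw [← hz, LinearMap.baseChange_comp]; rfl
    _ = 0 := by rw [h0, LinearMap.baseChange_zero, LinearMap.zero_apply]

variable {S : Scheme.{u}} {X : Sp S}

/-- Generators of a module on a slice generate its sections on affine objects. -/
theorem surjective_appO_eFree {Y : EtOver X} (M : ModEt X) [M.IsQuasicoherent] {I : Type (u + 1)}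
    (π : freeO Y I ⟶ M.over Y) [Epi π] (U : Over Y) [IsAffine U.left.obj.left.left] :
    Function.Surjective (appO π U ∘ₗ eFree I U) := by
  intro s
  let f : (I →₀ fnA U.left) →ₗ[fnA U.left] SecO (M.over Y) U := appO π U ∘ₗ eFree I U
  suffices h : s ∈ LinearMap.range f from h
  obtain ⟨n, W, h, hW, hcov, hl⟩ := exists_local_preimage π s
  rw [← Submodule.Quotient.mk_eq_zero]
  let : ∀ i, Algebra (fnA U.left) (fnA (W i).left) := fun i => (resA (h i).left).toAlgebra
  have : ∀ i, Module.Flat (fnA U.left) (fnA (W i).left) := fun i => flat_resA (h i).left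
  refine eq_zero_of_forall_one_tmul (B := fun i => fnA (W i).left) (fun m hm => exists_prime_over hcov m)
    fun i => ?_
  obtain ⟨w, hw⟩ := hl i
  obtain ⟨z₁, hz₁⟩ := (isBC_eFree I U (W i) (h i)).2 w
  have hBC : IsBC (resO (M.over Y) (h i)) := isBC_resM M (h i).left
  have key : (1 : fnA (W i).left) ⊗ₜ[fnA U.left] s = mapN (resA (h i).left) f z₁ := by
    refine hBC.1 ?_
    rw [bcLift_mapN (slO (freeO Y I) (eFree I U) (h i)) (resO (M.over Y) (h i)) f (appO π (W i))
      (fun n => (appO_resO π (h i) (eFree I U n)).symm) z₁, hz₁, hw]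
    exact (bcLift_tmul (resO (M.over Y) (h i)) 1 s).trans (one_smul _ _)
  show (LinearMap.lTensor (fnA (W i).left) (LinearMap.range f).mkQ) (1 ⊗ₜ s) = 0
  rw [key]
  exact mapN_mapN_eq_zero (resA (h i).left) (LinearMap.range_mkQ_comp f) z₁

/-- Sections of a quasi-coherent module of finite type over an affine object form a finite module. -/
theorem finite_sectModEt (M : ModEt X) [M.IsQuasicoherent] [M.IsFiniteType] (E : EtOver X)
    [IsAffine E.obj.left.left] : Module.Finite (fnA E) (sectModEt M E) := by
  obtain ⟨σ, hσ⟩ := SheafOfModules.IsFiniteType.exists_localGeneratorsData M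
  obtain ⟨n, Z, a, hZ, hcov, hY⟩ := exists_affine_cover (σ.coversTop E)
  choose i hb using fun k => (Sieve.mem_ofObjects_iff _ _).1 (hY k)
  let : ∀ k, Algebra (fnA E) (fnA (Z k)) := fun k => (resA (a k)).toAlgebra
  have : ∀ k, Module.Flat (fnA E) (fnA (Z k)) := fun k => flat_resA (a k)
  refine finite_of_forall_finite_tensor (B := fun k => fnA (Z k))
    (fun m hm => exists_prime_over hcov m) fun k => ?_
  have := hσ.isFiniteType (i k)
  let G := σ.generators (i k)
  let π : freeO (σ.X (i k)) G.I ⟶ M.over (σ.X (i k)) := G.π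
  haveI : Epi π := G.epi
  let U : Over (σ.X (i k)) := Over.mk (hb k).some
  haveI : IsAffine U.left.obj.left.left := hZ k
  have hfin : Module.Finite (fnA (Z k)) (sectModEt M (Z k)) :=
    Module.Finite.of_surjective _ (surjective_appO_eFree M π U)
  let := Module.compHom (sectModEt M (Z k)) (resA (a k))
  have : IsScalarTower (fnA E) (fnA (Z k)) (sectModEt M (Z k)) :=
    IsScalarTower.of_algebraMap_smul fun _ _ => rfl
  let r : sectModEt M E →ₗ[fnA E] sectModEt M (Z k) :=
    { toFun := resM M (a k), map_add' := map_add _, map_smul' := (resM M (a k)).map_smulₛₗ }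
  exact Module.Finite.equiv ((isBC_iff (resM M (a k)) rfl r fun _ => rfl).1 (isBC_resM M (a k))).equiv.symm

end Groth.ModEtQCoh
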