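import Groth.Agent.ModEtQCoh.PullExist
import Groth.Agent.SiteCohomology.ModulesGrothendieck
import Mathlib.CategoryTheory.Abelian.GrothendieckCategory.Basic

/-!
# Modules on small etale sites form a Grothendieck abelian category
-/

set_option autoImplicit false
set_option backward.isDefEq.respectTransparency.types false
universe u

open CategoryTheory CategoryTheory.Limits Opposite AlgebraicGeometry AlgSp Groth.ModEtQCoh.PullExist

namespace Groth.ModEtQCoh.Grothendieck

section site

variable {C : Type (u + 1)} [Category.{u} C]

/-- Presheaves of modules on a locally small category form a Grothendieck abelian category. -/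
theorem isGrothendieckAbelian_presheaf (R : Cᵒᵖ ⥤ RingCat.{u + 1}) :
    IsGrothendieckAbelian.{u + 1} (PresheafOfModules.{u + 1} R) :=
  IsGrothendieckAbelian.of_equivalence (bigEquiv R).symm

variable {J : GrothendieckTopology C} (R : Sheaf J RingCat.{u + 1})
  [HasSheafify J AddCommGrpCat.{u + 1}] [J.WEqualsLocallyBijective AddCommGrpCat.{u + 1}]

/-- Sheaves of modules on a locally small site form a Grothendieck abelian category. -/
theorem isGrothendieckAbelian_sheaf : IsGrothendieckAbelian.{u + 1} (SheafOfModules.{u + 1} R) := by
  haveI := isGrothendieckAbelian_presheaf R.obj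
  let adj := PresheafOfModules.sheafificationAdjunction.{u + 1} (𝟙 R.obj)
  haveI : AB5OfSize.{u + 1, u + 1} (SheafOfModules.{u + 1} R) :=
    { ofShape := fun K _ _ => adj.hasExactColimitsOfShape K }
  haveI : HasSeparator (SheafOfModules.{u + 1} R) := by
    obtain ⟨G, hG⟩ := (inferInstance : HasSeparator (PresheafOfModules.{u + 1} R.obj))
    refine ⟨⟨(PresheafOfModules.sheafification (𝟙 R.obj)).obj G,
      (isSeparator_def _).2 fun X Y f g h => ?_⟩⟩
    apply (SheafOfModules.forget.{u + 1} R ⋙ PresheafOfModules.restrictScalars (𝟙 R.obj)).map_injective
    refine hG.def _ _ fun k => ?_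
    apply (adj.homEquiv G Y).symm.injective
    rw [Adjunction.homEquiv_naturality_right_symm, Adjunction.homEquiv_naturality_right_symm]
    exact h _
  exact { }

end site

variable {S : Scheme.{u}} (X : Sp S)

/-- Modules on the small etale site form a Grothendieck abelian category. -/
theorem isGrothendieckAbelian_modEt : IsGrothendieckAbelian.{u + 1} (ModEt X) :=
  isGrothendieckAbelian_sheaf (OEtRing X)

/-- Modules on the small etale site have enough injectives. -/
theorem enoughInjectives_modEt : EnoughInjectives (ModEt X) :=
  haveI := isGrothendieckAbelian_modEt X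
  inferInstance

end Groth.ModEtQCoh.Grothendieck
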