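import Groth.Agent.ModEtQCoh.ColimSections
import Groth.Agent.ModEtQCoh.AffinePres

/-!
# Morphisms out of a finitely presented module and filtered colimits
-/

set_option autoImplicit false
set_option backward.isDefEq.respectTransparency.types false
set_option linter.style.haveILetI false
set_option maxHeartbeats 800000
universe u

open CategoryTheory CategoryTheory.Limits AlgebraicGeometry Opposite AlgSp TensorProduct
  Groth.ModEtQCoh.SpanFamily Groth.ModEtQCoh.CoherentUnion Groth.ModEtQCoh.AffinePres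
  Groth.ModEtQCoh.ColimSections

namespace Groth.ModEtQCoh.HomColim

noncomputable section

/-- A semilinear map extends uniquely over a base change. -/
theorem exists_extension {A B : Type u} [CommRing A] [CommRing B] {f : A →+* B} {N W Q : Type (u + 1)}
    [AddCommGroup N] [Module A N] [AddCommGroup W] [Module B W] [AddCommGroup Q] [Module B Q]
    {ψ : N →ₛₗ[f] W} (hψ : IsBC ψ) (g : N →ₛₗ[f] Q) : ∃ Φ : W →ₗ[B] Q, ∀ n, Φ (ψ n) = g n := by
  letI := f.toAlgebra
  letI := Module.compHom W f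
  letI := Module.compHom Q f
  haveI : IsScalarTower A B W := IsScalarTower.of_algebraMap_smul fun _ _ => rfl
  haveI : IsScalarTower A B Q := IsScalarTower.of_algebraMap_smul fun _ _ => rfl
  let r : N →ₗ[A] W := { toFun := ψ, map_add' := map_add ψ, map_smul' := ψ.map_smulₛₗ }
  have h : IsBaseChange B r := (isBC_iff ψ rfl r fun _ => rfl).1 hψ
  exact ⟨h.lift { toFun := g, map_add' := map_add g, map_smul' := g.map_smulₛₗ }, fun n => h.lift_eq _ n⟩

theorem ext_of_isBC {A B : Type u} [CommRing A] [CommRing B] {f : A →+* B} {N W Q : Type (u + 1)}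
    [AddCommGroup N] [Module A N] [AddCommGroup W] [Module B W] [AddCommGroup Q]
    {ψ : N →ₛₗ[f] W} (hψ : IsBC ψ) {Φ Φ' : W →+ Q} (h : ∀ (b : B) n, Φ (b • ψ n) = Φ' (b • ψ n)) (w : W) :
    Φ w = Φ' w := by
  obtain ⟨z, rfl⟩ := hψ.2 w
  letI := f.toAlgebra
  induction z using TensorProduct.induction_on with
  | zero => rw [map_zero, map_zero, map_zero]
  | tmul b n => rw [show bcLift ψ (b ⊗ₜ n) = b • ψ n from bcLift_tmul ψ b n]; exact h b n
  | add x y hx hy => erw [map_add, map_add, map_add]; rw [hx, hy]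

variable {S : Scheme.{u}} [QuasiSeparatedSpace ↥S] {X : Sp S} (hqs : IsQuasiSeparatedSp X)
  {U : EtOver X} [IsAffine U.obj.left.left] (hsurj : Function.Surjective (Points.ofPt U.obj.hom))
  {G F : ModEt X} [G.IsQuasicoherent] (φ : sectModEt G U →ₗ[fnA U] sectModEt F U)

/-- The composite with restriction. -/
def resComp {W : EtOver X} (l : W ⟶ U) : sectModEt G U →ₛₗ[resA l] sectModEt F W where
  toFun x := resM F l (φ x)
  map_add' x y := by rw [map_add, map_add]
  map_smul' a x := by rw [map_smul, map_smulₛₗ]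

/-- The extension of a map on the chart. -/
def ext' {W : EtOver X} [IsAffine W.obj.left.left] (l : W ⟶ U) : sectModEt G W →ₗ[fnA W] sectModEt F W :=
  (exists_extension (isBC_resM G l) (resComp φ l)).choose

omit [QuasiSeparatedSpace ↥S] in
theorem ext'_res {W : EtOver X} [IsAffine W.obj.left.left] (l : W ⟶ U) (x : sectModEt G U) :
    ext' φ l (resM G l x) = resM F l (φ x) :=
  (exists_extension (isBC_resM G l) (resComp φ l)).choose_spec x

omit [QuasiSeparatedSpace ↥S] in
theorem res_ext' {W V : EtOver X} [IsAffine W.obj.left.left] [IsAffine V.obj.left.left] (h : V ⟶ W) (l : W ⟶ U)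
    (y : sectModEt G W) : resM F h (ext' φ l y) = ext' φ (h ≫ l) (resM G h y) := by
  refine ext_of_isBC (isBC_resM G l) (Φ := ((resM F h).toAddMonoidHom).comp (ext' φ l).toAddMonoidHom)
    (Φ' := (ext' φ (h ≫ l)).toAddMonoidHom.comp (resM G h).toAddMonoidHom) (fun b n => ?_) y
  show resM F h (ext' φ l (b • resM G l n)) = ext' φ (h ≫ l) (resM G h (b • resM G l n))
  rw [map_smul, map_smulₛₗ, map_smulₛₗ, map_smul, ext'_res, ← resM_comp, ← resM_comp, ext'_res]

/-- The descent condition on a cover of the square of the chart. -/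
def Compat {n : ℕ} {W : Fin n → EtOver X} (hW : ∀ j, IsAffine (W j).obj.left.left)
    (w : ∀ j, W j ⟶ EtOver.prodObj U U) : Prop :=
  ∀ j x, (haveI := hW j; ext' φ (w j ≫ EtOver.prodFst U U) (resM G (w j ≫ EtOver.prodSnd U U) x)) =
    resM F (w j ≫ EtOver.prodSnd U U) (φ x)

variable {n : ℕ} {W₀ : Fin n → EtOver X} {hW₀ : ∀ j, IsAffine (W₀ j).obj.left.left}
  {w₀ : ∀ j, W₀ j ⟶ EtOver.prodObj U U} (hcov₀ : JointlySurj w₀) (hc : Compat φ hW₀ w₀)

omit [QuasiSeparatedSpace ↥S] in
include hcov₀ hc in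
theorem ext'_indep {W : EtOver X} [IsAffine W.obj.left.left] (l l' : W ⟶ U) (y : sectModEt G W) :
    ext' φ l y = ext' φ l' y := by
  let p : W ⟶ EtOver.prodObj U U := (EtOver.prodIsLimit U U).lift (BinaryFan.mk l l')
  have hp₁ : p ≫ EtOver.prodFst U U = l := (EtOver.prodIsLimit U U).fac (BinaryFan.mk l l') ⟨.left⟩
  have hp₂ : p ≫ EtOver.prodSnd U U = l' := (EtOver.prodIsLimit U U).fac (BinaryFan.mk l l') ⟨.right⟩
  obtain ⟨m, T, h, hT, hTcov, hR⟩ := exists_affine_cover ((etTop X).pullback_stable p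
    (ofArrows_mem_etTop W₀ w₀ hcov₀))
  refine resM_ext F hTcov fun i => ?_
  haveI := hT i
  obtain ⟨T', q, r, hr, hfac⟩ := hR i
  obtain ⟨j⟩ := hr
  haveI := hW₀ j
  have e1 : h i ≫ l = q ≫ w₀ j ≫ EtOver.prodFst U U := by rw [reassoc_of% hfac, hp₁]
  have e2 : h i ≫ l' = q ≫ w₀ j ≫ EtOver.prodSnd U U := by rw [reassoc_of% hfac, hp₂]
  rw [res_ext', res_ext']
  generalize resM G (h i) y = z
  refine ext_of_isBC (isBC_resM G (h i ≫ l')) (Φ := (ext' φ (h i ≫ l)).toAddMonoidHom)
    (Φ' := (ext' φ (h i ≫ l')).toAddMonoidHom) (fun b x => ?_) z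
  show ext' φ (h i ≫ l) (b • resM G (h i ≫ l') x) = ext' φ (h i ≫ l') (b • resM G (h i ≫ l') x)
  rw [map_smul, map_smul, ext'_res, e1, e2]
  exact congrArg (b • ·) (((congrArg _ (resM_comp G q _ x)).trans (res_ext' φ q _ _).symm).trans
    ((congrArg (resM F q) (hc j x)).trans (resM_comp F q _ _).symm))

include hqs hsurj hcov₀ hc in
/-- A compatible map on the chart comes from a morphism. -/
theorem exists_hom_of_compat : ∃ d : G ⟶ F, ∀ x, appM d U x = φ x := by
  have key : ∀ (E : EtOver X) (_ : IsAffine E.obj.left.left) (t : sectModEt G E), ∃! p : sectModEt F E,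
      ∀ (W : EtOver X) (hW : IsAffine W.obj.left.left) (k : W ⟶ E) (l : W ⟶ U),
        resM F k p = (haveI := hW; ext' φ l (resM G k t)) := by
    intro E hE t
    obtain ⟨m, W, w, hW, hcov⟩ := exists_affine_cover_prod hqs E U
    have hk := jointlySurj_prod hsurj w hcov
    obtain ⟨p, hp⟩ := exists_resM_eq F hk
      (fun j => haveI := hW j; ext' φ (w j ≫ EtOver.prodSnd E U) (resM G (w j ≫ EtOver.prodFst E U) t)) fun i j => by
        haveI := hW i
        haveI := hW j
        rw [res_ext', res_ext', ← resM_comp, ← resM_comp, EtOver.pullback_condition]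
        exact ext'_indep φ hcov₀ hc _ _ _
    refine ⟨p, fun V hV k l => ?_, fun p' hp' => resM_ext F hk fun j => ?_⟩
    · haveI : ∀ j, IsAffine (W j).obj.left.left := hW
      refine resM_ext F (g := fun j => EtOver.pullbackFst k (w j ≫ EtOver.prodFst E U)) (fun v => ?_) fun j => ?_
      · obtain ⟨x, z, hz⟩ := hk (k.hom.left.left v)
        obtain ⟨q, hq, -⟩ := Scheme.exists_preimage_of_isPullback
          ((EtOver.isPullback k (w x ≫ EtOver.prodFst E U)).map (EtOver.toScheme X)) v z hz.symm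
        exact ⟨x, q, hq⟩
      · rw [← resM_comp, EtOver.pullback_condition, resM_comp, hp, res_ext', res_ext', ← resM_comp, ← resM_comp,
          EtOver.pullback_condition]
        exact ext'_indep φ hcov₀ hc _ _ _
    · exact (hp' (W j) (hW j) _ _).trans (hp j).symm
  choose p hp hu using key
  obtain ⟨d, hd⟩ := exists_hom_of_affine (M := G) (P := F) p
    (fun E hE t t' => (hu E hE _ _ fun W hW k l => by
      rw [map_add, hp, hp, ← map_add, ← map_add]
      all_goals exact hW).symm)
    (fun E hE r t => (hu E hE _ _ fun W hW k l => by rw [map_smulₛₗ, hp, map_smulₛₗ (resM G k), map_smul]).symm)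
    (fun {E E'} hE hE' k t => (hu E' hE' _ _ fun W hW j l => by rw [← resM_comp, hp, resM_comp]).symm)
  refine ⟨d, fun x => ?_⟩
  rw [hd U ‹_›]
  have h := hp U ‹_› x U ‹_› (𝟙 U) (𝟙 U)
  rw [resM_id, ext'_res, resM_id] at h
  exact h

omit [QuasiSeparatedSpace ↥S] in
theorem appM_ext' {F' : ModEt X} (ρ : F ⟶ F') (φ' : sectModEt G U →ₗ[fnA U] sectModEt F' U)
    (h : ∀ x, appM ρ U (φ x) = φ' x) {W : EtOver X} [IsAffine W.obj.left.left] (l : W ⟶ U) (y : sectModEt G W) :
    appM ρ W (ext' φ l y) = ext' φ' l y := by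
  refine ext_of_isBC (isBC_resM G l) (Φ := (appM ρ W).toAddMonoidHom.comp (ext' φ l).toAddMonoidHom)
    (Φ' := (ext' φ' l).toAddMonoidHom) (fun b n => ?_) y
  show appM ρ W (ext' φ l (b • resM G l n)) = ext' φ' l (b • resM G l n)
  rw [map_smul, map_smul, map_smul, ext'_res, ext'_res, appM_resM, h]

end

section colim

variable {S : Scheme.{u}} [QuasiSeparatedSpace ↥S] {X : Sp S} (hqs : IsQuasiSeparatedSp X)
  {U : EtOver X} [IsAffine U.obj.left.left] (hsurj : Function.Surjective (Points.ofPt U.obj.hom))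
  {G : ModEt X} [G.IsFinitePresentation] {I : Type (u + 1)} [SmallCategory I] [IsFiltered I] {D : I ⥤ ModEt X}
  {c : Cocone D} (hc : IsColimit c)

include hqs hsurj hc in
theorem exists_eq_zero {l : I} (ψ : G ⟶ D.obj l) (h : ψ ≫ c.ι.app l = 0) :
    ∃ (m : I) (α : l ⟶ m), ψ ≫ D.map α = 0 := by
  obtain ⟨T, hT⟩ := (finite_sectModEt G U).fg_top
  obtain ⟨m, α, hα⟩ := exists_common (fun (x : T) {m'} (α : l ⟶ m') => appM (D.map α) U (appM ψ U x.1) = 0)
    (fun x {m' m''} α β hx => by rw [appM_map_comp, hx, map_zero])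
    (fun x => exists_zero hc U _ (appM_comp_eq_zero (N := D.obj l) (P := c.pt) h U x.1))
  refine ⟨m, α, eq_zero_of_chart hqs hsurj _ fun x => ?_⟩
  have hx : x ∈ Submodule.span (fnA U) (T : Set (sectModEt G U)) := hT ▸ Submodule.mem_top
  induction hx using Submodule.span_induction with
  | mem z hz => exact hα ⟨z, hz⟩
  | zero => exact map_zero _
  | add a b _ _ ha hb => rw [map_add, ha, hb, add_zero]
  | smul r a _ ha => rw [map_smul, ha, smul_zero]

include hc in
omit [QuasiSeparatedSpace ↥S] in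
/-- A map on the chart lifts to a stage. -/
theorem exists_lift (φ : sectModEt G U →ₗ[fnA U] sectModEt c.pt U) :
    ∃ (l : I) (ψ : sectModEt G U →ₗ[fnA U] sectModEt (D.obj l) U),
      ∀ x, appM (N := c.pt) (c.ι.app l) U (ψ x) = φ x := by
  classical
  haveI := finite_sectModEt G U
  haveI := finitePresentation_sectModEt G U
  obtain ⟨n, π, hπ⟩ := Module.Finite.exists_fin' (fnA U) (sectModEt G U)
  choose L t ht using fun i : Fin n => exists_stage hc U (φ (π (Pi.single i 1)))
  obtain ⟨l, hl⟩ := IsFiltered.sup_objs_exists (Finset.univ.image L)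
  let t' : Fin n → sectModEt (D.obj l) U := fun i =>
    appM (D.map (hl (Finset.mem_image_of_mem L (Finset.mem_univ i))).some) U (t i)
  let χ : (Fin n → fnA U) →ₗ[fnA U] sectModEt (D.obj l) U := Fintype.linearCombination (fnA U) t'
  have hχ : ∀ v, appM (N := c.pt) (c.ι.app l) U (χ v) = φ (π v) := by
    intro v
    refine LinearMap.congr_fun (f := (appM (N := c.pt) (c.ι.app l) U).comp χ) (g := φ.comp π) ?_ v
    refine LinearMap.pi_ext' fun i => LinearMap.ext_ring ?_
    show appM (N := c.pt) (c.ι.app l) U (χ (Pi.single i 1)) = φ (π (Pi.single i 1))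
    rw [Fintype.linearCombination_apply_single, one_smul]
    exact (appM_w _ U (t i)).trans (ht i)
  obtain ⟨R, hR⟩ := Module.FinitePresentation.fg_ker π hπ
  obtain ⟨m, α, hα⟩ := exists_common (fun (r : R) {m'} (α : l ⟶ m') => appM (D.map α) U (χ r.1) = 0)
    (fun r {m' m''} α β hr => by rw [appM_map_comp, hr, map_zero])
    (fun r => exists_zero hc U _ (by
      have hr : r.1 ∈ LinearMap.ker π := hR ▸ Submodule.subset_span r.2
      rw [hχ, LinearMap.mem_ker.1 hr, map_zero]))
  have hker : LinearMap.ker π ≤ LinearMap.ker ((appM (D.map α) U).comp χ) := by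
    rw [← hR, Submodule.span_le]
    exact fun r hr => hα ⟨r, hr⟩
  let e := π.quotKerEquivOfSurjective hπ
  refine ⟨m, (Submodule.liftQ _ _ hker).comp e.symm.toLinearMap, fun x => ?_⟩
  obtain ⟨v, rfl⟩ := hπ x
  rw [LinearMap.comp_apply, show e.symm.toLinearMap (π v) = Submodule.Quotient.mk v from e.symm_apply_apply (Submodule.Quotient.mk v), Submodule.liftQ_apply]
  exact (appM_w α U (χ v)).trans (hχ v)

include hqs hsurj hc in
theorem exists_factor (ψ : G ⟶ c.pt) : ∃ (l : I) (ψ' : G ⟶ D.obj l), ψ' ≫ c.ι.app l = ψ := by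
  classical
  obtain ⟨l, φ, hφ⟩ := exists_lift hc (appM ψ U)
  obtain ⟨n, W, w, hW, hcov⟩ := exists_affine_cover_prod hqs U U
  obtain ⟨T, hT⟩ := (finite_sectModEt G U).fg_top
  obtain ⟨m, α, hα⟩ := exists_common (fun (k : Fin n × T) {m'} (α : l ⟶ m') =>
      appM (D.map α) (W k.1) ((haveI := hW k.1;
        ext' φ (w k.1 ≫ EtOver.prodFst U U) (resM G (w k.1 ≫ EtOver.prodSnd U U) k.2.1)) -
        resM (D.obj l) (w k.1 ≫ EtOver.prodSnd U U) (φ k.2.1)) = 0)
    (fun k {m' m''} α β hk => by rw [appM_map_comp, hk, map_zero])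
    (fun k => by
      haveI := hW k.1
      refine exists_zero hc (W k.1) _ ?_
      rw [map_sub, appM_resM, hφ, appM_ext' φ (F' := c.pt) (c.ι.app l) (appM ψ U) hφ, sub_eq_zero]
      have e : ∀ {V : EtOver X} [IsAffine V.obj.left.left] (a : V ⟶ U) (y : sectModEt G V),
          ext' (appM ψ U) a y = appM ψ V y := fun {V} _ a y => by
        refine ext_of_isBC (isBC_resM G a) (Φ := (ext' (appM ψ U) a).toAddMonoidHom)
          (Φ' := (appM ψ V).toAddMonoidHom) (fun b x => ?_) y
        show ext' (appM ψ U) a (b • resM G a x) = appM ψ V (b • resM G a x)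
        rw [map_smul, map_smul, ext'_res, appM_resM]
      rw [e, appM_resM])
  let φ' : sectModEt G U →ₗ[fnA U] sectModEt (D.obj m) U := (appM (D.map α) U).comp φ
  have hC : Compat φ' hW w := by
    intro j x
    haveI := hW j
    have hx : x ∈ Submodule.span (fnA U) (T : Set (sectModEt G U)) := hT ▸ Submodule.mem_top
    induction hx using Submodule.span_induction with
    | mem z hz =>
      have h := hα (j, ⟨z, hz⟩)
      rw [map_sub, sub_eq_zero, appM_resM, appM_ext' φ (D.map α) φ' fun _ => rfl] at h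
      exact h
    | zero => rw [map_zero, map_zero, map_zero, map_zero]
    | add a b _ _ ha hb => rw [map_add, map_add, map_add, map_add, ha, hb]
    | smul r a _ ha => rw [map_smulₛₗ, map_smul, map_smul, map_smulₛₗ, ha]
  obtain ⟨d, hd⟩ := exists_hom_of_compat hqs hsurj φ' hcov hC
  refine ⟨m, d, sub_eq_zero.1 (eq_zero_of_chart hqs hsurj (B := c.pt) _ fun x => ?_)⟩
  show appM (N := c.pt) (d ≫ c.ι.app m) U x - appM ψ U x = 0
  rw [sub_eq_zero]
  refine (appM_comp _ _ U x).trans ((congrArg _ (hd x)).trans ?_)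
  exact (appM_w α U (φ x)).trans (hφ x)

include hqs hsurj hc in
theorem isColimit_coyoneda : Nonempty (IsColimit ((coyoneda.obj (op G)).mapCocone c)) := by
  refine ⟨Types.FilteredColimit.isColimitOf' _ _ (fun ψ => ?_) fun l ψ ψ' h => ?_⟩
  · obtain ⟨m, d, hd⟩ := exists_factor hqs hsurj hc ψ
    exact ⟨m, d, hd.symm⟩
  · let a : G ⟶ D.obj l := ψ
    let b : G ⟶ D.obj l := ψ'
    obtain ⟨m, α, hα⟩ := exists_eq_zero hqs hsurj hc (a - b) (by
      rw [Preadditive.sub_comp, sub_eq_zero]
      exact h)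
    refine ⟨m, α, ?_⟩
    rw [Preadditive.sub_comp, sub_eq_zero] at hα
    exact hα

end colim

end Groth.ModEtQCoh.HomColim
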