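import Groth.Agent.ModEtQCoh.Criterion
import Groth.Agent.ModEtQCoh.Coherent
import Groth.Agent.ModEtQCoh.Morphisms
import Mathlib.Algebra.Category.ModuleCat.Presheaf.Submodule

/-!
# Subsheaves given by submodules on affine objects
-/

set_option autoImplicit false
set_option backward.isDefEq.respectTransparency.types false
set_option linter.style.haveILetI false
universe u

open CategoryTheory CategoryTheory.Limits AlgebraicGeometry Opposite AlgSp TensorProduct

namespace Groth.ModEtQCoh.SubFromAffine

variable {S : Scheme.{u}} {X : Sp S} (M : ModEt X)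
  (N : ∀ (E : EtOver X), IsAffine E.obj.left.left → Submodule (fnA E) (sectModEt M E))

/-- Stability under restriction and locality. -/
structure IsLocalFamily : Prop where
  res : ∀ {E E' : EtOver X} (g : E' ⟶ E) (hE : IsAffine E.obj.left.left) (hE' : IsAffine E'.obj.left.left)
    (s : sectModEt M E), s ∈ N E hE → resM M g s ∈ N E' hE'
  loc : ∀ (E : EtOver X) (hE : IsAffine E.obj.left.left) (n : ℕ) (Y : Fin n → EtOver X) (g : ∀ i, Y i ⟶ E)
    (hY : ∀ i, IsAffine (Y i).obj.left.left), JointlySurj g → ∀ s : sectModEt M E,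
      (∀ i, resM M (g i) s ∈ N (Y i) (hY i)) → s ∈ N E hE

/-- Sections whose restrictions to all affine objects lie in the family. -/
noncomputable def subMod : M.val.Submodule where
  obj Z :=
    { carrier := {s | ∀ (W : EtOver X) (hW : IsAffine W.obj.left.left) (k : W ⟶ Z.unop),
        resM M k (show sectModEt M Z.unop from s) ∈ N W hW}
      add_mem' := fun {a b} ha hb W hW k => by
        show resM M k ((show sectModEt M Z.unop from a) + (show sectModEt M Z.unop from b)) ∈ N W hW
        rw [map_add]
        exact (N W hW).add_mem (ha W hW k) (hb W hW k)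
      zero_mem' := fun W hW k => by
        show resM M k (0 : sectModEt M Z.unop) ∈ N W hW
        rw [map_zero]
        exact (N W hW).zero_mem
      smul_mem' := fun c a ha W hW k => by
        show resM M k ((show fnA Z.unop from ULift.down c) • (show sectModEt M Z.unop from a)) ∈ N W hW
        rw [map_smulₛₗ]
        exact (N W hW).smul_mem _ (ha W hW k) }
  map {Z Z'} f := fun s hs W hW k => by
    show resM M k (resM M f.unop (show sectModEt M Z.unop from s)) ∈ N W hW
    rw [← resM_comp]
    exact hs W hW _

variable {M N} (hN : IsLocalFamily M N)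

include hN in
theorem mem_subMod_iff (E : EtOver X) (hE : IsAffine E.obj.left.left) (s : sectModEt M E) :
    (show M.val.obj (op E) from s) ∈ (subMod M N).obj (op E) ↔ s ∈ N E hE := by
  refine ⟨fun h => ?_, fun h W hW k => hN.res k hE hW s h⟩
  have := h E hE (𝟙 E)
  rwa [resM_id] at this

include hN in
theorem isSheaf_subMod : Presheaf.IsSheaf (etTop X) (subMod M N).toPresheafOfModules.presheaf := by
  rw [Presheaf.isSheaf_iff_isSheaf_forget (etTop X) _ (forget AddCommGrpCat.{u + 1}), isSheaf_iff_isSheaf_of_type]
  intro Z R hR x hx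
  let y : Presieve.FamilyOfElements (M.val.presheaf ⋙ forget AddCommGrpCat) R.arrows := fun W f hf => (x f hf).1
  have hy : y.Compatible := fun W₁ W₂ V g₁ g₂ f₁ f₂ h₁ h₂ hc => congrArg Subtype.val (hx g₁ g₂ h₁ h₂ hc)
  obtain ⟨t, ht, htu⟩ := (resM_isSheaf M) R hR y hy
  have hmem : (show M.val.obj (op Z) from t) ∈ (subMod M N).obj (op Z) := by
    intro W hW k
    obtain ⟨n, V, g, hV, hcov, hRg⟩ := exists_affine_cover ((etTop X).pullback_stable k hR)
    refine hN.loc W hW n V g hV hcov _ fun i => ?_
    rw [← resM_comp]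
    have h1 : resM M (g i ≫ k) (show sectModEt M Z from t) = (x (g i ≫ k) (hRg i)).1 := ht (g i ≫ k) (hRg i)
    rw [h1]
    exact (mem_subMod_iff hN (V i) (hV i) _).1 (x (g i ≫ k) (hRg i)).2
  exact ⟨⟨t, hmem⟩, fun W f hf => Subtype.ext (ht f hf),
    fun t' ht' => Subtype.ext (htu t'.1 fun W f hf => congrArg Subtype.val (ht' f hf))⟩

/-- The subsheaf. -/
noncomputable def sub : ModEt X := ⟨(subMod M N).toPresheafOfModules, isSheaf_subMod hN⟩

/-- Its inclusion. -/
noncomputable def subι : sub hN ⟶ M := ⟨(subMod M N).ι⟩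

instance mono_subι : Mono (subι hN) :=
  (SheafOfModules.forget _).mono_of_mono_map (inferInstanceAs (Mono (subMod M N).ι))

theorem range_subι (E : EtOver X) (hE : IsAffine E.obj.left.left) :
    Set.range ((subι hN).val.app (op E)).hom = (N E hE : Set (sectModEt M E)) := by
  ext s
  constructor
  · rintro ⟨t, rfl⟩
    exact (mem_subMod_iff hN E hE _).1 t.2
  · intro hs
    exact ⟨⟨s, (mem_subMod_iff hN E hE s).2 hs⟩, rfl⟩

theorem appM_subι_mem (E : EtOver X) (hE : IsAffine E.obj.left.left) (t : sectModEt (sub hN) E) :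
    appM (subι hN) E t ∈ N E hE :=
  (Set.ext_iff.1 (range_subι hN E hE) _).1 ⟨t, rfl⟩

theorem exists_appM_subι (E : EtOver X) (hE : IsAffine E.obj.left.left) {s : sectModEt M E} (hs : s ∈ N E hE) :
    ∃ t, appM (subι hN) E t = s :=
  (Set.ext_iff.1 (range_subι hN E hE) s).2 hs

/-- The inclusion of a member of the family, followed by restriction. -/
noncomputable def resFam {E E' : EtOver X} (hE : IsAffine E.obj.left.left) (g : E' ⟶ E) :
    N E hE →ₛₗ[resA g] sectModEt M E' where
  toFun s := resM M g s
  map_add' s t := map_add (resM M g) _ _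
  map_smul' a s := (resM M g).map_smulₛₗ a _

include hN in
/-- If members of the family on smaller objects come from base change, the subsheaf is quasi-coherent. -/
theorem isQuasicoherent_sub [M.IsQuasicoherent]
    (hbc : ∀ {E E' : EtOver X} (g : E' ⟶ E) (hE : IsAffine E.obj.left.left) (hE' : IsAffine E'.obj.left.left)
      (y : sectModEt M E'), y ∈ N E' hE' → ∃ z, bcLift (resFam (M := M) (N := N) hE g) z = y) :
    (sub hN).IsQuasicoherent := by
  refine isQuasicoherent_of_hasBC fun E E' hE hE' g => ?_
  let := (resA g).toAlgebra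
  have : Module.Flat (fnA E) (fnA E') := flat_resA g
  have key : ∀ z, bcLift (resM M g) (mapN (resA g) (appM (subι hN) E) z) =
      appM (subι hN) E' (bcLift (resM (sub hN) g) z) := fun z =>
    bcLift_mapN (resM (sub hN) g) (resM M g) (appM (subι hN) E) (appM (subι hN) E')
      (fun m => (appM_resM (subι hN) g m).symm) z
  refine ⟨fun z z' h => ?_, fun t => ?_⟩
  · have h1 : bcLift (resM M g) (mapN (resA g) (appM (subι hN) E) z) =
        bcLift (resM M g) (mapN (resA g) (appM (subι hN) E) z') := by rw [key, key, h]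
    exact Module.Flat.lTensor_preserves_injective_linearMap (M := fnA E') _
      (appM_injective_of_mono (subι hN) E) ((isBC_resM M g).1 h1)
  · obtain ⟨z, hz⟩ := hbc g hE hE' _ (appM_subι_mem hN E' hE' t)
    let σ : N E hE →ₗ[fnA E] sectModEt (sub hN) E :=
      { toFun := fun s => ⟨s.1, (mem_subMod_iff hN E hE s.1).2 s.2⟩
        map_add' := fun _ _ => rfl
        map_smul' := fun _ _ => rfl }
    refine ⟨mapN (resA g) σ z, appM_injective_of_mono (subι hN) E' ?_⟩
    have h1 := bcLift_mapN (resFam (M := M) (N := N) hE g) (resM M g) (N E hE).subtype LinearMap.id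
      (fun _ => rfl) z
    have h2 : mapN (resA g) (appM (subι hN) E) (mapN (resA g) σ z) = mapN (resA g) (N E hE).subtype z := by
      show LinearMap.lTensor _ (appM (subι hN) E) (LinearMap.lTensor _ σ z) = LinearMap.lTensor _ (N E hE).subtype z
      rw [← LinearMap.comp_apply, ← LinearMap.lTensor_comp]
      rfl
    rw [← key, h2, h1, ← hz]
    rfl

end Groth.ModEtQCoh.SubFromAffine
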