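import Groth.Agent.ModEtQCoh.LocProj
import Groth.Agent.ModEtQCoh.Coherent
import Groth.Agent.ModEtQCoh.Generators
import Groth.Agent.ModEtQCoh.Criterion
import Mathlib.RingTheory.Spectrum.Prime.FreeLocus
import Mathlib.Algebra.Category.ModuleCat.Sheaf.LocallyFree

/-!
# Locally free quasi-coherent modules and finite projective sections
-/

set_option autoImplicit false
set_option backward.isDefEq.respectTransparency.types false
set_option linter.style.haveILetI false
set_option maxHeartbeats 1600000
universe u

open CategoryTheory CategoryTheory.Limits AlgebraicGeometry Opposite AlgSp TensorProduct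

namespace Groth.ModEtQCoh.LocFree

noncomputable section

variable {S : Scheme.{u}} {X : Sp S} (M : ModEt X)

/-- Sections of a free module over an affine object. -/
theorem bijective_eFree {Y : EtOver X} (I : Type (u + 1)) (U : Over Y) [IsAffine U.left.obj.left.left] :
    Function.Bijective (eFree I U) := by
  have h := isBC_eFree I U U (𝟙 U)
  let e := TensorProduct.lid (fnA U.left) (I →₀ fnA U.left)
  letI := (resA (𝟙 U.left)).toAlgebra
  have key : ∀ n, bcLift (slO (freeO Y I) (eFree I U) (𝟙 U)) ((1 : fnA U.left) ⊗ₜ n) = eFree I U n := fun n => by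
    rw [bcLift_tmul, one_smul]
    show ((freeO Y I).val.map (𝟙 U).op).hom _ = _
    rw [op_id, PresheafOfModules.map_id]
    rfl
  have he : (eFree I U : _ → _) = bcLift (slO (freeO Y I) (eFree I U) (𝟙 U)) ∘ e.symm := funext fun n => by
    rw [Function.comp_apply, TensorProduct.lid_symm_apply]
    exact (key n).symm
  rw [he]
  exact Function.Bijective.comp h e.symm.bijective

/-- A module free over an object has free sections over affine objects below it. -/
theorem exists_linearEquiv_of_iso {Y : EtOver X} {I : Type (u + 1)} (π : freeO Y I ⟶ M.over Y) [IsIso π]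
    {Z : EtOver X} [IsAffine Z.obj.left.left] (a : Z ⟶ Y) :
    Nonempty ((I →₀ fnA Z) ≃ₗ[fnA Z] sectModEt M Z) := by
  let U : Over Y := Over.mk a
  haveI : IsAffine U.left.obj.left.left := ‹IsAffine Z.obj.left.left›
  have hb : Function.Bijective (appO π U) := by
    refine Function.bijective_iff_has_inverse.2 ⟨appO (inv π) U, fun s => ?_, fun s => ?_⟩
    · exact congrArg (fun f : freeO Y I ⟶ freeO Y I => appO f U s) (IsIso.hom_inv_id π)
    · exact congrArg (fun f : M.over Y ⟶ M.over Y => appO f U s) (IsIso.inv_hom_id π)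
  exact ⟨LinearEquiv.ofBijective ((appO π U).comp (eFree I U)) (hb.comp (bijective_eFree I U))⟩

variable [M.IsQuasicoherent]

/-- A finite basis of the sections over an affine object trivializes the module there. -/
theorem exists_free_generators (E : EtOver X) [IsAffine E.obj.left.left] {n : ℕ}
    (b : Module.Basis (ULift.{u + 1} (Fin n)) (fnA E) (sectModEt M E)) :
    ∃ G : (M.over E).GeneratingSections, IsIso G.π ∧ G.IsFiniteType := by
  let I := ULift.{u + 1} (Fin n)
  haveI : IsAffine (topO E).left.obj.left.left := ‹IsAffine E.obj.left.left›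
  obtain ⟨π, hπ, ρ, hρ⟩ := exists_epi_pair M (fun U _ => isBC_resM M (toTopO (E := E) U).left) (b : I → sectModEt M E)
    (fun s => ⟨b.repr s, b.linearCombination_repr s⟩) (PEmpty.elim.{u + 2, u + 2} : PEmpty.{u + 2} → (I →₀ fnA E))
    (by
      refine le_antisymm (fun x hx => ?_) (fun x hx => ?_)
      · obtain ⟨c, rfl⟩ := hx
        rw [Subsingleton.elim c 0, map_zero]
        exact zero_mem _
      · have : x = 0 := by
          rw [← b.repr_linearCombination x, LinearMap.mem_ker.1 hx, map_zero]
        rw [this]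
        exact zero_mem _)
  have hz : IsZero (kernel π) := by
    refine IsZero.of_epi_eq_zero ρ ?_
    refine hom_ext_gen fun U j => j.elim
  haveI : Mono π := Preadditive.mono_of_isZero_kernel π hz
  haveI : Epi π := hπ
  haveI : IsIso π := isIso_of_mono_of_epi π
  refine ⟨⟨I, (M.over E).freeHomEquiv π, by rw [Equiv.symm_apply_apply]; infer_instance⟩, ?_, { finite := (inferInstance : Finite I) }⟩
  show IsIso ((M.over E).freeHomEquiv.symm ((M.over E).freeHomEquiv π))
  rw [Equiv.symm_apply_apply]
  infer_instance

/-- Finite projective sections are free near every point. -/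
theorem exists_basis_stage (E : EtOver X) [IsAffine E.obj.left.left] [Module.Finite (fnA E) (sectModEt M E)]
    [Module.Projective (fnA E) (sectModEt M E)] (u₀ : E.obj.left.left) :
    ∃ (E' : EtOver X) (k : E' ⟶ E) (w : E'.obj.left.left) (n : ℕ),
      IsAffine E'.obj.left.left ∧ k.hom.left.left w = u₀ ∧
        Nonempty (Module.Basis (ULift.{u + 1} (Fin n)) (fnA E') (sectModEt M E')) := by
  classical
  haveI : Module.FinitePresentation (fnA E) (sectModEt M E) := Module.finitePresentation_of_projective _ _
  have hp : (primeAtPt E.obj.left.left u₀).IsPrime := by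
    unfold AlgSp.primeAtPt; infer_instance
  let p : PrimeSpectrum (fnA E) := ⟨primeAtPt E.obj.left.left u₀, hp⟩
  haveI : Module.Free (Localization.AtPrime p.asIdeal)
      (LocalizedModule p.asIdeal.primeCompl (sectModEt M E)) := by
    have hmem : p ∈ Module.freeLocus (fnA E) (sectModEt M E) := by
      rw [Module.freeLocus_eq_univ]; trivial
    exact hmem
  obtain ⟨r, hpr, hfree, -⟩ := Module.FinitePresentation.exists_free_localizedModule_powers
    p.asIdeal.primeCompl (LocalizedModule.mkLinearMap p.asIdeal.primeCompl (sectModEt M E))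
    (Localization.AtPrime p.asIdeal)
  let T := E.obj.left.left
  let W : T.Opens := T.basicOpen r
  have hW : IsAffineOpen W := (isAffineOpen_top T).basicOpen r
  have hu : u₀ ∈ W := by
    rw [Scheme.mem_basicOpen_top]
    by_contra h
    exact hpr h
  obtain ⟨E', k, hE', hunit, w, hw⟩ : ∃ (E' : EtOver X) (k : E' ⟶ E), IsAffine E'.obj.left.left ∧
      IsUnit (resA k r) ∧ ∃ w : E'.obj.left.left, k.hom.left.left w = u₀ := by
    let V : Over S := Over.mk (W.ι ≫ E.obj.left.hom)
    let i : V ⟶ E.obj.left := Over.homMk W.ι rfl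
    refine ⟨EtOver.mk ((yon S).map i ≫ E.obj.hom)
      (Groth.AlgSpBasic.repWith_comp ((repWith_yon_map_iff _ i).2 (inferInstance : Etale W.ι)) E.property),
      EtOver.homMk i rfl, hW, ?_, ⟨u₀, hu⟩, rfl⟩
    show IsUnit (W.ι.appTop r)
    rw [Scheme.Opens.ι_appTop]
    have hle : W.ι ''ᵁ ⊤ ≤ W := le_of_eq W.ι_image_top
    have h0 := (RingedSpace.isUnit_res_basicOpen T.toLocallyRingedSpace.toRingedSpace (U := ⊤) r).map
      (T.presheaf.map (homOfLE hle).op).hom
    change IsUnit ((T.presheaf.map (homOfLE (T.basicOpen_le r)).op ≫ T.presheaf.map (homOfLE hle).op).hom r) at h0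
    rw [← T.presheaf.map_comp] at h0
    exact h0
  haveI := hE'
  letI := (resA k).toAlgebra
  letI := Module.compHom (sectModEt M E') (resA k)
  haveI : IsScalarTower (fnA E) (fnA E') (sectModEt M E') := IsScalarTower.of_algebraMap_smul fun _ _ => rfl
  let res : sectModEt M E →ₗ[fnA E] sectModEt M E' :=
    { toFun := resM M k, map_add' := map_add _, map_smul' := (resM M k).map_smulₛₗ }
  let e := ((isBC_iff (resM M k) rfl res fun _ => rfl).1 (isBC_resM M k)).equiv
  let L := Localization.Away r
  letI : Algebra L (fnA E') := (IsLocalization.Away.lift r hunit).toAlgebra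
  haveI : IsScalarTower (fnA E) L (fnA E') := IsScalarTower.of_algebraMap_eq fun x =>
    (IsLocalization.Away.lift_eq r hunit x).symm
  let LM := LocalizedModule (Submonoid.powers r) (sectModEt M E)
  let eL : L ⊗[fnA E] sectModEt M E ≃ₗ[L] LM :=
    (IsLocalizedModule.isBaseChange (Submonoid.powers r) L (LocalizedModule.mkLinearMap (Submonoid.powers r) (sectModEt M E))).equiv
  let e' : fnA E' ⊗[L] LM ≃ₗ[fnA E'] sectModEt M E' :=
    ((LinearEquiv.baseChange L (fnA E') _ _ eL).symm.trans
      (TensorProduct.AlgebraTensorModule.cancelBaseChange (fnA E) L (fnA E') (fnA E') (sectModEt M E))).trans e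
  haveI : Module.Free (fnA E') (sectModEt M E') := Module.Free.of_equiv e'
  haveI : Module.Finite (fnA E') (sectModEt M E') := Module.Finite.equiv e
  let b := Module.Free.chooseBasis (fnA E') (sectModEt M E')
  exact ⟨E', k, w, _, inferInstance, hw, ⟨b.reindex ((Fintype.equivFin _).trans Equiv.ulift.symm)⟩⟩

/-- A quasi-coherent module with finite projective sections is finite locally free. -/
theorem exists_locallyFreeData (h : ∀ (E : EtOver X) [IsAffine E.obj.left.left],
    Module.Finite (fnA E) (sectModEt M E) ∧ Module.Projective (fnA E) (sectModEt M E)) :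
    ∃ q : SheafOfModules.LocalGeneratorsData.{u + 1} M, q.IsLocallyFreeData ∧ q.IsFiniteType := by
  classical
  let J := {p : EtOver X × ℕ // IsAffine p.1.obj.left.left ∧
    Nonempty (Module.Basis (ULift.{u + 1} (Fin p.2)) (fnA p.1) (sectModEt M p.1))}
  have hcov : (etTop X).CoversTop fun j : J => j.1.1 := by
    intro Z
    have hz : ∀ z : Z.obj.left.left, ∃ (j : J) (k : j.1.1 ⟶ Z), z ∈ Set.range k.hom.left.left := by
      intro z
      obtain ⟨W, k, w, hW, hk⟩ := exists_affine_chart_of_ofPt Z z
      haveI := (h W).1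
      haveI := (h W).2
      obtain ⟨E', k', w', n, hE', hw', hb⟩ := exists_basis_stage M W w
      exact ⟨⟨(E', n), hE', hb⟩, k' ≫ k, w', (show k.hom.left.left (k'.hom.left.left w') = z by rw [hw', hk])⟩
    choose j k hk using hz
    refine (etTop X).superset_covering ?_ (ofArrows_mem_etTop (fun z => (j z).1.1) k fun z => ?_)
    · rw [Sieve.ofArrows, Sieve.generate_le_iff]
      rintro T f ⟨z⟩
      exact ⟨j z, ⟨𝟙 _⟩⟩
    · exact ⟨z, hk z⟩
  choose G hG hGf using fun j : J =>
    haveI := j.2.1
    exists_free_generators M j.1.1 j.2.2.some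
  refine ⟨SheafOfModules.LocalGeneratorsData.mk (M := M) J (fun j => j.1.1) hcov G, ?_, ?_⟩
  · exact { isIso := hG }
  · exact { isFiniteType := hGf }

/-- A finite locally free quasi-coherent module has finite projective sections. -/
theorem finite_projective_of_data [∀ (E : EtOver X), Small.{u} (sectModEt M E)]
    (q : SheafOfModules.LocalGeneratorsData.{u + 1} M) (hq : q.IsLocallyFreeData) (hf : q.IsFiniteType)
    (E : EtOver X) [IsAffine E.obj.left.left] :
    Module.Finite (fnA E) (sectModEt M E) ∧ Module.Projective (fnA E) (sectModEt M E) := by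
  haveI : M.IsFiniteType := by
    constructor
    exact ⟨q, hf⟩
  refine ⟨finite_sectModEt M E, ?_⟩
  let ι := Σ (i : q.I), {Z : EtOver X // IsAffine Z.obj.left.left ∧ Nonempty (Z ⟶ q.X i)}
  refine (LocProj.small_projective_of_cover M (fun p : ι => p.2.1) (fun p => p.2.2.1) (fun p => ⟨inferInstance, ?_⟩) E
    fun x => ?_).2
  · haveI := p.2.2.1
    haveI := hq.isIso p.1
    obtain ⟨e⟩ := exists_linearEquiv_of_iso M (q.generators p.1).π p.2.2.2.some
    exact Module.Projective.of_equiv' e
  · obtain ⟨n, Z, a, hZ, hc, hY⟩ := exists_affine_cover (q.coversTop E)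
    obtain ⟨m, hx⟩ := hc x
    obtain ⟨y, hy⟩ := hx
    obtain ⟨i, hb⟩ := (Sieve.mem_ofObjects_iff _ _).1 (hY m)
    refine ⟨⟨i, Z m, hZ m, hb⟩, y, ?_⟩
    rw [← hy, ← EtOver.w (a m)]
    exact Groth.AlgSpBasic.ofPt_comp_yon _ _ _

end

end Groth.ModEtQCoh.LocFree
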