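import Groth.Agent.ModEtQCoh.FinPres
import Groth.Agent.ModEtQCoh.PullSections
import Groth.Agent.ModEtQCoh.EtaleRestrict
import Groth.Agent.Calg1.ProjDescent
import Mathlib.Algebra.Module.Projective

/-!
# Local projectivity of quasi-coherent modules on small etale sites
-/

set_option autoImplicit false
set_option backward.isDefEq.respectTransparency.types false
set_option linter.style.haveILetI false
universe u v

open CategoryTheory CategoryTheory.Limits AlgebraicGeometry Opposite AlgSp TensorProduct

namespace Groth.ModEtQCoh.LocProj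

section algebra

/-- A module over a finite product of rings with projective components is projective. -/
theorem projective_of_components {K : Type} [Finite K] {B : K → Type u} [∀ k, CommRing (B k)]
    {Q : K → Type v} [∀ k, AddCommGroup (Q k)] [∀ k, Module (B k) (Q k)] [∀ k, Module.Projective (B k) (Q k)]
    {W : Type v} [AddCommGroup W] [Module (∀ k, B k) W] (π : ∀ k, W →ₛₗ[Pi.evalRingHom B k] Q k)
    (hπ : Function.Bijective fun w k => π k w) : Module.Projective (∀ k, B k) W := by
  classical
  cases nonempty_fintype K
  choose s hs using fun k => Module.projective_def.1 (inferInstance : Module.Projective (B k) (Q k))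
  let e := Equiv.ofBijective _ hπ
  let ins : (Σ k, Q k) → W := fun p => e.symm (Pi.single p.1 p.2)
  have hins : ∀ (p : Σ k, Q k) j, π j (ins p) = (Pi.single p.1 p.2 : ∀ k, Q k) j := fun p j =>
    congrFun (e.apply_symm_apply _) j
  let sng : ∀ k, B k →+ ∀ j, B j := fun k => AddMonoidHom.single B k
  let out : W → ((Σ k, Q k) →₀ ∀ k, B k) := fun w =>
    ∑ k, Finsupp.mapDomain (Sigma.mk k) (Finsupp.mapRange (sng k) (map_zero _) (s k (π k w)))
  have hadd : ∀ w w', out (w + w') = out w + out w' := fun w w' => by
    simp only [out, map_add, ← Finset.sum_add_distrib]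
    refine Finset.sum_congr rfl fun k _ => ?_
    rw [Finsupp.mapRange_add (map_add (sng k)), Finsupp.mapDomain_add]
  have hsmul : ∀ (b : ∀ k, B k) w, out (b • w) = b • out w := fun b w => by
    simp only [out, Finset.smul_sum]
    refine Finset.sum_congr rfl fun k _ => ?_
    rw [(π k).map_smulₛₗ, map_smul, ← Finsupp.mapDomain_smul]
    congr 1
    ext x j
    simp only [Finsupp.mapRange_apply, Finsupp.smul_apply, sng, AddMonoidHom.single_apply, smul_eq_mul,
      Pi.mul_apply, Pi.evalRingHom_apply]
    rcases eq_or_ne j k with rfl | hj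
    · simp
    · simp [hj]
  let o : W →ₗ[∀ k, B k] ((Σ k, Q k) →₀ ∀ k, B k) := ⟨⟨out, hadd⟩, hsmul⟩
  refine Module.Projective.of_split o (Finsupp.linearCombination _ ins) (LinearMap.ext fun w => ?_)
  refine hπ.1 (funext fun j => ?_)
  show π j (Finsupp.linearCombination _ ins (out w)) = π j w
  rw [map_sum, map_sum]
  rw [Finset.sum_eq_single j]
  · rw [Finsupp.linearCombination_mapDomain, Finsupp.linearCombination_apply, map_finsuppSum,
      Finsupp.sum_mapRange_index (by simp)]
    conv_rhs => rw [← hs j (π j w), Finsupp.linearCombination_apply]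
    refine Finsupp.sum_congr fun x _ => ?_
    rw [(π j).map_smulₛₗ]
    simp [sng, hins]
  · intro k _ hk
    rw [Finsupp.linearCombination_mapDomain, Finsupp.linearCombination_apply, map_finsuppSum]
    refine Finset.sum_eq_zero fun x _ => ?_
    simp [hins, Pi.single_eq_of_ne' hk]
  · simp

/-- Projectivity descends along a finite flat covering family. -/
theorem projective_of_forall_tensor {A : Type u} [CommRing A] {K : Type} [Finite K] {B : K → Type u}
    [∀ k, CommRing (B k)] [∀ k, Algebra A (B k)] [∀ k, Module.Flat A (B k)]
    {P : Type (u + 1)} [AddCommGroup P] [Module A P] [Small.{u} P]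
    (hcov : ∀ m : Ideal A, m.IsMaximal →
      ∃ k, ∃ q : Ideal (B k), q.IsPrime ∧ q.comap (algebraMap A (B k)) = m)
    (h : ∀ k, Module.Projective (B k) (B k ⊗[A] P)) : Module.Projective A P := by
  classical
  cases nonempty_fintype K
  let P' := Shrink.{u} P
  let e : P' ≃ₗ[A] P := Shrink.linearEquiv A P
  haveI : ∀ k, Module.Projective (B k) (B k ⊗[A] P') := fun k =>
    Module.Projective.of_equiv' (LinearEquiv.baseChange A (B k) _ _ e).symm
  let S := ∀ k, B k
  haveI : Module.Flat A S := Module.Flat.of_linearEquiv
    (DFinsupp.linearEquivFunOnFintype (R := A) (M := B)).symm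
  haveI : Module.FaithfullyFlat A S := ⟨fun {m} hm htop => by
    obtain ⟨k, q, hq, hqm⟩ := hcov m hm
    have h1 : (1 : S) ∈ (q.comap (Pi.evalRingHom B k)) := by
      have : m • (⊤ : Submodule A S) ≤ (q.comap (Pi.evalRingHom B k)).restrictScalars A := by
        refine Submodule.smul_le.2 fun a ha s _ => ?_
        show (a • s) k ∈ q
        rw [Pi.smul_apply, Algebra.smul_def]
        exact q.mul_mem_right _ (by rw [← Ideal.mem_comap, hqm]; exact ha)
      exact this (by rw [htop]; trivial)
    exact hq.ne_top ((Ideal.eq_top_iff_one q).2 h1)⟩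
  let π : ∀ k, S ⊗[A] P' →ₛₗ[Pi.evalRingHom B k] B k ⊗[A] P' := fun k =>
    { toFun := LinearMap.rTensor P' (LinearMap.proj k : S →ₗ[A] B k)
      map_add' := map_add _
      map_smul' := fun s z => by
        induction z using TensorProduct.induction_on with
        | zero => rw [smul_zero, map_zero, smul_zero]
        | tmul b p =>
          rw [TensorProduct.smul_tmul', LinearMap.rTensor_tmul, LinearMap.rTensor_tmul, TensorProduct.smul_tmul']
          rfl
        | add x y hx hy => rw [smul_add, map_add, map_add, smul_add, hx, hy] }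
  have hb : Function.Bijective fun z k => π k z := by
    have : (fun z k => π k z) = (TensorProduct.piLeft A P' B) := by
      funext z
      induction z using TensorProduct.induction_on with
      | zero => funext k; simp
      | tmul b p => funext k; simp [π]
      | add x y hx hy => funext k; rw [map_add, map_add, Pi.add_apply, ← congrFun hx k, ← congrFun hy k]
    rw [this]
    exact LinearEquiv.bijective _
  haveI : Module.Projective S (S ⊗[A] P') := projective_of_components π hb
  haveI : Module.Projective A P' := Groth.Calg1.projective_descent (S := S) P'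
  exact Module.Projective.of_equiv' e

end algebra

section companion

variable {S : Scheme.{u}} {X : Sp S}

/-- An isomorphism of modules on sections. -/
noncomputable def isoEquiv {M N : ModEt X} (g : M ≅ N) (E : EtOver X) : sectModEt M E ≃ₗ[fnA E] sectModEt N E :=
  { appM g.hom E with
    invFun := appM g.inv E
    left_inv := fun s => congrArg (fun m => appM m E s) g.hom_inv_id
    right_inv := fun s => congrArg (fun m => appM m E s) g.inv_hom_id }

variable {V : Over S} {q : (yon S).obj V ⟶ X} (hrep : Representable q) (hq : RepWith @Etale q)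

/-- An open of an etale scheme over `X`, as an etale scheme over `X`. -/
noncomputable abbrev openObj (W : V.left.Opens) : EtOver X :=
  (postEt hq).obj ((EtOver.ofScheme V).obj (etaleOfOpen V.left W))

/-- The same open as an etale scheme over `V`. -/
noncomputable abbrev openObj₀ (W : V.left.Opens) : EtOver ((yon S).obj V) :=
  (EtOver.ofScheme V).obj (etaleOfOpen V.left W)

/-- The identification of functions. -/
noncomputable def fnEquiv (W : V.left.Opens) : fnA (openObj hq W) ≃+* Γ(V.left, W) :=
  W.topIso.commRingCatIsoToRingEquiv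

theorem topIso_inv_fnEquiv (W : V.left.Opens) (a : fnA (openObj hq W)) : W.topIso.inv (fnEquiv hq W a) = a :=
  (fnEquiv hq W).symm_apply_apply a

variable [(SheafOfModules.pushforward.{u + 1} (bcRingHom hrep)).IsRightAdjoint] {F : ModEt X}

set_option maxHeartbeats 1000000 in
/-- Sections of the restriction are sections of the inverse image. -/
noncomputable def pullSecEquiv (W : V.left.Opens) :
    sectModEt F (openObj hq W) ≃+ sectModEt ((pullModEt hrep).obj F) (openObj₀ W) :=
  (isoEquiv ((pullIsoRestrict hrep hq).app F).symm (openObj₀ W)).toAddEquiv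

set_option maxHeartbeats 1000000 in
theorem pullSecEquiv_smul (W : V.left.Opens) (a : fnA (openObj hq W)) (s : sectModEt F (openObj hq W)) :
    pullSecEquiv hrep hq W (a • s) = (show fnA (openObj₀ W) from a) • pullSecEquiv hrep hq W s :=
  (isoEquiv ((pullIsoRestrict hrep hq).app F).symm (openObj₀ W)).map_smul a s

variable {H : V.left.Modules} (c : ZarCompanion V.left H ((resSchModEt V).obj ((pullModEt hrep).obj F)))

/-- Sections of a companion. -/
noncomputable def compSecEquiv (W : V.left.Opens) :
    sectModEt ((pullModEt hrep).obj F) (openObj₀ W) ≃+ ULift.{u + 1} (H.val.obj (Opposite.op W) : Type u) :=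
  c.iso W

set_option maxHeartbeats 1000000 in
theorem compSecEquiv_smul (W : V.left.Opens) (b : Γ(V.left, W)) (m : sectModEt ((pullModEt hrep).obj F) (openObj₀ W)) :
    (compSecEquiv hrep c W ((show fnA (openObj₀ W) from W.topIso.inv b) • m)).down =
      b • (compSecEquiv hrep c W m).down :=
  congrArg ULift.down (c.map_smul W b m)

include c in
set_option maxHeartbeats 1000000 in
/-- Sections of a Zariski companion are sections over the open. -/
theorem projective_companion_iff (W : V.left.Opens) :
    Module.Projective (V.left.ringCatSheaf.obj.obj (Opposite.op W)) (H.val.obj (Opposite.op W)) ↔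
      Module.Projective (fnA (openObj hq W)) (sectModEt F (openObj hq W)) := by
  let σ : fnA (openObj hq W) →+* Γ(V.left, W) := (fnEquiv hq W).toRingHom
  let σ' : Γ(V.left, W) →+* fnA (openObj hq W) := (fnEquiv hq W).symm.toRingHom
  haveI : RingHomInvPair σ σ' :=
    ⟨RingHom.ext (fnEquiv hq W).symm_apply_apply, RingHom.ext (fnEquiv hq W).apply_symm_apply⟩
  haveI : RingHomInvPair σ' σ :=
    ⟨RingHom.ext (fnEquiv hq W).apply_symm_apply, RingHom.ext (fnEquiv hq W).symm_apply_apply⟩
  let ψ : sectModEt F (openObj hq W) ≃+ (H.val.obj (Opposite.op W) : Type u) :=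
    ((pullSecEquiv hrep hq W).trans (compSecEquiv hrep c W)).trans AddEquiv.ulift
  have hψ : ∀ (a : fnA (openObj hq W)) s, ψ (a • s) = fnEquiv hq W a • ψ s := fun a s => by
    have h1 := compSecEquiv_smul hrep c W (fnEquiv hq W a) (pullSecEquiv hrep hq W s)
    rw [topIso_inv_fnEquiv] at h1
    exact (congrArg (fun t => (compSecEquiv hrep c W t).down) (pullSecEquiv_smul hrep hq W a s)).trans h1
  let Ψ : sectModEt F (openObj hq W) ≃ₛₗ[σ]
      (H.val.obj (Opposite.op W) : Type u) := { ψ with map_smul' := hψ }
  exact ⟨fun h => @Module.Projective.of_equiv Γ(V.left, W) (fnA (openObj hq W)) _ _ (H.val.obj (Opposite.op W) : Type u) (sectModEt F (openObj hq W)) _ _ _ _ _ _ _ _ Ψ.symm h,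
    fun h => @Module.Projective.of_equiv (fnA (openObj hq W)) Γ(V.left, W) _ _ (sectModEt F (openObj hq W)) (H.val.obj (Opposite.op W) : Type u) _ _ _ _ _ _ _ _ Ψ h⟩

include c in
/-- Sections over opens of a scheme with a companion are small. -/
theorem small_openObj (W : V.left.Opens) : Small.{u} (sectModEt F (openObj hq W)) :=
  small_of_injective (f := fun s => (((pullSecEquiv hrep hq W).trans (compSecEquiv hrep c W)).trans AddEquiv.ulift) s)
    (AddEquiv.injective _)

end companion

section descent

variable {S : Scheme.{u}} {X : Sp S} (F : ModEt X) [F.IsQuasicoherent]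

/-- Small projective sections pull back along morphisms of affine objects. -/
theorem small_projective_of_hom {E E' : EtOver X} [IsAffine E.obj.left.left] [IsAffine E'.obj.left.left] (g : E' ⟶ E)
    [Small.{u} (sectModEt F E)] [Module.Projective (fnA E) (sectModEt F E)] :
    Small.{u} (sectModEt F E') ∧ Module.Projective (fnA E') (sectModEt F E') := by
  let := (resA g).toAlgebra
  let := Module.compHom (sectModEt F E') (resA g)
  have : IsScalarTower (fnA E) (fnA E') (sectModEt F E') := IsScalarTower.of_algebraMap_smul fun _ _ => rfl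
  let r : sectModEt F E →ₗ[fnA E] sectModEt F E' :=
    { toFun := resM F g, map_add' := map_add _, map_smul' := (resM F g).map_smulₛₗ }
  let e := ((isBC_iff (resM F g) rfl r fun _ => rfl).1 (isBC_resM F g)).equiv
  refine ⟨?_, Module.Projective.of_equiv' e⟩
  exact small_map ((LinearEquiv.baseChange (fnA E) (fnA E') _ _ (Shrink.linearEquiv (fnA E) (sectModEt F E))).trans e).symm.toEquiv

/-- Projectivity of sections descends from a covering family of affine objects. -/
theorem small_projective_of_cover {ι : Type*} (P : ι → EtOver X) (hP : ∀ i, IsAffine (P i).obj.left.left)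
    (h : ∀ i, Small.{u} (sectModEt F (P i)) ∧ Module.Projective (fnA (P i)) (sectModEt F (P i)))
    (E : EtOver X) [IsAffine E.obj.left.left]
    (hcov : ∀ x : E.obj.left.left, ∃ (i : ι) (y : (P i).obj.left.left),
      Points.ofPt (P i).obj.hom y = Points.ofPt E.obj.hom x) :
    Small.{u} (sectModEt F E) ∧ Module.Projective (fnA E) (sectModEt F E) := by
  choose i y hy using hcov
  choose W k k' w hW hk hk' using fun x => exists_common_chart E (P (i x)) x (y x) (hy x).symm
  obtain ⟨n, Y, g, hY, hcov, hR⟩ := exists_affine_cover
    (R := Sieve.generate (Presieve.ofArrows W k)) (ofArrows_mem_etTop W k fun x => ⟨x, w x, hk x⟩)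
  have hp : ∀ j, Small.{u} (sectModEt F (Y j)) ∧ Module.Projective (fnA (Y j)) (sectModEt F (Y j)) := by
    intro j
    obtain ⟨Z, a, b, ⟨x⟩, hab⟩ := hR j
    haveI := hP (i x); haveI := hY j
    haveI := (h (i x)).1; haveI := (h (i x)).2
    exact small_projective_of_hom F (a ≫ k' x)
  haveI : Small.{u} (sectModEt F E) := by
    haveI := fun j => (hp j).1
    exact small_of_injective (f := fun s j => equivShrink.{u} _ (resM F (g j) s))
      fun s t hst => resM_ext F hcov fun j => (equivShrink _).injective (congrFun hst j)
  refine ⟨inferInstance, ?_⟩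
  let : ∀ j, Algebra (fnA E) (fnA (Y j)) := fun j => (resA (g j)).toAlgebra
  have : ∀ j, Module.Flat (fnA E) (fnA (Y j)) := fun j => haveI := hY j; flat_resA (g j)
  refine projective_of_forall_tensor (B := fun j => fnA (Y j)) (fun m hm => exists_prime_over hcov m) fun j => ?_
  haveI := hY j
  let := Module.compHom (sectModEt F (Y j)) (resA (g j))
  have : IsScalarTower (fnA E) (fnA (Y j)) (sectModEt F (Y j)) := IsScalarTower.of_algebraMap_smul fun _ _ => rfl
  let r : sectModEt F E →ₗ[fnA E] sectModEt F (Y j) :=
    { toFun := resM F (g j), map_add' := map_add _, map_smul' := (resM F (g j)).map_smulₛₗ }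
  haveI := (hp j).2
  exact Module.Projective.of_equiv' ((isBC_iff (resM F (g j)) rfl r fun _ => rfl).1 (isBC_resM F (g j))).equiv.symm

end descent

end Groth.ModEtQCoh.LocProj
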