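import Groth.Agent.ModEtQCoh.PullSections

/-!
# Sections of an inverse image over affine objects over the base change of an affine object
-/

set_option autoImplicit false
set_option backward.isDefEq.respectTransparency.types false
set_option linter.style.haveILetI false
universe u

open CategoryTheory CategoryTheory.Limits AlgebraicGeometry Opposite AlgSp TensorProduct SheafOfModules

namespace Groth.ModEtQCoh

variable {S : Scheme.{u}} {X Y : Sp S} {f : X ⟶ Y} (hf : Representable f)
  [(SheafOfModules.pushforward.{u + 1} (bcRingHom hf)).IsRightAdjoint]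

/-- The unit followed by restriction. -/
noncomputable def pullUnitRes (G : ModEt Y) {E : EtOver Y} {W : EtOver X} (k : W ⟶ EtOver.bcObj hf E) :
    sectModEt G E →ₛₗ[(resA k).comp (EtOver.bcπ hf E).left.appTop.hom] sectModEt ((pullModEt hf).obj G) W where
  toFun s := resM _ k (pullUnitM hf G E s)
  map_add' s t := by rw [map_add, map_add]
  map_smul' a s := by
    rw [(pullUnitM hf G E).map_smulₛₗ, (resM ((pullModEt hf).obj G) k).map_smulₛₗ]
    rfl

omit [(SheafOfModules.pushforward.{u + 1} (bcRingHom hf)).IsRightAdjoint] in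
theorem resO_eFree {V : EtOver X} (I : Type (u + 1)) {U U' : Over V} (g : U' ⟶ U) (n : I →₀ fnA U.left) :
    resO (freeO V I) g (eFree I U n) = eFree I U' (Finsupp.mapRange (resA g.left) (map_zero _) n) := by
  rw [eFree, map_linearCombination_semilinear (resO (freeO V I) g) (gen I U) n,
    show (fun i => resO (freeO V I) g (gen I U i)) = gen I U' from funext fun i => resO_gen I U g i]
  rfl

/-- The unit followed by restriction, on slices. -/
noncomputable def pullUnitResO (G : ModEt Y) {E : EtOver Y} (U : Over E) {U' : Over ((EtOver.bc hf).obj E)}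
    (a : U' ⟶ (Over.post (EtOver.bc hf)).obj U) :
    SecO (G.over E) U →ₛₗ[(resA a.left).comp (postA hf U)] SecO (((pullModEt hf).obj G).over ((EtOver.bc hf).obj E)) U' where
  toFun s := pullUnitRes hf G a.left s
  map_add' := map_add (pullUnitRes hf G a.left)
  map_smul' b s := (pullUnitRes hf G a.left).map_smulₛₗ b s

omit [(SheafOfModules.pushforward.{u + 1} (bcRingHom hf)).IsRightAdjoint] in
theorem mapRange_comp_ringHom {A B C : Type u} [CommRing A] [CommRing B] [CommRing C] (g : A →+* B) (h : B →+* C)
    {I : Type (u + 1)} (n : I →₀ A) :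
    Finsupp.mapRange (h.comp g) (map_zero _) n = Finsupp.mapRange h (map_zero h) (Finsupp.mapRange g (map_zero g) n) :=
  Finsupp.ext fun i => by simp only [Finsupp.mapRange_apply, RingHom.comp_apply]

omit [(SheafOfModules.pushforward.{u + 1} (bcRingHom hf)).IsRightAdjoint] in
theorem appO_eFree_single {V : EtOver X} {I : Type (u + 1)} {K : ModOver V} (π : freeO V I ⟶ K) (U : Over V) (i : I) :
    (appO π U ∘ₗ eFree I U) (Finsupp.single i 1) = appO π U (gen I U i) := by
  rw [LinearMap.comp_apply, eFree, Finsupp.linearCombination_single, one_smul]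

omit [(SheafOfModules.pushforward.{u + 1} (bcRingHom hf)).IsRightAdjoint] in
theorem rel_res {V : EtOver X} {I J : Type (u + 1)} (r' : freeO V J ⟶ freeO V I) {U U' : Over V} (a : U' ⟶ U)
    (t : I →₀ fnA U.left) (j : J) (h : eFree I U t = appO r' U (gen J U j)) :
    eFree I U' (Finsupp.mapRange (resA a.left) (map_zero _) t) = appO r' U' (gen J U' j) := by
  rw [← resO_eFree, h, ← appO_resO, resO_gen]

omit [(SheafOfModules.pushforward.{u + 1} (bcRingHom hf)).IsRightAdjoint] in
theorem appO_gen_res {V : EtOver X} {N : ModEt X} {I : Type (u + 1)} (π : freeO V I ⟶ N.over V) {U U' : Over V}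
    (a : U' ⟶ U) (i : I) : resM N a.left (appO π U (gen I U i)) = appO π U' (gen I U' i) :=
  (appO_resO π a (gen I U i)).symm.trans (congrArg (appO π U') (resO_gen I U a i))

set_option maxHeartbeats 1000000 in
theorem isBC_pullUnitResO_of_presentation (G : ModEt Y) (E : EtOver Y) (p : (G.over E).Presentation)
    (U : Over E) [IsAffine U.left.obj.left.left] {U' : Over ((EtOver.bc hf).obj E)} [IsAffine U'.left.obj.left.left]
    (a : U' ⟶ (Over.post (EtOver.bc hf)).obj U) : IsBC (pullUnitResO hf G U a) := by
  obtain ⟨r', π, h0, ⟨hl⟩, hr, hπ⟩ := exists_cokernel_pullOver (bcRingHom hf) E G p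
  let Up := (Over.post (EtOver.bc hf)).obj U
  let I := p.generators.I
  let J := p.relations.I
  let r : freeO E J ⟶ freeO E I := (freeHomEquiv _).symm p.relations.s ≫ kernel.ι p.generators.π
  choose t ht using fun j =>
    surjective_of_isBC_id (eFree I U) (isBC_eFree I U U (𝟙 U)) (appO r U (gen J U j))
  obtain ⟨hs, hk⟩ := presentation_sections p.generators.π r _ p.isColimit U t ht
  let t₁ : J → I →₀ fnA Up.left := fun j => Finsupp.mapRange (postA hf U) (map_zero _) (t j)
  have ht₁ : ∀ j, eFree I Up (t₁ j) = appO r' Up (gen J Up j) := fun j => rel_transport hf r r' hr U (t j) j (ht j)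
  have ht' : ∀ j, eFree I U' (Finsupp.mapRange ((resA a.left).comp (postA hf U)) (map_zero _) (t j)) = appO r' U' (gen J U' j) := by
    intro j
    exact (congrArg (eFree I U') (mapRange_comp_ringHom (postA hf U) (resA a.left) (t j))).trans
      (rel_res r' a (t₁ j) j (ht₁ j))
  obtain ⟨hs', hk'⟩ := presentation_sections π r' h0 hl U' (fun j => Finsupp.mapRange ((resA a.left).comp (postA hf U)) (map_zero _) (t j)) ht'
  refine isBC_of_presentations (pullUnitResO hf G U a) (appO p.generators.π U ∘ₗ eFree I U)
    (appO π U' ∘ₗ eFree I U') hs hs' ?hcomp t ?ht0 ?hker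
  case hker => exact hk'.le
  case hcomp =>
    intro i
    refine Eq.trans ?_ (appO_eFree_single π U' i).symm
    refine (congrArg (pullUnitResO hf G U a) (appO_eFree_single p.generators.π U i)).trans ?_
    exact (congrArg (fun s => resM ((pullModEt hf).obj G) a.left s) (gen_transport hf G p.generators.π π hπ U i)).trans
      (appO_gen_res (N := (pullModEt hf).obj G) π a i)
  case ht0 => exact fun j => LinearMap.mem_ker.1 (hk.ge (Submodule.subset_span ⟨j, rfl⟩))

/-- Sections of an inverse image over an affine object over the base change of an affine object. -/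
theorem isBC_pullUnitRes (G : ModEt Y) [G.IsQuasicoherent] (E : EtOver Y) [IsAffine E.obj.left.left]
    {W : EtOver X} [IsAffine W.obj.left.left] (k : W ⟶ EtOver.bcObj hf E) : IsBC (pullUnitRes hf G k) := by
  obtain ⟨p⟩ := exists_presentation_of_hasBC (hasBC_of_isQuasicoherent G) E
  haveI : IsAffine (topO E).left.obj.left.left := ‹IsAffine E.obj.left.left›
  let Up := (Over.post (EtOver.bc hf)).obj (topO E)
  let U' : Over ((EtOver.bc hf).obj E) := Over.mk ((k : W ⟶ Up.left) ≫ Up.hom)
  haveI : IsAffine U'.left.obj.left.left := ‹IsAffine W.obj.left.left›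
  exact isBC_pullUnitResO_of_presentation hf G E p (topO E) (Over.homMk k rfl : U' ⟶ Up)

end Groth.ModEtQCoh
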