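import Groth.Agent.ModEtQCoh.LocProj
import Groth.Agent.QCohMod.Local
import Mathlib.Topology.Sheaves.SheafCondition.UniqueGluing

/-!
# Zariski restriction of a module with small sections
-/

set_option autoImplicit false
set_option backward.isDefEq.respectTransparency.types false
set_option linter.style.haveILetI false
universe u

open CategoryTheory CategoryTheory.Limits AlgebraicGeometry Opposite AlgSp TopologicalSpace TensorProduct
open Groth.ModEtQCoh.LocProj (openObj₀)

namespace Groth.ModEtQCoh.ZarShrink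

variable {S : Scheme.{u}} {V : Over S} (M : ModEt ((yon S).obj V))

/-- The inclusion of a smaller open. -/
noncomputable def incl {W W' : V.left.Opens} (h : W' ≤ W) : openObj₀ W' ⟶ openObj₀ W :=
  (EtOver.ofScheme V).map (etaleOfLE h)

theorem incl_comp {W W' W'' : V.left.Opens} (h : W' ≤ W) (h' : W'' ≤ W') :
    incl (h'.trans h) = incl h' ≫ incl h := by
  unfold incl
  rw [← Functor.map_comp]
  congr 1
  exact MorphismProperty.Over.Hom.ext (V.left.homOfLE_homOfLE h' h).symm

theorem incl_refl (W : V.left.Opens) : incl (le_refl W) = 𝟙 (openObj₀ W) := by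
  unfold incl
  refine (congrArg _ ?_).trans ((EtOver.ofScheme V).map_id _)
  exact MorphismProperty.Over.Hom.ext (V.left.homOfLE_rfl W)

theorem topIso_res {W W' : V.left.Opens} (h : W' ≤ W) (a : Γ(V.left, W)) :
    resA (incl h) (W.topIso.inv a) = W'.topIso.inv (V.left.presheaf.map (homOfLE h).op a) := by
  show (W.topIso.inv ≫ (V.left.homOfLE h).appTop) a = (V.left.presheaf.map (homOfLE h).op ≫ W'.topIso.inv) a
  refine congrArg (fun φ : Γ(V.left, W) ⟶ Γ(↑W', ⊤) => φ a) ?_
  rw [Scheme.homOfLE_appTop, Scheme.Opens.topIso_inv, Scheme.Opens.topIso_inv]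
  exact ((V.left.presheaf.map_comp _ _).symm.trans (congrArg V.left.presheaf.map (Subsingleton.elim _ _))).trans
    (V.left.presheaf.map_comp _ _)

/-- Sections over an open, as a module over its functions. -/
def SecZ (W : V.left.Opens) : Type (u + 1) := sectModEt M (openObj₀ W)

noncomputable instance (W : V.left.Opens) : AddCommGroup (SecZ M W) :=
  inferInstanceAs (AddCommGroup (sectModEt M (openObj₀ W)))

noncomputable instance (W : V.left.Opens) : Module Γ(V.left, W) (SecZ M W) :=
  letI : Module Γ(↑W, ⊤) (SecZ M W) := modA M (openObj₀ W)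
  Module.compHom _ W.topIso.inv.hom

/-- Restriction to a smaller open. -/
noncomputable def resZ {W W' : V.left.Opens} (h : W' ≤ W) :
    SecZ M W →ₛₗ[(V.left.presheaf.map (homOfLE h).op).hom] SecZ M W' where
  toFun s := resM M (incl h) s
  map_add' := map_add (resM M (incl h))
  map_smul' a s := by
    refine ((resM M (incl h)).map_smulₛₗ _ _).trans ?_
    exact congrArg (fun b : fnA (openObj₀ W') => b • resM M (incl h) s) (topIso_res h a)

variable [∀ W : V.left.Opens, Small.{u} (SecZ M W)]

/-- Unshrinking. -/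
noncomputable def shEquiv (W : V.left.Opens) : Shrink.{u} (SecZ M W) ≃ₗ[Γ(V.left, W)] SecZ M W :=
  Shrink.linearEquiv _ _

/-- Restriction of the small sections. -/
noncomputable def resS {W W' : V.left.Opens} (h : W' ≤ W) :
    Shrink.{u} (SecZ M W) →+ Shrink.{u} (SecZ M W') where
  toFun s := (shEquiv M W').symm (resZ M h (shEquiv M W s))
  map_zero' := by rw [map_zero, map_zero, map_zero]
  map_add' s t := by rw [map_add, map_add, map_add]

theorem resS_id (W : V.left.Opens) (s : Shrink.{u} (SecZ M W)) : resS M (le_refl W) s = s := by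
  show (shEquiv M W).symm (resM M (incl (le_refl W)) (shEquiv M W s)) = s
  rw [incl_refl, resM_id]
  exact (shEquiv M W).symm_apply_apply s

theorem resS_comp {W W' W'' : V.left.Opens} (h : W' ≤ W) (h' : W'' ≤ W') (s : Shrink.{u} (SecZ M W)) :
    resS M (h'.trans h) s = resS M h' (resS M h s) := by
  show (shEquiv M W'').symm (resM M (incl (h'.trans h)) (shEquiv M W s)) =
    (shEquiv M W'').symm (resM M (incl h') (shEquiv M W' ((shEquiv M W').symm (resM M (incl h) (shEquiv M W s)))))
  rw [LinearEquiv.apply_symm_apply, incl_comp h h', resM_comp]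

theorem shEquiv_resS {W W' : V.left.Opens} (h : W' ≤ W) (s : Shrink.{u} (SecZ M W)) :
    shEquiv M W' (resS M h s) = resZ M h (shEquiv M W s) :=
  (shEquiv M W').apply_symm_apply _

/-- The presheaf of small sections. -/
noncomputable def presheafS : TopCat.Presheaf AddCommGrpCat.{u} V.left.toTopCat where
  obj W := AddCommGrpCat.of (Shrink.{u} (SecZ M W.unop))
  map g := AddCommGrpCat.ofHom (resS M (leOfHom g.unop))
  map_id W := AddCommGrpCat.hom_ext (AddMonoidHom.ext fun s => resS_id M W.unop s)
  map_comp g g' := AddCommGrpCat.hom_ext (AddMonoidHom.ext fun s => resS_comp M (leOfHom g.unop) (leOfHom g'.unop) s)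

noncomputable instance (W : V.left.Opensᵒᵖ) :
    Module (V.left.ringCatSheaf.obj.obj W) ((presheafS M).obj W) :=
  inferInstanceAs (Module Γ(V.left, W.unop) (Shrink.{u} (SecZ M W.unop)))

theorem jointlySurj_incl {ι : Type*} {W : V.left.Opens} (U : ι → V.left.Opens) (h : ∀ i, U i ≤ W)
    (hW : W ≤ iSup U) : JointlySurj fun i => incl (h i) := by
  intro x
  obtain ⟨i, hi⟩ := Opens.mem_iSup.1 (hW x.2)
  exact ⟨i, (⟨x.1, hi⟩ : U i), Subtype.ext (Scheme.homOfLE_apply (h i) _)⟩

theorem exists_pullback_factor {W U U' : V.left.Opens} (h : U ≤ W) (h' : U' ≤ W) :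
    ∃ k : EtOver.pullbackObj (incl h) (incl h') ⟶ openObj₀ (U ⊓ U'),
      k ≫ incl inf_le_left = EtOver.pullbackFst (incl h) (incl h') ∧
        k ≫ incl inf_le_right = EtOver.pullbackSnd (incl h) (incl h') := by
  let P := EtOver.pullbackObj (incl h) (incl h')
  let p := (EtOver.pullbackFst (incl h) (incl h')).hom.left.left
  let p' := (EtOver.pullbackSnd (incl h) (incl h')).hom.left.left
  have hw : p ≫ U.ι = p' ≫ U'.ι := by
    have h1 : p ≫ V.left.homOfLE h = p' ≫ V.left.homOfLE h' :=
      congrArg (fun k => k.hom.left.left) (EtOver.pullback_condition (incl h) (incl h'))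
    rw [← cancel_mono (𝟙 V.left), ← V.left.homOfLE_ι h, ← V.left.homOfLE_ι h']
    exact congrArg (· ≫ 𝟙 V.left) ((Category.assoc _ _ _).symm.trans
      ((congrArg (· ≫ W.ι) h1).trans (Category.assoc _ _ _)))
  have hr : Set.range (p ≫ U.ι) ⊆ Set.range (U ⊓ U').ι := by
    rintro _ ⟨z, rfl⟩
    rw [Scheme.Opens.range_ι]
    refine ⟨(p z).2, ?_⟩
    have : (p ≫ U.ι) z = (p' z).1 := by rw [hw]; rfl
    rw [this]
    exact (p' z).2
  let k₀ := IsOpenImmersion.lift (U ⊓ U').ι (p ≫ U.ι) hr
  have hk₀ : k₀ ≫ (U ⊓ U').ι = p ≫ U.ι := IsOpenImmersion.lift_fac _ _ _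
  have hP : P.obj.left.hom = (p ≫ U.ι) ≫ V.hom := by
    rw [← Over.w (EtOver.pullbackFst (incl h) (incl h')).hom.left]
    exact (Category.assoc _ _ _).symm
  let k₁ : P.obj.left ⟶ (openObj₀ (U ⊓ U')).obj.left := Over.homMk k₀ (by
    show k₀ ≫ (U ⊓ U').ι ≫ V.hom = _
    rw [hP, ← Category.assoc, hk₀])
  have hk₁ : k₁ ≫ (incl (inf_le_left : U ⊓ U' ≤ U)).hom.left = (EtOver.pullbackFst (incl h) (incl h')).hom.left := by
    refine Over.OverMorphism.ext ?_
    show k₀ ≫ V.left.homOfLE (inf_le_left : U ⊓ U' ≤ U) = p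
    rw [← cancel_mono U.ι, Category.assoc, Scheme.homOfLE_ι, hk₀]
    rfl
  let k : P ⟶ openObj₀ (U ⊓ U') := EtOver.homMk k₁ (by
    rw [← EtOver.w (EtOver.pullbackFst (incl h) (incl h')), ← EtOver.w (incl (inf_le_left : U ⊓ U' ≤ U)),
      ← Category.assoc, ← Functor.map_comp, hk₁])
  refine ⟨k, EtOver.hom_ext _ _ hk₁, EtOver.hom_ext _ _ (Over.OverMorphism.ext ?_)⟩
  show k₀ ≫ V.left.homOfLE (inf_le_right : U ⊓ U' ≤ U') = p'
  rw [← cancel_mono U'.ι, Category.assoc, Scheme.homOfLE_ι, hk₀, hw]
  rfl

theorem isSheaf_presheafS : TopCat.Presheaf.IsSheaf (presheafS M) := by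
  rw [TopCat.Presheaf.isSheaf_iff_isSheafUniqueGluing]
  intro ι U sf hsf
  have hg : JointlySurj fun i => incl (le_iSup U i) := jointlySurj_incl U _ le_rfl
  obtain ⟨s, hs⟩ := exists_resM_eq M hg (fun i => shEquiv M (U i) (sf i)) fun i j => by
    obtain ⟨k, hk, hk'⟩ := exists_pullback_factor (le_iSup U i) (le_iSup U j)
    rw [← hk, ← hk', resM_comp, resM_comp]
    refine congrArg (resM M k) ?_
    have h1 := congrArg (shEquiv M (U i ⊓ U j)) (hsf i j)
    exact ((shEquiv_resS M inf_le_left (sf i)).symm.trans h1).trans (shEquiv_resS M inf_le_right (sf j))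
  refine ⟨(shEquiv M (iSup U)).symm s, fun i => ?_, fun t ht => ?_⟩
  · refine (shEquiv M (U i)).injective ?_
    refine (shEquiv_resS M (le_iSup U i) _).trans ?_
    rw [LinearEquiv.apply_symm_apply]
    exact hs i
  · refine (shEquiv M (iSup U)).injective ?_
    rw [LinearEquiv.apply_symm_apply]
    refine resM_ext M hg fun i => ?_
    rw [hs i, ← ht i]
    exact (shEquiv_resS M (le_iSup U i) t).symm

/-- The Zariski restriction with small values. -/
noncomputable def zarMod : V.left.Modules where
  val := PresheafOfModules.ofPresheaf (R := V.left.ringCatSheaf.obj) (presheafS M) fun X Y g a s => by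
    refine (shEquiv M Y.unop).injective ?_
    refine (shEquiv_resS M (leOfHom g.unop) _).trans ?_
    refine Eq.trans ?_ ((shEquiv M Y.unop).map_smul _ _).symm
    refine (congrArg (resZ M (leOfHom g.unop)) ((shEquiv M X.unop).map_smul a s)).trans ?_
    refine ((resZ M (leOfHom g.unop)).map_smulₛₗ _ _).trans ?_
    exact congrArg₂ (fun b t => b • t) rfl (shEquiv_resS M (leOfHom g.unop) s).symm
  isSheaf := isSheaf_presheafS M

/-- Its sections, with the actions of functions. -/
noncomputable def zarSecEquiv (W : V.left.Opens) :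
    ((zarMod M).val.obj (op W) : Type u) ≃ₗ[Γ(V.left, W)] SecZ M W :=
  shEquiv M W

/-- Localizations transport along isomorphisms of both rings. -/
theorem away_of_equiv {A B A' B' : Type u} [CommRing A] [CommRing B] [CommRing A'] [CommRing B'] [Algebra A B]
    [Algebra A' B'] (e : A ≃+* A') (e' : B ≃+* B') (h : ∀ a, algebraMap A' B' (e a) = e' (algebraMap A B a)) (f : A)
    [IsLocalization.Away f B] : IsLocalization.Away (e f) B' := by
  refine ⟨?_, fun b => ?_, fun {x y} hxy => ?_⟩
  · rintro ⟨_, n, rfl⟩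
    show IsUnit (algebraMap A' B' (e f ^ n))
    rw [← map_pow, h]
    exact (IsLocalization.map_units B (⟨f ^ n, n, rfl⟩ : Submonoid.powers f)).map e'
  · obtain ⟨⟨a, _, n, rfl⟩, ha⟩ := IsLocalization.surj (Submonoid.powers f) (e'.symm b)
    refine ⟨⟨e a, e f ^ n, n, rfl⟩, ?_⟩
    simp only at ha ⊢
    rw [← map_pow, h, h, ← ha, map_mul, e'.apply_symm_apply]
  · obtain ⟨a, rfl⟩ := e.surjective x
    obtain ⟨b, rfl⟩ := e.surjective y
    rw [h, h] at hxy
    obtain ⟨⟨_, n, rfl⟩, hc⟩ := IsLocalization.exists_of_eq (M := Submonoid.powers f) (e'.injective hxy)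
    refine ⟨⟨e f ^ n, n, rfl⟩, ?_⟩
    simp only at hc ⊢
    rw [← map_pow, ← map_mul, ← map_mul, hc]

omit [∀ W : V.left.Opens, Small.{u} (SecZ M W)] in
theorem topIso_inv_smul (W : V.left.Opens) (a : Γ(V.left, W)) (s : SecZ M W) :
    a • s = ((show fnA (openObj₀ W) from W.topIso.inv a) • (show sectModEt M (openObj₀ W) from s) :
      sectModEt M (openObj₀ W)) := rfl

set_option maxHeartbeats 1000000 in
/-- The Zariski restriction of a quasi-coherent module is quasi-coherent. -/
theorem isQCoh_zarMod [M.IsQuasicoherent] : Coh.IsQCoh (zarMod M) := by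
  have key : ∀ (U : V.left.Opens) (_ : IsAffineOpen U) (f : Γ(V.left, U)),
      (∀ s : SecZ M (V.left.basicOpen f), ∃ (n : ℕ) (t : SecZ M U),
        resZ M (V.left.basicOpen_le f) t = (V.left.presheaf.map (homOfLE (V.left.basicOpen_le f)).op).hom f ^ n • s) ∧
      (∀ t : SecZ M U, resZ M (V.left.basicOpen_le f) t = 0 → ∃ n : ℕ, f ^ n • t = 0) := by
    intro U hU f
    have hle := V.left.basicOpen_le f
    haveI : IsAffine (openObj₀ U).obj.left.left := hU
    haveI : IsAffine (openObj₀ (V.left.basicOpen f)).obj.left.left := hU.basicOpen f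
    let g := incl (V := V) hle
    let := (resA g).toAlgebra
    let := Module.compHom (sectModEt M (openObj₀ (V.left.basicOpen f))) (resA g)
    have : IsScalarTower (fnA (openObj₀ U)) (fnA (openObj₀ (V.left.basicOpen f)))
      (sectModEt M (openObj₀ (V.left.basicOpen f))) := IsScalarTower.of_algebraMap_smul fun _ _ => rfl
    let r : sectModEt M (openObj₀ U) →ₗ[fnA (openObj₀ U)] sectModEt M (openObj₀ (V.left.basicOpen f)) :=
      { toFun := resM M g, map_add' := map_add _, map_smul' := (resM M g).map_smulₛₗ }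
    let f' : fnA (openObj₀ U) := U.topIso.inv f
    haveI : IsLocalization.Away f' (fnA (openObj₀ (V.left.basicOpen f))) := by
      let e : Γ(V.left, U) ≃+* fnA (openObj₀ U) := U.topIso.commRingCatIsoToRingEquiv.symm
      let e' : Γ(V.left, V.left.basicOpen f) ≃+* fnA (openObj₀ (V.left.basicOpen f)) :=
        (V.left.basicOpen f).topIso.commRingCatIsoToRingEquiv.symm
      letI := (V.left.presheaf.map (homOfLE hle).op).hom.toAlgebra
      haveI : IsLocalization.Away f Γ(V.left, V.left.basicOpen f) := hU.isLocalization_basicOpen f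
      exact away_of_equiv e e' (fun a => topIso_res hle a) f
    haveI : IsLocalizedModule (Submonoid.powers f') r :=
      (isLocalizedModule_iff_isBaseChange _ (fnA (openObj₀ (V.left.basicOpen f))) r).2
        ((isBC_iff (resM M g) rfl r fun _ => rfl).1 (isBC_resM M g))
    refine ⟨fun s => ?_, fun t ht => ?_⟩
    · obtain ⟨⟨t, _, n, rfl⟩, ht⟩ := IsLocalizedModule.surj (Submonoid.powers f') r s
      refine ⟨n, t, ht.symm.trans ?_⟩
      rw [topIso_inv_smul, map_pow, ← topIso_res hle f]
      exact congrArg (fun b : fnA (openObj₀ (V.left.basicOpen f)) => b • (show sectModEt M (openObj₀ (V.left.basicOpen f)) from s)) (map_pow (resA g) f' n)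
    · obtain ⟨⟨_, n, rfl⟩, hn⟩ := IsLocalizedModule.exists_of_eq (S := Submonoid.powers f') (f := r)
        (show r t = r 0 from ht.trans (map_zero r).symm)
      refine ⟨n, ?_⟩
      rw [topIso_inv_smul, map_pow]
      exact hn.trans (smul_zero _)
  refine Groth.QCohMod.isQCoh_of_forall_affine (zarMod M) (fun U hU f s => ?_) (fun U hU f t ht => ?_)
  · obtain ⟨n, t, ht⟩ := (key U hU f).1 (zarSecEquiv M _ s)
    refine ⟨n, (zarSecEquiv M U).symm t, (zarSecEquiv M _).injective ?_⟩
    refine (shEquiv_resS M (V.left.basicOpen_le f) _).trans ?_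
    refine (congrArg (resZ M (V.left.basicOpen_le f)) ((zarSecEquiv M U).apply_symm_apply t)).trans ?_
    exact ht.trans ((zarSecEquiv M _).map_smul _ _).symm
  · have h1 : resZ M (V.left.basicOpen_le f) (zarSecEquiv M U t) = 0 :=
      (shEquiv_resS M (V.left.basicOpen_le f) t).symm.trans ((congrArg (shEquiv M _) ht).trans (map_zero _))
    obtain ⟨n, hn⟩ := (key U hU f).2 _ h1
    exact ⟨n, (zarSecEquiv M U).injective (((zarSecEquiv M U).map_smul _ _).trans (hn.trans (map_zero _).symm))⟩

/-- The Zariski restriction is a companion. -/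
noncomputable def zarCompanion : ZarCompanion V.left (zarMod M) ((resSchModEt V).obj M) where
  iso W := ((shEquiv M W).symm.toAddEquiv).trans AddEquiv.ulift.symm
  map_smul W a m := congrArg ULift.up ((shEquiv M W).symm.map_smul a m)
  map_res {W W'} h m := by
    refine congrArg ULift.up ?_
    show (shEquiv M W').symm (resZ M h m) = (shEquiv M W').symm (resZ M h (shEquiv M W ((shEquiv M W).symm m)))
    rw [LinearEquiv.apply_symm_apply]

omit [∀ W : V.left.Opens, Small.{u} (SecZ M W)] in
/-- Smallness on affine opens implies smallness on all opens. -/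
theorem small_secZ (h : ∀ W : V.left.Opens, IsAffineOpen W → Small.{u} (SecZ M W)) (W : V.left.Opens) :
    Small.{u} (SecZ M W) := by
  choose A hA hxA hAW using fun x : W => exists_isAffineOpen_mem_and_subset (X := V.left) (x := x.1) (U := W) x.2
  haveI := fun x => h (A x) (hA x)
  have hg : JointlySurj fun x => incl (V := V) (hAW x) := fun x =>
    ⟨x, (⟨x.1, hxA x⟩ : A x), Subtype.ext (Scheme.homOfLE_apply (X := V.left) (hAW x) _)⟩
  exact small_of_injective (f := fun s x => equivShrink.{u} _ (resZ M (hAW x) s))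
    fun s t hst => resM_ext M hg fun x => (equivShrink (SecZ M (A x))).injective (congrFun hst x)

end Groth.ModEtQCoh.ZarShrink
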