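import Groth.Agent.ModEtQCoh.LocProj
import Groth.Agent.ModEtQCoh.PullEt
import Groth.Agent.ModEtQCoh.PullSectionsRes
import Groth.Agent.ModEtQCoh.ZarShrink
import Groth.Agent.ModEtQCoh.PullExist

/-!
# Inverse images of locally projective modules
-/

set_option autoImplicit false
set_option backward.isDefEq.respectTransparency.types false
set_option linter.style.haveILetI false
universe u

open CategoryTheory CategoryTheory.Limits AlgebraicGeometry Opposite AlgSp TensorProduct
open Groth.ModEtQCoh.LocProj (openObj openObj₀)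

namespace Groth.ModEtQCoh.LocProjPull

/-- Base change keeps modules small and projective. -/
theorem small_projective_of_isBC {A B : Type u} [CommRing A] [CommRing B] {f : A →+* B} {N W : Type (u + 1)}
    [AddCommGroup N] [Module A N] [AddCommGroup W] [Module B W] (ψ : N →ₛₗ[f] W) (h : IsBC ψ)
    [Small.{u} N] [Module.Projective A N] : Small.{u} W ∧ Module.Projective B W := by
  let := f.toAlgebra
  let := Module.compHom W f
  have : IsScalarTower A B W := IsScalarTower.of_algebraMap_smul fun _ _ => rfl
  let r : N →ₗ[A] W := { toFun := ψ, map_add' := map_add _, map_smul' := ψ.map_smulₛₗ }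
  let e := ((isBC_iff ψ rfl r fun _ => rfl).1 h).equiv
  refine ⟨?_, Module.Projective.of_equiv' e⟩
  exact small_map ((LinearEquiv.baseChange A B _ _ (Shrink.linearEquiv A N)).trans e).symm.toEquiv

variable {S : Scheme.{u}} {X Y : Sp S} {f : X ⟶ Y}

set_option maxHeartbeats 1000000 in
/-- The companion-indexed projectivity hypothesis gives projective sections on affine objects. -/
theorem projective_of_companions (hY : IsAlgSpace Y) (G : ModEt Y) [G.IsQuasicoherent]
    (hsmall : ∀ E : EtOver Y, IsAffine E.obj.left.left → Small.{u} (sectModEt G E))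
    (hproj : ∀ {V : Over S} (q : (yon S).obj V ⟶ Y) (hrepq : Representable q)
      [(SheafOfModules.pushforward.{u + 1} (bcRingHom hrepq)).IsRightAdjoint]
      (H : V.left.Modules) [Coh.IsQCoh H]
      (c : ZarCompanion V.left H ((resSchModEt V).obj ((pullModEt hrepq).obj G)))
      (W : V.left.Opens), RepWith @Etale q → IsAffineOpen W →
        Module.Projective (V.left.ringCatSheaf.obj.obj (Opposite.op W)) (H.val.obj (Opposite.op W)))
    (E : EtOver Y) [IsAffine E.obj.left.left] : Module.Projective (fnA E) (sectModEt G E) := by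
  let V := E.obj.left
  let q := E.obj.hom
  have hq : RepWith @Etale q := E.property
  haveI := PullExist.isRightAdjoint_push hq.rep
  let M := (pullModEt hq.rep).obj G
  haveI : M.IsQuasicoherent := isQuasicoherent_pull hq.rep hY G
  haveI : ∀ W : V.left.Opens, Small.{u} (ZarShrink.SecZ M W) := by
    refine ZarShrink.small_secZ M fun W hW => ?_
    haveI : IsAffine (openObj hq W).obj.left.left := hW
    haveI := hsmall (openObj hq W) hW
    exact small_map (LocProj.pullSecEquiv (F := G) hq.rep hq W).symm.toEquiv
  haveI := ZarShrink.isQCoh_zarMod M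
  have h1 := (LocProj.projective_companion_iff hq.rep hq (ZarShrink.zarCompanion M) ⊤).1
    (hproj q hq.rep (ZarShrink.zarMod M) (ZarShrink.zarCompanion M) ⊤ hq (isAffineOpen_top V.left))
  haveI : IsAffine (openObj hq (⊤ : V.left.Opens)).obj.left.left := isAffineOpen_top V.left
  refine (LocProj.small_projective_of_cover G (fun _ : PUnit.{1} => openObj hq (⊤ : V.left.Opens))
    (fun _ => inferInstance) (fun _ => ⟨hsmall _ inferInstance, h1⟩) E fun x => ?_).2
  exact ⟨⟨⟩, (⟨x, trivial⟩ : (⊤ : V.left.Opens)), Groth.AlgSpBasic.ofPt_comp_yon _ _ _⟩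

set_option maxHeartbeats 1000000 in
/-- An inverse image has small projective sections if the module does. -/
theorem small_projective_pull (hY : IsAlgSpace Y) (hf : Representable f)
    [(SheafOfModules.pushforward.{u + 1} (bcRingHom hf)).IsRightAdjoint] (G : ModEt Y) [G.IsQuasicoherent]
    (h : ∀ E : EtOver Y, IsAffine E.obj.left.left →
      Small.{u} (sectModEt G E) ∧ Module.Projective (fnA E) (sectModEt G E))
    (W : EtOver X) [IsAffine W.obj.left.left] :
    Small.{u} (sectModEt ((pullModEt hf).obj G) W) ∧
      Module.Projective (fnA W) (sectModEt ((pullModEt hf).obj G) W) := by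
  haveI : ((pullModEt hf).obj G).IsQuasicoherent := isQuasicoherent_pull hf hY G
  have hx : ∀ w : W.obj.left.left, ∃ (E : EtOver Y) (v : (EtOver.bcObj hf E).obj.left.left),
      IsAffine E.obj.left.left ∧ Points.ofPt (EtOver.bcObj hf E).obj.hom v = Points.ofPt W.obj.hom w := by
    intro w
    obtain ⟨U, p, hp, hps⟩ := hY.atlas
    obtain ⟨u₀, hu₀⟩ := Groth.AlgSpBasic.surjective_ofPt_of_repWith hps (Points.map f (Points.ofPt W.obj.hom w))
    obtain ⟨E, k, u, hE, hku⟩ := exists_affine_chart_of_ofPt (EtOver.mk p hp) u₀
    have hxu : Points.map f (Points.ofPt W.obj.hom w) = Points.ofPt E.obj.hom u := by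
      rw [← EtOver.w k, Groth.AlgSpBasic.ofPt_comp_yon, hku]
      exact hu₀.symm
    obtain ⟨v, hv, -⟩ := (Groth.AlgSpBasic.map_eq_ofPt_iff (EtOver.isPullback_bcObj hf E) _ u).1 hxu
    exact ⟨E, v, hE, hv⟩
  choose E v hE hv using hx
  choose T k t hT hk using fun w => exists_affine_chart_of_ofPt (EtOver.bcObj hf (E w)) (v w)
  refine LocProj.small_projective_of_cover _ T hT (fun w => ?_) W fun x => ⟨x, t x, ?_⟩
  · haveI := hE w
    haveI := hT w
    haveI := (h (E w) (hE w)).1
    haveI := (h (E w) (hE w)).2
    exact small_projective_of_isBC (pullUnitRes hf G (k w)) (isBC_pullUnitRes hf G (E w) (k w))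
  · rw [← hv x, ← EtOver.w (k x), Groth.AlgSpBasic.ofPt_comp_yon, hk]

end Groth.ModEtQCoh.LocProjPull
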