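import Groth.Agent.ModEtQCoh.Sections

/-!
# A local criterion for sections over affine objects to be given by base change

If a map `φ : N → K(U)` induces locally injective and locally surjective maps `Γ(V) ⊗ N → K(V)` on
affine objects `V` over `U` then all of these maps are bijective.
-/

set_option autoImplicit false
set_option linter.style.haveILetI false
set_option backward.isDefEq.respectTransparency.types false
universe u

open CategoryTheory CategoryTheory.Limits AlgebraicGeometry Opposite AlgSp TensorProduct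

namespace Groth.ModEtQCoh

variable {S : Scheme.{u}} {X : Sp S} {Y : EtOver X} (K : ModOver Y) {U : Over Y}
  {N : Type (u + 1)} [AddCommGroup N] [Module (fnA U.left) N]

/-- The restriction of a map into the sections over `U`. -/
noncomputable abbrev slO (φ : N →ₗ[fnA U.left] SecO K U) {V : Over Y} (g : V ⟶ U) :
    N →ₛₗ[resA g.left] SecO K V := (resO K g).comp φ

variable (φ : N →ₗ[fnA U.left] SecO K U)

theorem resA_comp_apply {V W : Over Y} (h : W ⟶ V) (g : V ⟶ U) (a : fnA U.left) :
    resA h.left (resA g.left a) = resA (h ≫ g).left a := rfl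

theorem bcLift_slO_map {V W : Over Y} (h : W ⟶ V) (g : V ⟶ U) (k : W ⟶ U) (hk : h ≫ g = k)
    (hh : ∀ a, resA h.left (resA g.left a) = resA k.left a) (z : Tens (resA g.left) N) :
    bcLift (slO K φ k) (mapTens (resA g.left) (resA h.left) N (resA k.left) hh z) =
      resO K h (bcLift (slO K φ g) z) :=
  bcLift_mapTens _ hh _ _ (fun n => by subst hk; exact resO_comp K h g (φ n)) z

/-- Local injectivity of the induced maps. -/
def LocInj : Prop :=
  ∀ (V : Over Y) [IsAffine V.left.obj.left.left] (g : V ⟶ U) (z : Tens (resA g.left) N),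
    bcLift (slO K φ g) z = 0 →
      ∃ (n : ℕ) (W : Fin n → Over Y) (h : ∀ i, W i ⟶ V),
        (∀ i, IsAffine (W i).left.obj.left.left) ∧ JointlySurj (fun i => (h i).left) ∧
          ∀ i, mapTens (resA g.left) (resA (h i).left) N (resA (h i ≫ g).left) (resA_comp_apply (h i) g) z = 0

/-- Local surjectivity of the induced maps. -/
def LocSurj : Prop :=
  ∀ (V : Over Y) [IsAffine V.left.obj.left.left] (g : V ⟶ U) (s : SecO K V),
    ∃ (n : ℕ) (W : Fin n → Over Y) (h : ∀ i, W i ⟶ V),
      (∀ i, IsAffine (W i).left.obj.left.left) ∧ JointlySurj (fun i => (h i).left) ∧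
        ∀ i, ∃ z : Tens (resA (h i ≫ g).left) N, bcLift (slO K φ (h i ≫ g)) z = resO K (h i) s

variable {K φ}

theorem injective_of_locInj (hi : LocInj K φ) (V : Over Y) [IsAffine V.left.obj.left.left] (g : V ⟶ U) :
    Function.Injective (bcLift (slO K φ g)) := by
  rw [injective_iff_map_eq_zero]
  intro z hz
  obtain ⟨n, W, h, hW, hcov, hz0⟩ := hi V g z hz
  let := (resA g.left).toAlgebra
  let : ∀ i, Algebra (fnA U.left) (fnA (W i).left) := fun i => (resA (h i ≫ g).left).toAlgebra
  let : ∀ i, Algebra (fnA V.left) (fnA (W i).left) := fun i => (resA (h i).left).toAlgebra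
  have : ∀ i, IsScalarTower (fnA U.left) (fnA V.left) (fnA (W i).left) := fun i =>
    IsScalarTower.of_algebraMap_eq' rfl
  have : ∀ i, Module.Flat (fnA V.left) (fnA (W i).left) := fun i => flat_resA (h i).left
  exact eq_zero_of_forall_mapT (A := fnA U.left) (B := fnA V.left) (Bk := fun i => fnA (W i).left)
    (fun m hm => exists_prime_over hcov m) hz0

theorem compat_aux (hi : LocInj K φ) {V W₁ W₂ P : Over Y} [IsAffine P.left.obj.left.left]
    (g : V ⟶ U) (h₁ : W₁ ⟶ V) (h₂ : W₂ ⟶ V) (a : P ⟶ W₁) (b : P ⟶ W₂) (hab : b ≫ h₂ = a ≫ h₁)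
    (z₁ : Tens (resA (h₁ ≫ g).left) N) (z₂ : Tens (resA (h₂ ≫ g).left) N)
    (hz : resO K a (bcLift (slO K φ (h₁ ≫ g)) z₁) = resO K b (bcLift (slO K φ (h₂ ≫ g)) z₂)) :
    resA (a ≫ h₁).left = (resA b.left).comp (resA h₂.left) ∧
    ∃ h₁' h₂', mapTens (resA (h₁ ≫ g).left) (resA a.left) N (resA (a ≫ h₁ ≫ g).left) h₁' z₁ =
      mapTens (resA (h₂ ≫ g).left) (resA b.left) N (resA (a ≫ h₁ ≫ g).left) h₂' z₂ := by
  have hk : b ≫ h₂ ≫ g = a ≫ h₁ ≫ g := by rw [← Category.assoc, hab, Category.assoc]
  have e2 : resA (a ≫ h₁).left = (resA b.left).comp (resA h₂.left) := by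
    rw [← hab, Over.comp_left, resA_comp]
  have f₂ : ∀ x, resA b.left (resA (h₂ ≫ g).left x) = resA (a ≫ h₁ ≫ g).left x := fun x => by
    rw [← hk]; rfl
  have f₁ := resA_comp_apply a (h₁ ≫ g)
  refine ⟨e2, f₁, f₂, injective_of_locInj hi P (a ≫ h₁ ≫ g) ?_⟩
  exact ((bcLift_slO_map K φ a (h₁ ≫ g) (a ≫ h₁ ≫ g) rfl f₁ z₁).trans hz).trans
    (bcLift_slO_map K φ b (h₂ ≫ g) (a ≫ h₁ ≫ g) hk f₂ z₂).symm

theorem isBC_of_local (hi : LocInj K φ) (hs : LocSurj K φ) (V : Over Y) [IsAffine V.left.obj.left.left]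
    (g : V ⟶ U) : IsBC (slO K φ g) := by
  refine ⟨injective_of_locInj hi V g, fun s => ?_⟩
  obtain ⟨n, W, h, hW, hcov, hsur⟩ := hs V g s
  choose e he using hsur
  let := (resA g.left).toAlgebra
  let : ∀ i, Algebra (fnA U.left) (fnA (W i).left) := fun i => (resA (h i ≫ g).left).toAlgebra
  let : ∀ i, Algebra (fnA V.left) (fnA (W i).left) := fun i => (resA (h i).left).toAlgebra
  have : ∀ i, IsScalarTower (fnA U.left) (fnA V.left) (fnA (W i).left) := fun i =>
    IsScalarTower.of_algebraMap_eq' rfl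
  have : ∀ i, Module.Flat (fnA V.left) (fnA (W i).left) := fun i => flat_resA (h i).left
  obtain ⟨p, hp⟩ := exists_mapT_eq (A := fnA U.left) (B := fnA V.left) (Bk := fun i => fnA (W i).left)
    (fun m hm => exists_prime_over hcov m) e fun i j => by
    have wb : EtOver.pullbackSnd (h i).left (h j).left ≫ (W j).hom =
        EtOver.pullbackFst (h i).left (h j).left ≫ (W i).hom := by
      rw [← Over.w (h i), ← Over.w (h j), ← Category.assoc, ← Category.assoc, EtOver.pullback_condition]
    let P : Over Y := Over.mk (EtOver.pullbackFst (h i).left (h j).left ≫ (W i).hom)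
    let a : P ⟶ W i := Over.homMk (EtOver.pullbackFst (h i).left (h j).left) rfl
    let b : P ⟶ W j := Over.homMk (EtOver.pullbackSnd (h i).left (h j).left) wb
    have hab : b ≫ h j = a ≫ h i := Over.OverMorphism.ext (EtOver.pullback_condition (h i).left (h j).left).symm
    have : IsAffine P.left.obj.left.left := isAffine_pullbackObj (h i).left (h j).left
    obtain ⟨e2, f₁, f₂, heq⟩ := compat_aux hi g (h i) (h j) a b hab (e i) (e j)
      (by rw [he i, he j, ← resO_comp, ← resO_comp, hab])
    letI aC : Algebra (fnA U.left) (fnA P.left) := (resA (a ≫ h i ≫ g).left).toAlgebra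
    letI bC : Algebra (fnA V.left) (fnA P.left) := (resA (a ≫ h i).left).toAlgebra
    letI iC : Algebra (fnA (W i).left) (fnA P.left) := (resA a.left).toAlgebra
    letI jC : Algebra (fnA (W j).left) (fnA P.left) := (resA b.left).toAlgebra
    haveI t0 : IsScalarTower (fnA U.left) (fnA V.left) (fnA P.left) := IsScalarTower.of_algebraMap_eq' rfl
    haveI t1 : IsScalarTower (fnA V.left) (fnA (W i).left) (fnA P.left) := IsScalarTower.of_algebraMap_eq' rfl
    haveI t2 : IsScalarTower (fnA V.left) (fnA (W j).left) (fnA P.left) := IsScalarTower.of_algebraMap_eq' e2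
    haveI t3 : IsScalarTower (fnA U.left) (fnA (W i).left) (fnA P.left) :=
      IsScalarTower.of_algebraMap_eq fun x => (f₁ x).symm
    haveI t4 : IsScalarTower (fnA U.left) (fnA (W j).left) (fnA P.left) :=
      IsScalarTower.of_algebraMap_eq fun x => (f₂ x).symm
    exact ⟨fnA P.left, inferInstance, aC, bC, t0, iC, jC, t1, t2, t3, t4,
      CommRingCat.isPushout_iff_isPushout.1 (isPushout_resA (h i).left (h j).left), heq⟩
  refine ⟨p, resO_ext K hcov fun i => ?_⟩
  exact (bcLift_slO_map K φ (h i) g (h i ≫ g) rfl (resA_comp_apply (h i) g) p).symm.trans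
    ((congrArg _ (hp i)).trans (he i))

end Groth.ModEtQCoh
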