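import Mathlib.Algebra.Category.ModuleCat.Sheaf.Quasicoherent
import Mathlib.Algebra.Category.ModuleCat.Sheaf.PullbackContinuous
import Mathlib.Algebra.Category.ModuleCat.Sheaf.PullbackFree
import Mathlib.CategoryTheory.Limits.Final

/-!
# Pullback of a locally presented module, without inverse images on the localised sites
-/

set_option autoImplicit false
set_option backward.isDefEq.respectTransparency.types false
set_option backward.isDefEq.respectTransparency false
universe w v₁ v₂ u₁ u₂

open CategoryTheory CategoryTheory.Limits Opposite SheafOfModules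

namespace Groth.ModEtQCoh

variable {C : Type u₁} [Category.{v₁} C] [HasBinaryProducts C] {J : GrothendieckTopology C}
  {D : Type u₂} [Category.{v₂} D] [HasBinaryProducts D] {K : GrothendieckTopology D}
  {S : Sheaf J RingCat.{w}} {R : Sheaf K RingCat.{w}}
  {F : C ⥤ D} [F.IsContinuous J K]
  (φ : S ⟶ (F.sheafPushforwardContinuous RingCat.{w} J K).obj R)

/-- A functor preserving products commutes with products by a fixed object. -/
noncomputable def starPostIso (x : C) [∀ W : C, PreservesLimit (pair x W) F] :
    F ⋙ Over.star (F.obj x) ≅ Over.star x ⋙ Over.post F :=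
  NatIso.ofComponents
    (fun W => Over.isoMk (asIso (prodComparison F x W)).symm (by
      simp only [Functor.comp_obj]
      rw [show ((asIso (prodComparison F x W)).symm).hom = inv (prodComparison F x W) from rfl,
        IsIso.inv_comp_eq]
      simp
      exact congrArg F.map ((Over.star_obj_hom x W).trans (prod.lift_fst _ _))))
    (fun {W W'} h => by
      ext
      simp only [Functor.comp_map, Over.comp_left, Over.isoMk_hom_left, Over.post_map, Over.homMk_left,
        Over.star_map_left, Iso.symm_hom, asIso_inv]
      rw [IsIso.comp_inv_eq, Category.assoc, IsIso.eq_inv_comp, prodComparison_natural, CategoryTheory.Functor.map_id])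

variable (x : C) [(Over.post (X := x) F).IsContinuous (J.over x) (K.over (F.obj x))]

/-- The morphism of rings on the localised sites. -/
noncomputable abbrev postHom :
    S.over x ⟶ ((Over.post (X := x) F).sheafPushforwardContinuous RingCat.{w} (J.over x) (K.over (F.obj x))).obj
      (R.over (F.obj x)) :=
  ((Over.forget x).sheafPushforwardContinuous RingCat.{w} (J.over x) J).map φ

variable [∀ W : C, PreservesLimit (pair x W) F]

/-- Direct image commutes with extension from the localised sites. -/
noncomputable def pushStarIso :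
    pushforward.{w} (pushforwardOver (R := R) (F.obj x)) ⋙ pushforward.{w} φ ≅
      pushforward.{w} (postHom φ x) ⋙ pushforward.{w} (pushforwardOver (R := S) x) := by
  haveI : (F ⋙ Over.star (F.obj x)).IsContinuous J (K.over (F.obj x)) :=
    Functor.isContinuous_comp _ _ J K _
  haveI : (Over.star x ⋙ Over.post (X := x) F).IsContinuous J (K.over (F.obj x)) :=
    Functor.isContinuous_comp _ _ J (J.over x) _
  refine pushforwardComp _ _ ≪≫ ?_ ≪≫ (pushforwardComp _ _).symm
  refine pushforwardCongr₂ _ (starPostIso x).symm ?_
  ext U : 3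
  have h := φ.hom.naturality (Limits.prod.snd : x ⨯ U.unop ⟶ U.unop).op
  dsimp [pushforwardOver, postHom, starPostIso] at h ⊢
  refine Eq.trans ?_ h.symm
  show (φ.hom.app U ≫ R.obj.map (prod.snd : F.obj x ⨯ F.obj U.unop ⟶ F.obj U.unop).op) ≫
      R.obj.map (prodComparison F x U.unop).op = φ.hom.app U ≫ R.obj.map (F.map prod.snd).op
  rw [Category.assoc, ← Functor.map_comp, ← op_comp, prodComparison_snd]

variable [(pushforward.{w} φ).IsRightAdjoint]

/-- Morphisms out of the restriction of an inverse image. -/
noncomputable def overHomEquiv (M : SheafOfModules.{w} S) (N : SheafOfModules.{w} (R.over (F.obj x))) :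
    (((SheafOfModules.pullback φ).obj M).over (F.obj x) ⟶ N) ≃ (M.over x ⟶ (pushforward (postHom φ x)).obj N) :=
  ((overPushforwardOverAdj (R := R) (F.obj x)).homEquiv ((SheafOfModules.pullback φ).obj M) N).trans
    (((pullbackPushforwardAdjunction φ).homEquiv M _).trans
      (((pushStarIso φ x).app N).homToEquiv.trans
        ((overPushforwardOverAdj (R := S) x).homEquiv M _).symm))

theorem overHomEquiv_comp (M : SheafOfModules.{w} S) {N N' : SheafOfModules.{w} (R.over (F.obj x))}
    (a : ((SheafOfModules.pullback φ).obj M).over (F.obj x) ⟶ N) (g : N ⟶ N') :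
    overHomEquiv φ x M N' (a ≫ g) = overHomEquiv φ x M N a ≫ (pushforward (postHom φ x)).map g := by
  unfold overHomEquiv
  simp only [Equiv.trans_apply]
  have h1 := (overPushforwardOverAdj (R := R) (F.obj x)).homEquiv_naturality_right a g
  refine (congrArg (fun t => ((overPushforwardOverAdj (R := S) x).homEquiv M _).symm
    (((pushStarIso φ x).app N').homToEquiv (((pullbackPushforwardAdjunction φ).homEquiv M _) t))) h1).trans ?_
  rw [(pullbackPushforwardAdjunction φ).homEquiv_naturality_right]
  refine Eq.trans (congrArg _ ?_) ((overPushforwardOverAdj (R := S) x).homEquiv_naturality_right_symm _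
    ((pushforward (postHom φ x)).map g))
  simp only [Iso.homToEquiv_apply, Iso.app_hom]
  refine Eq.trans (Category.assoc _ _ _) (Eq.trans ?_ (Category.assoc _ _ _).symm)
  exact whisker_eq _ ((pushStarIso φ x).hom.naturality g)

variable [∀ X, HasSheafify (J.over X) AddCommGrpCat.{w}] [∀ X, (J.over X).WEqualsLocallyBijective AddCommGrpCat.{w}]
  [∀ X, HasSheafify (K.over X) AddCommGrpCat.{w}] [∀ X, (K.over X).WEqualsLocallyBijective AddCommGrpCat.{w}]
  [(Over.post (X := x) F).Final]

/-- Morphisms out of free modules. -/
noncomputable def freeEquiv (I : Type w) (N : SheafOfModules.{w} (R.over (F.obj x))) :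
    (free I ⟶ N) ≃ (free I ⟶ (pushforward (postHom φ x)).obj N) :=
  N.freeHomEquiv.trans ((Equiv.piCongrRight fun _ =>
    Equiv.ofBijective _ (bijective_pushforwardSections (postHom φ x) N)).trans
      ((pushforward (postHom φ x)).obj N).freeHomEquiv.symm)

omit [∀ W : C, PreservesLimit (pair x W) F] [(pushforward.{w} φ).IsRightAdjoint] in
theorem freeEquiv_comp {I : Type w} {N N' : SheafOfModules.{w} (R.over (F.obj x))} (a : free I ⟶ N) (g : N ⟶ N') :
    freeEquiv φ x I N' (a ≫ g) = freeEquiv φ x I N a ≫ (pushforward (postHom φ x)).map g := by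
  refine ((pushforward (postHom φ x)).obj N').freeHomEquiv.injective (funext fun i => ?_)
  simp only [freeEquiv, Equiv.trans_apply, Equiv.apply_symm_apply, freeHomEquiv_comp_apply]
  rfl

omit [∀ W : C, PreservesLimit (pair x W) F] [(pushforward.{w} φ).IsRightAdjoint] in
/-- The morphism attached to a morphism of free modules, on basic sections. -/
theorem freeEquiv_app {I : Type w} {N : SheafOfModules.{w} (R.over (F.obj x))} (a : free I ⟶ N) (U : Over x) (i : I) :
    (freeEquiv φ x I N a).val.app (op U) ((freeSection (R := S.over x) i).1 (op U)) =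
      a.val.app (op ((Over.post F).obj U)) ((freeSection (R := R.over (F.obj x)) i).1 (op ((Over.post F).obj U))) := by
  have h := congrArg (fun σ => (σ i).1 (op U))
    (((pushforward (postHom φ x)).obj N).freeHomEquiv.apply_symm_apply
      ((Equiv.piCongrRight fun _ => Equiv.ofBijective _ (bijective_pushforwardSections (postHom φ x) N))
        (N.freeHomEquiv a)))
  exact h

/-- The restriction of the identity is the unit. -/
theorem overHomEquiv_id_app (M : SheafOfModules.{w} S) (U : Over x) (s : (M.over x).val.obj (op U)) :
    (overHomEquiv φ x M _ (𝟙 (((SheafOfModules.pullback φ).obj M).over (F.obj x)))).val.app (op U) s =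
      ((pullbackPushforwardAdjunction φ).unit.app M).val.app (op U.left) s := by
  let Q := (SheafOfModules.pullback φ).obj M
  let y : Q.val.obj (op (F.obj U.left)) := ((pullbackPushforwardAdjunction φ).unit.app M).val.app (op U.left) s
  show Q.val.map (((Over.post F).map ((Over.forgetAdjStar x).unit.app U)).left).op
    (Q.val.map ((starPostIso x).symm.hom.app U.left).left.op
      (Q.val.map ((Over.forgetAdjStar (F.obj x)).counit.app (F.obj U.left)).op y)) = y
  show Q.val.presheaf.map (F.map ((Over.forgetAdjStar x).unit.app U).left).op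
    (Q.val.presheaf.map (prodComparison F x U.left).op
      (Q.val.presheaf.map ((Over.forgetAdjStar (F.obj x)).counit.app (F.obj U.left)).op y)) = y
  rw [Over.forgetAdjStar_unit_app_left, Over.forgetAdjStar_counit_app]
  have h : Q.val.presheaf.map (prod.snd : F.obj x ⨯ F.obj U.left ⟶ F.obj U.left).op ≫
      Q.val.presheaf.map (prodComparison F x U.left).op ≫
      Q.val.presheaf.map (F.map (prod.lift U.hom (𝟙 U.left))).op = 𝟙 _ := by
    rw [← Functor.map_comp, ← Functor.map_comp, ← op_comp, ← op_comp, Category.assoc, prodComparison_snd,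
      ← Functor.map_comp, prod.lift_snd, CategoryTheory.Functor.map_id, op_id, CategoryTheory.Functor.map_id]
  exact ConcreteCategory.congr_hom h y

/-- The inverse image of a module presented on `x` as a cokernel of free modules on `F x`. -/
theorem exists_cokernel_pullOver (M : SheafOfModules.{w} S) (p : (M.over x).Presentation) :
    ∃ (r' : free p.relations.I ⟶ (free p.generators.I : SheafOfModules.{w} (R.over (F.obj x))))
      (π : (free p.generators.I : SheafOfModules.{w} (R.over (F.obj x))) ⟶
        ((SheafOfModules.pullback φ).obj M).over (F.obj x)) (h0 : r' ≫ π = 0),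
      Nonempty (IsColimit (CokernelCofork.ofπ π h0)) ∧
        freeEquiv φ x _ _ r' = ((freeHomEquiv _).symm p.relations.s ≫ kernel.ι p.generators.π) ≫
          freeEquiv φ x _ _ (𝟙 _) ∧
        freeEquiv φ x _ _ π = p.generators.π ≫ overHomEquiv φ x M _ (𝟙 _) := by
  let L := pushforward.{w} (postHom φ x)
  haveI : (pushforward.{w} (postHom φ x)).Additive := { }
  let r := (freeHomEquiv _).symm p.relations.s ≫ kernel.ι p.generators.π
  have hr : r ≫ p.generators.π = 0 := by simp [r]
  let k := fun (I : Type w) N => freeEquiv φ x I N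
  let e := overHomEquiv φ x M
  let r' : free p.relations.I ⟶ (free p.generators.I : SheafOfModules.{w} (R.over (F.obj x))) :=
    (k _ _).symm (r ≫ k _ _ (𝟙 _))
  let π : (free p.generators.I : SheafOfModules.{w} (R.over (F.obj x))) ⟶ ((SheafOfModules.pullback φ).obj M).over (F.obj x) :=
    (k _ _).symm (p.generators.π ≫ e _ (𝟙 _))
  have hk : ∀ {N} (b : free p.generators.I ⟶ N), k _ _ (r' ≫ b) = r ≫ k _ _ b := by
    intro N b
    rw [show k _ _ (r' ≫ b) = k _ _ r' ≫ L.map b from freeEquiv_comp φ x r' b, Equiv.apply_symm_apply,
      Category.assoc, ← show k _ _ (𝟙 _ ≫ b) = k _ _ (𝟙 _) ≫ L.map b from freeEquiv_comp φ x _ b, Category.id_comp]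
  have hπ : ∀ {N} (h : ((SheafOfModules.pullback φ).obj M).over (F.obj x) ⟶ N), k _ _ (π ≫ h) = p.generators.π ≫ e _ h := by
    intro N h
    rw [show k _ _ (π ≫ h) = k _ _ π ≫ L.map h from freeEquiv_comp φ x π h, Equiv.apply_symm_apply,
      Category.assoc, ← show e _ (𝟙 _ ≫ h) = e _ (𝟙 _) ≫ L.map h from overHomEquiv_comp φ x M _ h, Category.id_comp]
  have h0 : r' ≫ π = 0 := by
    refine (k _ _).injective ?_
    have z : ∀ {I : Type w} {N}, k I N 0 = 0 := by
      intro I N
      have := freeEquiv_comp φ x (0 : free I ⟶ N) (0 : N ⟶ N)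
      rw [comp_zero, Functor.map_zero, comp_zero] at this
      exact this
    rw [z, hk, ← Category.comp_id π, hπ, ← Category.assoc, hr, zero_comp]
  have z : ∀ {I : Type w} {N}, k I N 0 = 0 := by
    intro I N
    have := freeEquiv_comp φ x (0 : free I ⟶ N) (0 : N ⟶ N)
    rw [comp_zero, Functor.map_zero, comp_zero] at this
    exact this
  refine ⟨r', π, h0, ⟨CokernelCofork.IsColimit.ofπ π h0
    (fun b hb => (e _).symm (p.isColimit.desc (CokernelCofork.ofπ (k _ _ b) (by rw [← hk b, hb, z]))))
    (fun b hb => (k _ _).injective ?_) (fun b hb h hh => ?_)⟩, Equiv.apply_symm_apply _ _, Equiv.apply_symm_apply _ _⟩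
  · rw [hπ, Equiv.apply_symm_apply]
    exact Cofork.IsColimit.π_desc p.isColimit
  · refine (e _).injective (Cofork.IsColimit.hom_ext p.isColimit ?_)
    rw [Equiv.apply_symm_apply]
    erw [Cofork.IsColimit.π_desc]
    show p.generators.π ≫ e _ h = k _ _ b
    rw [← hπ, hh]

/-- The inverse image of a module presented on `x` is presented on `F x`. -/
noncomputable def presentationPullOver (M : SheafOfModules.{w} S) (p : (M.over x).Presentation) :
    (((SheafOfModules.pullback φ).obj M).over (F.obj x)).Presentation :=
  presentationOfIsCokernelFree _ _ (exists_cokernel_pullOver φ x M p).choose_spec.choose_spec.choose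
    (exists_cokernel_pullOver φ x M p).choose_spec.choose_spec.choose_spec.1.some

end Groth.ModEtQCoh
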