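import Groth.Agent.ModEtQCoh.PullSections
import Groth.Agent.ModEtQCoh.Push

/-!
# Weakly associated points of inverse images along finite flat morphisms
-/

set_option autoImplicit false
set_option backward.isDefEq.respectTransparency.types false
set_option linter.style.haveILetI false
universe u

open CategoryTheory CategoryTheory.Limits AlgebraicGeometry Opposite AlgSp TensorProduct

namespace Groth.ModEtQCoh

variable {S : Scheme.{u}} {X Y : Sp S} {f : X ⟶ Y} (hf : Representable f)
  [(SheafOfModules.pushforward.{u + 1} (bcRingHom hf)).IsRightAdjoint]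

theorem isWeakAssOn_pull_iff (hfin : RepWith @IsFinite f) (hflat : RepWith @Flat f) (G : ModEt Y)
    [G.IsQuasicoherent] (E : EtOver Y) [IsAffine E.obj.left.left] [IsAffine (EtOver.bcObj hf E).obj.left.left]
    (v : (EtOver.bcObj hf E).obj.left.left) :
    IsWeakAssOn ((pullModEt hf).obj G) (EtOver.bcObj hf E) v ↔ IsWeakAssOn G E ((EtOver.bcπ hf E).left v) := by
  rw [isWeakAssOn_iff, isWeakAssOn_iff]
  let φ : fnA E →+* fnA (EtOver.bcObj hf E) := (EtOver.bcπ hf E).left.appTop.hom
  let P := sectModEt ((pullModEt hf).obj G) (EtOver.bcObj hf E)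
  haveI : IsFinite (EtOver.bcπ hf E).left :=
    hfin.property E.obj.hom (EtOver.bcObj hf E).obj.hom (EtOver.bcπ hf E) (EtOver.isPullback_bcObj hf E)
  haveI : Flat (EtOver.bcπ hf E).left :=
    hflat.property E.obj.hom (EtOver.bcObj hf E).obj.hom (EtOver.bcπ hf E) (EtOver.isPullback_bcObj hf E)
  letI : Algebra (fnA E) (fnA (EtOver.bcObj hf E)) := φ.toAlgebra
  letI : Module (fnA E) P := Module.compHom P φ
  haveI : IsScalarTower (fnA E) (fnA (EtOver.bcObj hf E)) P := IsScalarTower.of_algebraMap_smul fun _ _ => rfl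
  haveI : Module.Finite (fnA E) (fnA (EtOver.bcObj hf E)) :=
    IsFinite.finite_app (EtOver.bcπ hf E).left ⊤ (isAffineOpen_top _)
  haveI : Module.Flat (fnA E) (fnA (EtOver.bcObj hf E)) :=
    HasRingHomProperty.appTop @Flat (EtOver.bcπ hf E).left inferInstance
  haveI : (primeAtPt (EtOver.bcObj hf E).obj.left.left v).LiesOver
      (primeAtPt E.obj.left.left ((EtOver.bcπ hf E).left v)) :=
    ⟨(comap_primeAtPt_scheme (EtOver.bcπ hf E).left v).symm⟩
  let r : sectModEt G E →ₗ[fnA E] P :=
    { toFun := pullUnitM hf G E, map_add' := map_add _, map_smul' := (pullUnitM hf G E).map_smulₛₗ }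
  have hr : IsBaseChange (fnA (EtOver.bcObj hf E)) r :=
    (isBC_iff (pullUnitM hf G E) rfl r fun _ => rfl).1 (isBC_pullUnit hf G E)
  constructor
  · intro h
    exact WeakAssFinite.mem_weakAss_of_tensor (t := primeAtPt (EtOver.bcObj hf E).obj.left.left v)
      (mem_weakAss_linearEquiv hr.equiv.symm h)
  · intro h
    exact mem_weakAss_linearEquiv hr.equiv
      (WeakAssFinite.mem_weakAss_tensor_of (t := primeAtPt (EtOver.bcObj hf E).obj.left.left v) h)

/-- Weakly associated points of an inverse image along a finite flat morphism. -/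
theorem mem_weakAssEt_pull_iff (hY : IsAlgSpace Y) (hfin : RepWith @IsFinite f) (hflat : RepWith @Flat f)
    (G : ModEt Y) [G.IsQuasicoherent] (x : Points X) :
    x ∈ WeakAssEt ((pullModEt hf).obj G) ↔ Points.map f x ∈ WeakAssEt G := by
  have haf : RepWith @IsAffineHom f :=
    MorphismProperty.relative_monotone
      (fun _ _ g (hg : IsFinite ((Over.forget S).map g)) => (inferInstanceAs (IsAffineHom ((Over.forget S).map g)))) _ hfin
  haveI := isQuasicoherent_pull hf hY G
  obtain ⟨U, p, hp, hps⟩ := hY.atlas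
  obtain ⟨u₀, hu₀⟩ := Groth.AlgSpBasic.surjective_ofPt_of_repWith hps (Points.map f x)
  obtain ⟨E, k, u, hE, hku⟩ := exists_affine_chart_of_ofPt (EtOver.mk p hp) u₀
  have hxu : Points.map f x = Points.ofPt E.obj.hom u := by
    rw [← EtOver.w k, Groth.AlgSpBasic.ofPt_comp_yon, hku]
    exact hu₀.symm
  obtain ⟨v, hv, hvu⟩ := (Groth.AlgSpBasic.map_eq_ofPt_iff (EtOver.isPullback_bcObj hf E) x u).1 hxu
  haveI := isAffine_bc hf haf E
  constructor
  · intro h
    have h1 := (mem_weakAssEt_iff _ x ⟨EtOver.bcObj hf E, v, hv⟩).1 h _ v hv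
    exact ⟨E, hE, u, hxu.symm, hvu ▸ (isWeakAssOn_pull_iff hf hfin hflat G E v).1 h1⟩
  · intro h
    have h1 := (mem_weakAssEt_iff G _ ⟨E, u, hxu.symm⟩).1 h E u hxu.symm
    exact ⟨_, isAffine_bc hf haf E, v, hv, (isWeakAssOn_pull_iff hf hfin hflat G E v).2 (hvu.symm ▸ h1)⟩

end Groth.ModEtQCoh
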