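import Groth.Agent.ModEtQCoh.Site

/-!
# Sections of modules on the small etale site as modules over the rings of functions

For `g : E' ⟶ E` the ring `fnA E'` is an `fnA E`-algebra and sections over `E'` are modules over both.
-/

set_option autoImplicit false
set_option backward.isDefEq.respectTransparency.types false
universe u

open CategoryTheory CategoryTheory.Limits AlgebraicGeometry Opposite AlgSp

namespace Groth.ModEtQCoh

variable {S : Scheme.{u}} {X : Sp S}

section global

variable (M : ModEt X)

/-- Sections over `E` as a module over the functions on `E`. -/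
noncomputable instance modA (E : EtOver X) : Module (fnA E) (sectModEt M E) := Module.compHom _ (upΓ E)

theorem modA_smul_def {E : EtOver X} (a : fnA E) (s : sectModEt M E) : a • s = upΓ E a • s := rfl

/-- Restriction of sections. -/
noncomputable def resM {E E' : EtOver X} (g : E' ⟶ E) : sectModEt M E →ₛₗ[resA g] sectModEt M E' where
  toFun s := (M.val.map g.op).hom s
  map_add' := map_add _
  map_smul' a s := M.val.map_smul g.op (upΓ E a) s

theorem resM_apply {E E' : EtOver X} (g : E' ⟶ E) (s : sectModEt M E) :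
    resM M g s = (M.val.presheaf.map g.op) s := rfl

theorem resM_id {E : EtOver X} (s : sectModEt M E) : resM M (𝟙 E) s = s := by
  rw [resM_apply, op_id, CategoryTheory.Functor.map_id]; rfl

theorem resM_comp {E E' E'' : EtOver X} (g' : E'' ⟶ E') (g : E' ⟶ E) (s : sectModEt M E) :
    resM M (g' ≫ g) s = resM M g' (resM M g s) := by
  rw [resM_apply, op_comp, Functor.map_comp]; rfl

theorem resM_isSheaf : Presieve.IsSheaf (etTop X) (M.val.presheaf ⋙ forget AddCommGrpCat) :=
  (isSheaf_iff_isSheaf_of_type _ _).1 (Presheaf.isSheaf_comp_of_isSheaf _ _ _ M.isSheaf)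

variable {E : EtOver X} {ι : Type*} {Y : ι → EtOver X} {g : ∀ i, Y i ⟶ E}

theorem resM_ext (hg : JointlySurj g) {s t : sectModEt M E} (h : ∀ i, resM M (g i) s = resM M (g i) t) :
    s = t := by
  refine ((resM_isSheaf M) _ (ofArrows_mem_etTop Y g hg)).isSeparatedFor.ext fun Z f hf => ?_
  obtain ⟨W, a, b, ⟨i⟩, rfl⟩ := hf
  show resM M (a ≫ g i) s = resM M (a ≫ g i) t
  rw [resM_comp, resM_comp, h i]

theorem exists_resM_eq (hg : JointlySurj g) (y : ∀ i, sectModEt M (Y i))
    (hy : ∀ i j, resM M (EtOver.pullbackFst (g i) (g j)) (y i) = resM M (EtOver.pullbackSnd (g i) (g j)) (y j)) :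
    ∃ s : sectModEt M E, ∀ i, resM M (g i) s = y i := by
  have H := (Presieve.isSheafFor_arrows_iff (M.val.presheaf ⋙ forget AddCommGrpCat) g).1
    ((Presieve.isSheafFor_iff_generate _).2 ((resM_isSheaf M) _ (ofArrows_mem_etTop Y g hg))) y fun i j Z a b hab => ?_
  · obtain ⟨s, hs, -⟩ := H
    exact ⟨s, hs⟩
  · obtain ⟨k, hk₁, hk₂⟩ : ∃ k, k ≫ EtOver.pullbackFst (g i) (g j) = a ∧ k ≫ EtOver.pullbackSnd (g i) (g j) = b :=
      ⟨(EtOver.isPullback (g i) (g j)).lift a b hab, IsPullback.lift_fst _ _ _ _, IsPullback.lift_snd _ _ _ _⟩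
    subst hk₁ hk₂
    show resM M (k ≫ _) (y i) = resM M (k ≫ _) (y j)
    rw [resM_comp, resM_comp, hy i j]

end global

section slice

variable {Y : EtOver X} (K : ModOver Y)

/-- Sections over `U` of a module on a slice. -/
abbrev SecO (U : Over Y) : Type (u + 1) := K.val.obj (op U)

/-- Functions as scalars on sections on a slice. -/
noncomputable abbrev upO (U : Over Y) : fnA U.left →+* ((OEtRing X).over Y).obj.obj (op U) := upΓ U.left

noncomputable instance modO (U : Over Y) : Module (fnA U.left) (SecO K U) := Module.compHom _ (upO U)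

theorem modO_smul_def {U : Over Y} (a : fnA U.left) (s : SecO K U) : a • s = upO U a • s := rfl

/-- Restriction of sections on a slice. -/
noncomputable def resO {U V : Over Y} (g : V ⟶ U) : SecO K U →ₛₗ[resA g.left] SecO K V where
  toFun s := (K.val.map g.op).hom s
  map_add' := map_add _
  map_smul' a s := K.val.map_smul g.op (upO U a) s

theorem resO_apply {U V : Over Y} (g : V ⟶ U) (s : SecO K U) : resO K g s = (K.val.presheaf.map g.op) s := rfl

theorem resO_id {U : Over Y} (s : SecO K U) : resO K (𝟙 U) s = s := by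
  rw [resO_apply, op_id, CategoryTheory.Functor.map_id]; rfl

theorem resO_comp {U V W : Over Y} (g' : W ⟶ V) (g : V ⟶ U) (s : SecO K U) :
    resO K (g' ≫ g) s = resO K g' (resO K g s) := by
  rw [resO_apply, op_comp, Functor.map_comp]; rfl

theorem resO_ext {U : Over Y} {ι : Type*} {V : ι → Over Y} {g : ∀ i, V i ⟶ U}
    (hg : JointlySurj fun i => (g i).left) {s t : SecO K U} (h : ∀ i, resO K (g i) s = resO K (g i) t) : s = t := by
  have hK : Presieve.IsSheaf ((etTop X).over Y) (K.val.presheaf ⋙ forget AddCommGrpCat) :=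
    (isSheaf_iff_isSheaf_of_type _ _).1 (Presheaf.isSheaf_comp_of_isSheaf _ _ _ K.isSheaf)
  refine (hK _ (mem_over_of_jointlySurj g hg)).isSeparatedFor.ext fun Z f hf => ?_
  obtain ⟨W, a, b, ⟨i⟩, rfl⟩ := hf
  show resO K (a ≫ g i) s = resO K (a ≫ g i) t
  rw [resO_comp, resO_comp, h i]

end slice

end Groth.ModEtQCoh
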