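import Groth.Prelude.Def_AlgSpModX
import Groth.Agent.ModEtQCoh.Algebra
import Groth.Agent.AlgSpBasic.RepWith
import Mathlib.AlgebraicGeometry.Morphisms.Affine
import Mathlib.AlgebraicGeometry.Morphisms.Flat
import Mathlib.AlgebraicGeometry.Morphisms.Etale
import Mathlib.CategoryTheory.Sites.Abelian
import Mathlib.Algebra.Category.Ring.Constructions

/-!
# The small etale site of an algebraic space: affine covers, and elementwise sheaf lemmas for modules
-/

set_option autoImplicit false
set_option backward.isDefEq.respectTransparency.types false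
universe u

open CategoryTheory CategoryTheory.Limits AlgebraicGeometry Opposite AlgSp

namespace Groth.ModEtQCoh

variable {S : Scheme.{u}} {X : Sp S}

/-- The functions on an object of the site. -/
abbrev fnA (E : EtOver X) : Type u := Γ(E.obj.left.left, ⊤)

/-- Pullback of functions along a morphism of the site. -/
noncomputable abbrev resA {E E' : EtOver X} (g : E' ⟶ E) : fnA E →+* fnA E' := g.hom.left.left.appTop.hom

theorem resA_id (E : EtOver X) : resA (𝟙 E) = RingHom.id _ := rfl

theorem resA_comp {E E' E'' : EtOver X} (g' : E'' ⟶ E') (g : E' ⟶ E) :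
    resA (g' ≫ g) = (resA g').comp (resA g) := rfl

/-- A family over an object is jointly surjective. -/
def JointlySurj {E : EtOver X} {ι : Type*} {Y : ι → EtOver X} (g : ∀ i, Y i ⟶ E) : Prop :=
  ∀ x : E.obj.left.left, ∃ i, x ∈ Set.range (g i).hom.left.left

/-- Every covering sieve of an affine object contains a finite jointly surjective affine family. -/
theorem exists_affine_cover {E : EtOver X} [IsAffine E.obj.left.left] {R : Sieve E} (hR : R ∈ etTop X E) :
    ∃ (n : ℕ) (Y : Fin n → EtOver X) (g : ∀ i, Y i ⟶ E),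
      (∀ i, IsAffine (Y i).obj.left.left) ∧ JointlySurj g ∧ ∀ i, R (g i) := by
  obtain ⟨P, hP, hle⟩ := (etPre X).mem_toGrothendieck_iff_of_isStableUnderComposition.1 hR
  obtain ⟨ι, Y, g, rfl⟩ := Presieve.exists_eq_ofArrows P
  rw [ofArrows_mem_etPre_iff] at hP
  choose i z hz using hP
  have : ∀ x, ∃ (Z : EtOver X) (h : Z ⟶ E), IsAffine Z.obj.left.left ∧ R h ∧ x ∈ Set.range h.hom.left.left := by
    intro x
    obtain ⟨W, hW, hzW, -⟩ := exists_isAffineOpen_mem_and_subset (x := z x)
      (U := (⊤ : (Y (i x)).obj.left.left.Opens)) trivial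
    let T : Over S := Over.mk (W.ι ≫ (Y (i x)).obj.left.hom)
    let k : T ⟶ (Y (i x)).obj.left := Over.homMk W.ι rfl
    let Z : EtOver X := EtOver.mk ((yon S).map k ≫ (Y (i x)).obj.hom)
      (Groth.AlgSpBasic.repWith_comp ((repWith_yon_map_iff _ k).2 (inferInstance : Etale W.ι)) (Y (i x)).property)
    let k' : Z ⟶ Y (i x) := EtOver.homMk k rfl
    refine ⟨Z, k' ≫ g (i x), hW, R.downward_closed (hle _ _ (Presieve.ofArrows.mk (i x))) k', ⟨z x, hzW⟩, ?_⟩
    exact hz x
  choose Z h hZ hRh hx using this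
  obtain ⟨t, ht⟩ := (isCompact_univ : IsCompact (Set.univ : Set E.obj.left.left)).elim_finite_subcover
    (fun x => Set.range (h x).hom.left.left)
    (fun x => haveI := EtOver.etale_left (h x); (h x).hom.left.left.isOpenMap.isOpen_range)
    (fun x _ => Set.mem_iUnion.2 ⟨x, hx x⟩)
  refine ⟨t.card, fun j => Z (t.equivFin.symm j), fun j => h _, fun j => hZ _, fun x => ?_, fun j => hRh _⟩
  obtain ⟨y, hy, hxy⟩ := Set.mem_iUnion₂.1 (ht (Set.mem_univ x))
  exact ⟨t.equivFin ⟨y, hy⟩, (congrArg (fun w : t => x ∈ Set.range (h w.1).hom.left.left) (t.equivFin.symm_apply_apply ⟨y, hy⟩)).mpr hxy⟩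

/-- A jointly surjective family of affine objects covers the maximal ideals. -/
theorem exists_prime_over {E : EtOver X} [IsAffine E.obj.left.left] {ι : Type*} {Y : ι → EtOver X}
    [∀ i, IsAffine (Y i).obj.left.left] {g : ∀ i, Y i ⟶ E} (hg : JointlySurj g)
    (m : Ideal (fnA E)) [m.IsMaximal] :
    ∃ k, ∃ q : Ideal (fnA (Y k)), q.IsPrime ∧ q.comap (resA (g k)) = m := by
  obtain ⟨k, y, hy⟩ := hg (E.obj.left.left.isoSpec.inv ⟨m, inferInstance⟩)
  let f := (g k).hom.left.left
  refine ⟨k, ((Y k).obj.left.left.isoSpec.hom y).asIdeal, inferInstance, ?_⟩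
  have h1 : E.obj.left.left.isoSpec.hom (f y) = Spec.map f.appTop ((Y k).obj.left.left.isoSpec.hom y) := by
    rw [← Scheme.Hom.comp_apply, ← Scheme.Hom.comp_apply, Scheme.isoSpec_hom_naturality]
  rw [hy, ← Scheme.Hom.comp_apply, Iso.inv_hom_id] at h1
  exact (congrArg PrimeSpectrum.asIdeal h1).symm

theorem flat_resA {E E' : EtOver X} [IsAffine E.obj.left.left] [IsAffine E'.obj.left.left] (g : E' ⟶ E) :
    (resA g).Flat :=
  haveI := EtOver.etale_left g
  HasRingHomProperty.appTop @Flat g.hom.left.left inferInstance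

instance isAffine_pullbackObj {E₁ E₂ E₀ : EtOver X} (g₁ : E₁ ⟶ E₀) (g₂ : E₂ ⟶ E₀)
    [IsAffine E₁.obj.left.left] [IsAffine E₂.obj.left.left] [IsAffine E₀.obj.left.left] :
    IsAffine (EtOver.pullbackObj g₁ g₂).obj.left.left :=
  haveI : IsAffine ((EtOver.toScheme X).obj E₁) := ‹IsAffine E₁.obj.left.left›
  haveI : IsAffine ((EtOver.toScheme X).obj E₂) := ‹IsAffine E₂.obj.left.left›
  haveI : IsAffine ((EtOver.toScheme X).obj E₀) := ‹IsAffine E₀.obj.left.left›
  IsAffine.of_isPullback ((EtOver.isPullback g₁ g₂).map (EtOver.toScheme X))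

theorem isPushout_resA {E₁ E₂ E₀ : EtOver X} (g₁ : E₁ ⟶ E₀) (g₂ : E₂ ⟶ E₀)
    [IsAffine E₁.obj.left.left] [IsAffine E₂.obj.left.left] [IsAffine E₀.obj.left.left] :
    IsPushout g₁.hom.left.left.appTop g₂.hom.left.left.appTop
      (EtOver.pullbackFst g₁ g₂).hom.left.left.appTop (EtOver.pullbackSnd g₁ g₂).hom.left.left.appTop :=
  haveI : IsAffine ((EtOver.toScheme X).obj E₁) := ‹IsAffine E₁.obj.left.left›
  haveI : IsAffine ((EtOver.toScheme X).obj E₂) := ‹IsAffine E₂.obj.left.left›
  haveI : IsAffine ((EtOver.toScheme X).obj E₀) := ‹IsAffine E₀.obj.left.left›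
  isPushout_appTop_of_isPullback ((EtOver.isPullback g₁ g₂).map (EtOver.toScheme X))

/-- Modules on the slice of the site over an object. -/
abbrev ModOver (Y : EtOver X) : Type (u + 2) := SheafOfModules.{u + 1} ((OEtRing X).over Y)

theorem mem_over_of_jointlySurj {Y : EtOver X} {U : Over Y} {ι : Type*} {V : ι → Over Y} (g : ∀ i, V i ⟶ U)
    (hg : JointlySurj fun i => (g i).left) : Sieve.ofArrows V g ∈ (etTop X).over Y U := by
  rw [GrothendieckTopology.mem_over_iff]
  refine GrothendieckTopology.superset_covering _ ?_ (ofArrows_mem_etTop _ (fun i => (g i).left) hg)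
  rw [Sieve.ofArrows, Sieve.generate_le_iff]
  rintro Z f ⟨i⟩
  rw [Sieve.overEquiv_iff]
  exact ⟨V i, Over.homMk (𝟙 _) (Over.w (g i)).symm, g i, ⟨i⟩, by ext; simp⟩

end Groth.ModEtQCoh
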