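import Groth.Agent.ModEtQCoh.SubFromAffine
import Groth.Agent.ModEtQCoh.Generators
import Groth.Agent.ModEtQCoh.PushQCoh
import Groth.Agent.ModEtQCoh.Exact
import Groth.Agent.FlatMor2.AlgSpColim.QcSite

/-!
# Sections lying in the span of given sections over a chart

For sections `F` over an affine chart `U` the sections whose restrictions to all affine objects over `U`
lie in the span of the restrictions of `F` form a quasi-coherent submodule.
-/

set_option autoImplicit false
set_option backward.isDefEq.respectTransparency.types false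
set_option maxHeartbeats 400000
set_option linter.style.haveILetI false
universe u

open CategoryTheory CategoryTheory.Limits AlgebraicGeometry Opposite AlgSp TensorProduct

namespace Groth.ModEtQCoh.SpanFamily

noncomputable section

theorem bcLift_mapN_smul {A B : Type u} [CommRing A] [CommRing B] {f : A →+* B} {N N' W : Type (u + 1)}
    [AddCommGroup N] [Module A N] [AddCommGroup N'] [Module A N'] [AddCommGroup W] [Module B W]
    (ψ : N →ₛₗ[f] W) (T : N' →ₗ[A] N) (c : B) (z : Tens f N') :
    bcLift ψ (mapN f T (letI := f.toAlgebra; c • z)) = c • bcLift ψ (mapN f T z) := by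
  let := f.toAlgebra
  induction z using TensorProduct.induction_on with
  | zero => simp
  | tmul b m =>
    rw [TensorProduct.smul_tmul', smul_eq_mul]
    exact ((bcLift_tmul ψ (c * b) (T m)).trans (mul_smul c b _)).trans
      (congrArg (c • ·) (bcLift_tmul ψ b (T m)).symm)
  | add a b ha hb =>
    rw [smul_add]
    erw [map_add, map_add, map_add, map_add]
    rw [ha, hb, smul_add]

theorem piRight_lTensor_pi {A B : Type u} [CommRing A] [CommRing B] [Algebra A B] {ι : Type} [Fintype ι]
    [DecidableEq ι] {N : Type (u + 1)} [AddCommGroup N] [Module A N] {Q : ι → Type (u + 1)}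
    [∀ i, AddCommGroup (Q i)] [∀ i, Module A (Q i)] (f : ∀ i, N →ₗ[A] Q i) (z : B ⊗[A] N) (i : ι) :
    TensorProduct.piRight A A B Q (LinearMap.lTensor B (LinearMap.pi f) z) i = LinearMap.lTensor B (f i) z := by
  induction z using TensorProduct.induction_on with
  | zero => simp
  | tmul a t => simp
  | add a b ha hb => simp only [map_add, Pi.add_apply, ha, hb]

variable {S : Scheme.{u}} {X : Sp S} (M : ModEt X) {U : EtOver X} (F : Set (sectModEt M U))

/-- The span of the restrictions. -/
def resSpan {W : EtOver X} (l : W ⟶ U) : Submodule (fnA W) (sectModEt M W) := Submodule.span (fnA W) (resM M l '' F)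

theorem resM_mem_resSpan {W V : EtOver X} (h : V ⟶ W) (l : W ⟶ U) {t : sectModEt M W} (ht : t ∈ resSpan M F l) :
    resM M h t ∈ resSpan M F (h ≫ l) := by
  induction ht using Submodule.span_induction with
  | mem x hx =>
    obtain ⟨n, hn, rfl⟩ := hx
    exact Submodule.subset_span ⟨n, hn, resM_comp M h l n⟩
  | zero => rw [map_zero]; exact zero_mem _
  | add x y _ _ hx hy => rw [map_add]; exact add_mem hx hy
  | smul c x _ hx => rw [map_smulₛₗ]; exact Submodule.smul_mem _ _ hx

variable [M.IsQuasicoherent]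

/-- Membership in the span is local. -/
theorem mem_resSpan_of_local {W : EtOver X} [IsAffine W.obj.left.left] (l : W ⟶ U) {n : ℕ} {V : Fin n → EtOver X}
    (h : ∀ i, V i ⟶ W) [∀ i, IsAffine (V i).obj.left.left] (hcov : JointlySurj h) {t : sectModEt M W}
    (ht : ∀ i, resM M (h i) t ∈ resSpan M F (h i ≫ l)) : t ∈ resSpan M F l := by
  rw [← Submodule.Quotient.mk_eq_zero]
  let : ∀ i, Algebra (fnA W) (fnA (V i)) := fun i => (resA (h i)).toAlgebra
  have : ∀ i, Module.Flat (fnA W) (fnA (V i)) := fun i => flat_resA (h i)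
  refine eq_zero_of_forall_one_tmul (B := fun i => fnA (V i)) (fun m hm => exists_prime_over hcov m) fun i => ?_
  have hmem : ∀ x ∈ resSpan M F (h i ≫ l), ∃ z : fnA (V i) ⊗[fnA W] (resSpan M F l),
      bcLift (resM M (h i)) (mapN (resA (h i)) (resSpan M F l).subtype z) = x := by
    intro x hx
    induction hx using Submodule.span_induction with
    | mem x hx =>
      obtain ⟨f, hf, rfl⟩ := hx
      refine ⟨1 ⊗ₜ ⟨resM M l f, Submodule.subset_span ⟨f, hf, rfl⟩⟩, ?_⟩
      exact ((bcLift_tmul (resM M (h i)) 1 (resM M l f)).trans (one_smul _ _)).trans (resM_comp M (h i) l f).symm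
    | zero => exact ⟨0, by simp⟩
    | add x y _ _ hx hy =>
      obtain ⟨a, rfl⟩ := hx
      obtain ⟨b, rfl⟩ := hy
      exact ⟨a + b, by rw [← map_add, ← map_add]⟩
    | smul c x _ hx =>
      obtain ⟨a, rfl⟩ := hx
      exact ⟨c • a, bcLift_mapN_smul _ _ c a⟩
  obtain ⟨z, hz⟩ := hmem _ (ht i)
  have key : (1 : fnA (V i)) ⊗ₜ[fnA W] t = mapN (resA (h i)) (resSpan M F l).subtype z := by
    refine (isBC_resM M (h i)).1 ?_
    rw [hz]
    exact (bcLift_tmul (resM M (h i)) 1 t).trans (one_smul _ _)
  show (LinearMap.lTensor (fnA (V i)) (resSpan M F l).mkQ) (1 ⊗ₜ t) = 0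
  rw [key]
  refine mapN_mapN_eq_zero (resA (h i)) ?_ z
  ext ⟨x, hx⟩
  exact (Submodule.Quotient.mk_eq_zero _).2 hx

/-- The sections lying in the spans. -/
def fam (E : EtOver X) (_hE : IsAffine E.obj.left.left) : Submodule (fnA E) (sectModEt M E) where
  carrier := {t | ∀ (W : EtOver X) (_ : IsAffine W.obj.left.left) (k : W ⟶ E) (l : W ⟶ U), resM M k t ∈ resSpan M F l}
  add_mem' {a b} ha hb W hW k l := by rw [map_add]; exact add_mem (ha W hW k l) (hb W hW k l)
  zero_mem' W hW k l := by rw [map_zero]; exact zero_mem _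
  smul_mem' c a ha W hW k l := by rw [map_smulₛₗ]; exact Submodule.smul_mem _ _ (ha W hW k l)

theorem isLocalFamily_fam : SubFromAffine.IsLocalFamily M (fam M F) where
  res {E E'} g hE hE' s hs W hW k l := by rw [← resM_comp]; exact hs W hW (k ≫ g) l
  loc E hE n Y g hY hcov s hs W hW k l := by
    obtain ⟨m, V, h, hV, hVcov, hR⟩ := exists_affine_cover ((etTop X).pullback_stable k
      (ofArrows_mem_etTop Y g hcov))
    refine mem_resSpan_of_local M F l h hVcov fun i => ?_
    obtain ⟨T, q, r, hr, hfac⟩ := hR i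
    obtain ⟨j⟩ := hr
    rw [← resM_comp, ← hfac, resM_comp]
    exact hs j (V i) (hV i) q (h i ≫ l)

/-- It suffices to look at an affine cover of the product with the chart. -/
theorem mem_fam_of_cover {E : EtOver X} (hE : IsAffine E.obj.left.left) {n : ℕ} {W : Fin n → EtOver X}
    (w : ∀ j, W j ⟶ EtOver.prodObj E U) (hcov : JointlySurj w) {t : sectModEt M E}
    (ht : ∀ j, resM M (w j ≫ EtOver.prodFst E U) t ∈ resSpan M F (w j ≫ EtOver.prodSnd E U)) : t ∈ fam M F E hE := by
  intro V hV k l
  let p : V ⟶ EtOver.prodObj E U := (EtOver.prodIsLimit E U).lift (BinaryFan.mk k l)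
  have hp₁ : p ≫ EtOver.prodFst E U = k := (EtOver.prodIsLimit E U).fac (BinaryFan.mk k l) ⟨.left⟩
  have hp₂ : p ≫ EtOver.prodSnd E U = l := (EtOver.prodIsLimit E U).fac (BinaryFan.mk k l) ⟨.right⟩
  obtain ⟨m, T, h, hT, hTcov, hR⟩ := exists_affine_cover ((etTop X).pullback_stable p
    (ofArrows_mem_etTop W w hcov))
  refine mem_resSpan_of_local M F l h hTcov fun i => ?_
  obtain ⟨T', q, r, hr, hfac⟩ := hR i
  obtain ⟨j⟩ := hr
  have h1 : h i ≫ k = q ≫ w j ≫ EtOver.prodFst E U := by rw [reassoc_of% hfac, hp₁]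
  have h2 : h i ≫ l = q ≫ w j ≫ EtOver.prodSnd E U := by rw [reassoc_of% hfac, hp₂]
  rw [← resM_comp, h1, h2, resM_comp]
  exact resM_mem_resSpan M F q _ (ht j)

/-- The span as a submodule over the base. -/
def spanVia {E W : EtOver X} (p : W ⟶ E) (b : W ⟶ U) : Submodule (fnA E) (SecVia M p) where
  carrier := {x | (x : sectModEt M W) ∈ resSpan M F b}
  add_mem' ha hb := (resSpan M F b).add_mem ha hb
  zero_mem' := (resSpan M F b).zero_mem
  smul_mem' a _ hx := (resSpan M F b).smul_mem (resA p a) hx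

/-- Along a base change the span upstairs comes from the span downstairs. -/
theorem exists_of_mem_resSpan {E E' W : EtOver X} [IsAffine E.obj.left.left] [IsAffine E'.obj.left.left]
    [IsAffine W.obj.left.left] (g : E' ⟶ E) (p : W ⟶ E) (b : W ⟶ U) (x : SecVia M (EtOver.pullbackFst g p))
    (hx : (x : sectModEt M (EtOver.pullbackObj g p)) ∈ resSpan M F (EtOver.pullbackSnd g p ≫ b)) :
    ∃ z : Tens (resA g) (spanVia M F p b),
      bcLift (qVia M g p (EtOver.pullbackFst g p) (EtOver.pullbackSnd g p) (EtOver.pullback_condition g p).symm)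
        (mapN (resA g) (spanVia M F p b).subtype z) = x := by
  let ψ := qVia M g p (EtOver.pullbackFst g p) (EtOver.pullbackSnd g p) (EtOver.pullback_condition g p).symm
  let Φ : Tens (resA g) (spanVia M F p b) →+ SecVia M (EtOver.pullbackFst g p) :=
    (bcLift ψ).comp (mapN (resA g) (spanVia M F p b).subtype)
  show ∃ z, Φ z = x
  letI := (resA g).toAlgebra
  have hsmul : ∀ (a : fnA E') (y), (∃ z, Φ z = y) → ∃ z, Φ z = a • y := by
    rintro a _ ⟨z, rfl⟩
    exact ⟨a • z, bcLift_mapN_smul ψ _ a z⟩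
  letI := (resA p).toAlgebra
  letI := (resA (EtOver.pullbackSnd g p)).toAlgebra
  letI := (resA (EtOver.pullbackFst g p)).toAlgebra
  letI : Algebra (fnA E) (fnA (EtOver.pullbackObj g p)) := ((resA (EtOver.pullbackSnd g p)).comp (resA p)).toAlgebra
  haveI : IsScalarTower (fnA E) (fnA W) (fnA (EtOver.pullbackObj g p)) := IsScalarTower.of_algebraMap_eq' rfl
  haveI : IsScalarTower (fnA E) (fnA E') (fnA (EtOver.pullbackObj g p)) := IsScalarTower.of_algebraMap_eq'
    (RingHom.ext fun a => (ConcreteCategory.congr_hom (isPushout_resA g p).w a).symm)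
  haveI hpo : Algebra.IsPushout (fnA E) (fnA E') (fnA W) (fnA (EtOver.pullbackObj g p)) :=
    CommRingCat.isPushout_iff_isPushout.1 (isPushout_resA g p)
  -- multiples of restricted members
  have hgen : ∀ (s : spanVia M F p b) (c : fnA (EtOver.pullbackObj g p)),
      ∃ z, Φ z = (show SecVia M (EtOver.pullbackFst g p) from c • (ψ s.1 : sectModEt M (EtOver.pullbackObj g p))) := by
    intro s c
    induction c using hpo.out.inductionOn with
    | zero => exact ⟨0, by rw [map_zero]; exact (zero_smul _ _).symm⟩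
    | tmul m =>
      let s' : spanVia M F p b :=
        ⟨(show SecVia M p from (m • (s.1 : sectModEt M W) : sectModEt M W)), (resSpan M F b).smul_mem m s.2⟩
      refine ⟨1 ⊗ₜ s', ?_⟩
      refine ((bcLift_tmul ψ 1 s'.1).trans (one_smul _ _)).trans ?_
      exact (resM M (EtOver.pullbackSnd g p)).map_smulₛₗ m (s.1 : sectModEt M W)
    | smul a c hc =>
      obtain ⟨z, hz⟩ := hsmul a _ hc
      refine ⟨z, hz.trans ?_⟩
      exact (mul_smul (resA (EtOver.pullbackFst g p) a) c _).symm
    | add c c' hc hc' =>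
      obtain ⟨z, hz⟩ := hc
      obtain ⟨z', hz'⟩ := hc'
      exact ⟨z + z', by rw [map_add, hz, hz']; exact (add_smul _ _ _).symm⟩
  induction hx using Submodule.span_induction with
  | mem y hy =>
    obtain ⟨f, hf, rfl⟩ := hy
    let s : spanVia M F p b :=
      ⟨(show SecVia M p from resM M b f),
        (show (resM M b f : sectModEt M W) ∈ resSpan M F b from Submodule.subset_span ⟨f, hf, rfl⟩)⟩
    obtain ⟨z, hz⟩ := hgen s 1
    exact ⟨z, hz.trans ((one_smul _ _).trans (resM_comp M (EtOver.pullbackSnd g p) b f).symm)⟩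
  | zero => exact ⟨0, map_zero _⟩
  | add y y' _ _ hy hy' =>
    obtain ⟨z, hz⟩ := hy
    obtain ⟨z', hz'⟩ := hy'
    exact ⟨z + z', by rw [map_add, hz, hz']; rfl⟩
  | smul c y _ hy =>
    obtain ⟨z, rfl⟩ := hy
    clear * - hgen
    induction z using TensorProduct.induction_on with
    | zero => exact ⟨0, by rw [map_zero]; exact (smul_zero c).symm⟩
    | tmul a s =>
      obtain ⟨z, hz⟩ := hgen s (c * resA (EtOver.pullbackFst g p) a)
      exact ⟨z, hz.trans ((mul_smul c _ _).trans (congrArg (c • ·) (bcLift_tmul ψ a s.1).symm))⟩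
    | add z₁ z₂ h₁ h₂ =>
      obtain ⟨a, ha⟩ := h₁
      obtain ⟨a', ha'⟩ := h₂
      exact ⟨a + a', by rw [map_add, map_add, ha, ha']; exact (smul_add c _ _).symm⟩

variable {n : ℕ} {E : EtOver X} {W : Fin n → EtOver X} (w : ∀ j, W j ⟶ EtOver.prodObj E U)

/-- The map to the quotients by the spans on a cover of the product. -/
def quotMap : sectModEt M E →ₗ[fnA E]
    (∀ j, SecVia M (w j ≫ EtOver.prodFst E U) ⧸ spanVia M F (w j ≫ EtOver.prodFst E U) (w j ≫ EtOver.prodSnd E U)) :=
  LinearMap.pi fun j => (spanVia M F _ _).mkQ.comp (jVia M (w j ≫ EtOver.prodFst E U))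

theorem mem_fam_iff_quotMap [hW : ∀ j, IsAffine (W j).obj.left.left] (hE : IsAffine E.obj.left.left)
    (hcov : JointlySurj w) (t : sectModEt M E) : t ∈ fam M F E hE ↔ quotMap M F w t = 0 := by
  constructor
  · intro ht
    exact funext fun j => (Submodule.Quotient.mk_eq_zero _).2 (ht (W j) (hW j) _ _)
  · intro ht
    exact mem_fam_of_cover M F hE w hcov fun j => (Submodule.Quotient.mk_eq_zero _).1 (congrFun ht j)

theorem exists_affine_cover_prod [QuasiSeparatedSpace ↥S] (hqs : IsQuasiSeparatedSp X) (E U : EtOver X)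
    [IsAffine E.obj.left.left] [IsAffine U.obj.left.left] :
    ∃ (n : ℕ) (W : Fin n → EtOver X) (w : ∀ j, W j ⟶ EtOver.prodObj E U),
      (∀ j, IsAffine (W j).obj.left.left) ∧ JointlySurj w := by
  haveI : CompactSpace (EtOver.prodObj E U).obj.left.left :=
    (Groth.FlatMor2.AlgSpColim.qcqs_prodObj hqs ⟨inferInstance, inferInstance⟩ ⟨inferInstance, inferInstance⟩).1
  exact exists_affine_cover_of_compact _

/-- The submodule of sections in the spans is quasi-coherent. -/
theorem isQuasicoherent_sub_fam [QuasiSeparatedSpace ↥S] (hqs : IsQuasiSeparatedSp X) [IsAffine U.obj.left.left] :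
    (SubFromAffine.sub (isLocalFamily_fam M F)).IsQuasicoherent := by
  refine SubFromAffine.isQuasicoherent_sub (isLocalFamily_fam M F) fun {E E'} g hE hE' y hy => ?_
  obtain ⟨n, W, w, hW, hcov⟩ := exists_affine_cover_prod hqs E U
  letI := (resA g).toAlgebra
  haveI : Module.Flat (fnA E) (fnA E') := flat_resA g
  obtain ⟨z, rfl⟩ := (isBC_resM M g).2 y
  suffices hz : mapN (resA g) (quotMap M F w) z = 0 by
    have hex : Function.Exact (fam M F E hE).subtype (quotMap M F w) := fun t => by
      rw [Set.mem_range, ← mem_fam_iff_quotMap M F w hE hcov]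
      exact ⟨fun h => ⟨⟨t, h⟩, rfl⟩, fun ⟨a, ha⟩ => ha ▸ a.2⟩
    obtain ⟨z', rfl⟩ := (Module.Flat.lTensor_exact (fnA E') hex z).1 hz
    exact ⟨z', (bcLift_mapN (SubFromAffine.resFam (M := M) (N := fam M F) hE g) (resM M g) (fam M F E hE).subtype
      LinearMap.id (fun _ => rfl) z').symm⟩
  have hj : ∀ j, mapN (resA g) ((spanVia M F (w j ≫ EtOver.prodFst E U) (w j ≫ EtOver.prodSnd E U)).mkQ.comp
      (jVia M (w j ≫ EtOver.prodFst E U))) z = 0 := by
    intro j
    let p := w j ≫ EtOver.prodFst E U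
    let b := w j ≫ EtOver.prodSnd E U
    let ψ := qVia M g p (EtOver.pullbackFst g p) (EtOver.pullbackSnd g p) (EtOver.pullback_condition g p).symm
    let x : SecVia M (EtOver.pullbackFst g p) := resM M (EtOver.pullbackFst g p) (bcLift (resM M g) z)
    have hx : bcLift ψ (mapN (resA g) (jVia M p) z) = x :=
      bcLift_mapN (resM M g) ψ (jVia M p) (jVia M (EtOver.pullbackFst g p)) (fun t =>
        (resM_comp M (EtOver.pullbackSnd g p) p t).symm.trans
          ((congrArg (fun k => resM M k t) (EtOver.pullback_condition g p).symm).trans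
            (resM_comp M (EtOver.pullbackFst g p) g t))) z
    obtain ⟨z₁, hz₁⟩ := exists_of_mem_resSpan M F g p b x
      (hy _ inferInstance (EtOver.pullbackFst g p) (EtOver.pullbackSnd g p ≫ b))
    have e := (isBC_qVia_of_hasBC (hasBC_of_isQuasicoherent M) g p).1 (hx.trans hz₁.symm)
    show LinearMap.lTensor (fnA E') ((spanVia M F p b).mkQ.comp (jVia M p)) z = 0
    rw [LinearMap.lTensor_comp, LinearMap.comp_apply]
    refine Eq.trans (congrArg _ e) (mapN_mapN_eq_zero (resA g) ?_ z₁)
    ext ⟨s, hs⟩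
    exact (Submodule.Quotient.mk_eq_zero _).2 hs
  refine (TensorProduct.piRight (fnA E) (fnA E) (fnA E') _).injective ?_
  rw [map_zero]
  funext j
  refine Eq.trans ?_ (hj j)
  exact piRight_lTensor_pi (fun j => (spanVia M F (w j ≫ EtOver.prodFst E U) (w j ≫ EtOver.prodSnd E U)).mkQ.comp
    (jVia M (w j ≫ EtOver.prodFst E U))) z j

end

end Groth.ModEtQCoh.SpanFamily
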