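import Groth.Agent.ModEtQCoh.Exact
import Groth.Agent.ModEtQCoh.Morphisms
import Groth.Agent.AlgSpEt.Support
import Groth.Agent.AlgSpBasic.OpenSub
import Mathlib.CategoryTheory.Limits.ConcreteCategory.Basic

/-!
# Openness of stalkwise injectivity and surjectivity for coherent modules
-/

set_option autoImplicit false
set_option backward.isDefEq.respectTransparency.types false
set_option linter.style.haveILetI false
universe u

open CategoryTheory CategoryTheory.Limits AlgebraicGeometry Opposite AlgSp TopologicalSpace Groth.AlgSpEt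

namespace Groth.ModEtQCoh.StalkOpen

variable {S : Scheme.{u}} {X : Space S}

/-- The locus where a section vanishes. -/
noncomputable abbrev zeroLocus (M : ModEt X.obj) {E : EtOver X.obj} (s : sectModEt M E) : Opens E.obj.left.left :=
  eqLocus ((toAbEt X.obj).obj M) E (show ↥(((toAbEt X.obj).obj M).obj.obj (op E)) from s)
    (0 : ↥(((toAbEt X.obj).obj M).obj.obj (op E)))

theorem mem_zeroLocus {M : ModEt X.obj} {E : EtOver X.obj} {s : sectModEt M E} {u : E.obj.left.left} :
    u ∈ zeroLocus M s ↔ ∃ (V : EtOver X.obj) (g : V ⟶ E), resM M g s = 0 ∧ u ∈ Set.range g.hom.left.left := by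
  refine mem_eqLocus.trans (exists_congr fun V => exists_congr fun g => and_congr_left fun _ => ?_)
  exact ⟨fun h => h.trans (map_zero _), fun h => h.trans (map_zero _).symm⟩

theorem resM_eq_zero_iff {M : ModEt X.obj} {E V : EtOver X.obj} (s : sectModEt M E) (g : V ⟶ E) :
    resM M g s = 0 ↔ ∀ v, g.hom.left.left v ∈ zeroLocus M s := by
  refine Iff.trans ?_ ((map_eq_iff_range_subset X ((toAbEt X.obj).obj M)
    (show ↥(((toAbEt X.obj).obj M).obj.obj (op E)) from s) (0 : ↥(((toAbEt X.obj).obj M).obj.obj (op E))) g).trans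
      Set.range_subset_iff)
  exact ⟨fun h => h.trans (map_zero _).symm, fun h => h.trans (map_zero _)⟩

theorem mem_zeroLocus_of_injective {L M : ModEt X.obj} (f : L ⟶ M) (hf : ∀ V, Function.Injective (appM f V))
    {E : EtOver X.obj} {s : sectModEt L E} {u : E.obj.left.left} (h : u ∈ zeroLocus M (appM f E s)) :
    u ∈ zeroLocus L s := by
  obtain ⟨V, g, hg, hr⟩ := mem_zeroLocus.1 h
  exact mem_zeroLocus.2 ⟨V, g, hf V ((appM_resM f g s).trans (hg.trans (map_zero _).symm)), hr⟩

/-- Sections vanish when the restrictions of generators do. -/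
theorem eq_zero_of_generators (K : ModEt X.obj) [K.IsQuasicoherent] {D E₀ : EtOver X.obj} [IsAffine D.obj.left.left]
    [IsAffine E₀.obj.left.left] (h : D ⟶ E₀) (t : Set (sectModEt K E₀)) (ht : Submodule.span (fnA E₀) t = ⊤)
    (hg : ∀ g ∈ t, resM K h g = 0) (y : sectModEt K D) : y = 0 := by
  obtain ⟨z, rfl⟩ := (isBC_resM K h).2 y
  induction z using TensorProduct.induction_on with
  | zero => exact map_zero _
  | add a b ha hb => rw [map_add, ha, hb, add_zero]
  | tmul b n =>
    refine (bcLift_tmul (resM K h) b n).trans ?_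
    have hn : n ∈ Submodule.span (fnA E₀) t := by rw [ht]; trivial
    have h0 : resM K h n = 0 := by
      induction hn using Submodule.span_induction with
      | mem g hgt => exact hg g hgt
      | zero => exact map_zero _
      | add a b _ _ ha hb => rw [map_add, ha, hb, add_zero]
      | smul c a _ ha => rw [map_smulₛₗ, ha, smul_zero]
    rw [h0, smul_zero]

/-- A quasi-coherent module of finite type with vanishing germs at a point vanishes near it. -/
theorem exists_open_vanishing (K : ModEt X.obj) [K.IsQuasicoherent]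
    (hfin : ∀ (E : EtOver X.obj) [IsAffine E.obj.left.left], Module.Finite (fnA E) (sectModEt K E))
    (x : Points X.obj)
    (hz : ∀ (E : EtOver X.obj) [IsAffine E.obj.left.left] (u : E.obj.left.left), Points.ofPt E.obj.hom u = x →
      ∀ s : sectModEt K E, u ∈ zeroLocus K s) :
    ∃ W : Set (Points X.obj), IsOpen W ∧ x ∈ W ∧
      ∀ E : EtOver X.obj, Set.range (Points.ofPt E.obj.hom) ⊆ W → ∀ s : sectModEt K E, s = 0 := by
  obtain ⟨U, p, hp, hps⟩ := X.property.atlas
  obtain ⟨u₀, hu₀⟩ := Groth.AlgSpBasic.surjective_ofPt_of_repWith hps x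
  obtain ⟨E₀, k, u, hE₀, hku⟩ := exists_affine_chart_of_ofPt (EtOver.mk p hp) u₀
  have hu : Points.ofPt E₀.obj.hom u = x := by
    rw [← EtOver.w k, Groth.AlgSpBasic.ofPt_comp_yon, hku]
    exact hu₀
  obtain ⟨t, ht⟩ := (hfin E₀).fg_top
  let O : Set E₀.obj.left.left := ⋂ s ∈ t, (zeroLocus K s : Set E₀.obj.left.left)
  have hO : IsOpen O := isOpen_biInter_finset fun s _ => (zeroLocus K s).isOpen
  refine ⟨Points.ofPt E₀.obj.hom '' O, Groth.AlgSpBasic.isOpenMap_ofPt_of_etale E₀.property _ hO,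
    ⟨u, Set.mem_iInter₂.2 fun s _ => hz E₀ u hu s, hu⟩, fun E hE s => ?_⟩
  choose o ho hoe using fun e => hE ⟨e, rfl⟩
  choose T k₁ k₂ w hT hk₁ hk₂ using fun e => exists_common_chart E E₀ e (o e) (hoe e).symm
  choose A hA hwA hAO using fun e => exists_isAffineOpen_mem_and_subset (X := (T e).obj.left.left) (x := w e)
    (U := ⟨(k₂ e).hom.left.left ⁻¹' O, hO.preimage (k₂ e).hom.left.left.continuous⟩)
    (show (k₂ e).hom.left.left (w e) ∈ O by rw [hk₂ e]; exact ho e)
  let i : ∀ e, Over.mk ((A e).ι ≫ (T e).obj.left.hom) ⟶ (T e).obj.left := fun e => Over.homMk (A e).ι rfl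
  let D : E.obj.left.left → EtOver X.obj := fun e => EtOver.mk ((yon S).map (i e) ≫ (T e).obj.hom)
    (Groth.AlgSpBasic.repWith_comp ((repWith_yon_map_iff _ (i e)).2 (inferInstanceAs (Etale (A e).ι))) (T e).property)
  let j : ∀ e, D e ⟶ T e := fun e => EtOver.homMk (i e) rfl
  refine resM_ext K (g := fun e => j e ≫ k₁ e) (fun e => ⟨e, (⟨w e, hwA e⟩ : A e), hk₁ e⟩) fun e => ?_
  rw [map_zero]
  haveI : IsAffine (D e).obj.left.left := hA e
  refine eq_zero_of_generators K (j e ≫ k₂ e) (t : Set (sectModEt K E₀)) ht (fun g hg => ?_) _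
  rw [resM_eq_zero_iff]
  intro v
  exact Set.mem_iInter₂.1 (hAO e v.2) g hg

/-- The stalk map of a morphism of modules on a germ. -/
theorem stalkMap_germ {M N : ModEt X.obj} (φ : M ⟶ N) (p : FieldPt X.obj) (n : EtNbhd p) (s : sectModEt M n.1) :
    ((stalkEtFunctor AddCommGrpCat.{u + 1} p).map ((toAbEt X.obj).map φ)).hom
        ((stalkEtι p ((toAbEt X.obj).obj M) n).hom (show ↥(((toAbEt X.obj).obj M).obj.obj (op n.1)) from s)) =
      (stalkEtι p ((toAbEt X.obj).obj N) n).hom
        (show ↥(((toAbEt X.obj).obj N).obj.obj (op n.1)) from appM φ n.1 s) := by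
  have h : stalkEtι p ((toAbEt X.obj).obj M) n ≫ (stalkEtFunctor AddCommGrpCat.{u + 1} p).map ((toAbEt X.obj).map φ) =
      ((toAbEt X.obj).map φ).hom.app (op n.1) ≫ stalkEtι p ((toAbEt X.obj).obj N) n :=
    ι_colimMap _ _
  exact congrArg (fun m => m.hom (show ↥(((toAbEt X.obj).obj M).obj.obj (op n.1)) from s)) h

theorem stalkMap_germ_eq_zero {L M N : ModEt X.obj} {f : L ⟶ M} {g : M ⟶ N} (hfg : f ≫ g = 0) (p : FieldPt X.obj)
    (n : EtNbhd p) (s : sectModEt L n.1) :
    ((stalkEtFunctor AddCommGrpCat.{u + 1} p).map ((toAbEt X.obj).map g)).hom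
        ((stalkEtι p ((toAbEt X.obj).obj M) n).hom (show ↥(((toAbEt X.obj).obj M).obj.obj (op n.1)) from appM f n.1 s)) =
      0 :=
  ((stalkMap_germ g p n _).trans (congrArg (fun t : sectModEt N n.1 =>
    (stalkEtι p ((toAbEt X.obj).obj N) n).hom (show ↥(((toAbEt X.obj).obj N).obj.obj (op n.1)) from t))
      (appM_comp_eq_zero hfg n.1 s))).trans (map_zero _)

theorem germ_eq_zero_of_injective {M N : ModEt X.obj} (g : M ⟶ N) (p : FieldPt X.obj)
    (h : Function.Injective ((stalkEtFunctor AddCommGrpCat.{u + 1} p).map ((toAbEt X.obj).map g)).hom)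
    (n : EtNbhd p) (y : sectModEt M n.1)
    (hy : ((stalkEtFunctor AddCommGrpCat.{u + 1} p).map ((toAbEt X.obj).map g)).hom
        ((stalkEtι p ((toAbEt X.obj).obj M) n).hom (show ↥(((toAbEt X.obj).obj M).obj.obj (op n.1)) from y)) = 0) :
    (stalkEtι p ((toAbEt X.obj).obj M) n).hom (show ↥(((toAbEt X.obj).obj M).obj.obj (op n.1)) from y) = 0 :=
  (injective_iff_map_eq_zero ((stalkEtFunctor AddCommGrpCat.{u + 1} p).map ((toAbEt X.obj).map g)).hom).1 h _ hy

theorem germ_eq_zero_of_comp {L M N : ModEt X.obj} {f : L ⟶ M} {g : M ⟶ N} (hfg : f ≫ g = 0) (p : FieldPt X.obj)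
    (h : Function.Injective ((stalkEtFunctor AddCommGrpCat.{u + 1} p).map ((toAbEt X.obj).map g)).hom)
    (n : EtNbhd p) (s : sectModEt L n.1) :
    (stalkEtι p ((toAbEt X.obj).obj M) n).hom (show ↥(((toAbEt X.obj).obj M).obj.obj (op n.1)) from appM f n.1 s) = 0 :=
  germ_eq_zero_of_injective g p h n (appM f n.1 s) (stalkMap_germ_eq_zero hfg p n s)

/-- Vanishing of a germ at a geometric point. -/
theorem germ_eq_zero_iff {M : ModEt X.obj} {p : FieldPt X.obj} (hp : p.IsGeometric) (n : EtNbhd p)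
    (s : sectModEt M n.1) :
    (stalkEtι p ((toAbEt X.obj).obj M) n).hom (show ↥(((toAbEt X.obj).obj M).obj.obj (op n.1)) from s) = 0 ↔
      n.2.1.left (ctr p) ∈ zeroLocus M s :=
  stalkEtι_eq_zero_iff X _ hp n _

theorem exists_openSpace {W : Set (Points X.obj)} (hW : IsOpen W) :
    ∃ (X' : Space S) (j : X' ⟶ X), RepWith @IsOpenImmersion j.hom ∧ Set.range (Points.map j.hom) = W :=
  ⟨⟨Groth.AlgSpBasic.openSub X.obj W, Groth.AlgSpBasic.isAlgSpace_openSub X.property hW⟩,
    ⟨Groth.AlgSpBasic.openSubι X.obj W⟩, Groth.AlgSpBasic.repWith_openSubι hW,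
    Groth.AlgSpBasic.range_map_openSubι⟩

variable (hN : IsLocNoethSp X.obj) {G F : ModEt X.obj} [G.IsFinitePresentation] [F.IsFinitePresentation]
  (φ : G ⟶ F) (p : FieldPt X.obj) (hp : p.IsGeometric)

include hN hp in
/-- A morphism injective at a geometric point is injective on sections near it. -/
theorem exists_open_injective
    (h : Function.Injective ((stalkEtFunctor AddCommGrpCat.{u + 1} p).map ((toAbEt X.obj).map φ)).hom) :
    ∃ W : Set (Points X.obj), IsOpen W ∧ Points.mk p ∈ W ∧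
      ∀ E : EtOver X.obj, Set.range (Points.ofPt E.obj.hom) ⊆ W → Function.Injective (appM φ E) := by
  haveI : (kernel φ).IsQuasicoherent :=
    isQuasicoherent_of_hasBC (hasBC_kernel (hasBC_of_isQuasicoherent G) (hasBC_of_isQuasicoherent F) φ)
  have hz : ∀ (E : EtOver X.obj) [IsAffine E.obj.left.left] (u : E.obj.left.left),
      Points.ofPt E.obj.hom u = Points.mk p → ∀ s : sectModEt (kernel φ) E, u ∈ zeroLocus (kernel φ) s := by
    intro E _ u hu s
    obtain ⟨w, hw⟩ := exists_lift_to hp E u hu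
    have h1 := germ_eq_zero_of_comp (kernel.condition φ) p h ⟨E, w⟩ s
    have h2 := mem_zeroLocus_of_injective (kernel.ι φ) (fun V => appM_injective_of_mono (kernel.ι φ) V)
      ((germ_eq_zero_iff hp ⟨E, w⟩ _).1 h1)
    exact hw ▸ h2
  obtain ⟨W, hW, hx, hv⟩ := exists_open_vanishing (kernel φ)
    (fun E _ => finite_of_mono X.property hN (kernel.ι φ) E) (Points.mk p) hz
  refine ⟨W, hW, hx, fun E hE => (injective_iff_map_eq_zero (appM φ E)).2 fun y hy => ?_⟩
  obtain ⟨κ, rfl⟩ := exists_preimage_kernel φ hy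
  rw [hv E hE κ, map_zero]

include hp in
/-- A morphism surjective at a geometric point has vanishing cokernel near it. -/
theorem exists_open_cokernel
    (h : Function.Surjective ((stalkEtFunctor AddCommGrpCat.{u + 1} p).map ((toAbEt X.obj).map φ)).hom) :
    ∃ W : Set (Points X.obj), IsOpen W ∧ Points.mk p ∈ W ∧
      ∀ E : EtOver X.obj, Set.range (Points.ofPt E.obj.hom) ⊆ W → ∀ s : sectModEt F E, ∀ e : E.obj.left.left,
        ∃ (V : EtOver X.obj) (g : V ⟶ E) (t : sectModEt G V), e ∈ Set.range g.hom.left.left ∧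
          appM φ V t = resM F g s := by
  haveI : (cokernel φ).IsQuasicoherent :=
    isQuasicoherent_of_hasBC (hasBC_cokernel (hasBC_of_isQuasicoherent G) (hasBC_of_isQuasicoherent F) φ)
  have hz : ∀ (E : EtOver X.obj) [IsAffine E.obj.left.left] (u : E.obj.left.left),
      Points.ofPt E.obj.hom u = Points.mk p → ∀ s : sectModEt (cokernel φ) E, u ∈ zeroLocus (cokernel φ) s := by
    intro E _ u hu s
    obtain ⟨y, rfl⟩ := appM_surjective_of_epi (cokernel.π φ) E s
    obtain ⟨w, hw⟩ := exists_lift_to hp E u hu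
    obtain ⟨g, hg⟩ := h ((stalkEtι p ((toAbEt X.obj).obj F) ⟨E, w⟩).hom
      (show ↥(((toAbEt X.obj).obj F).obj.obj (op E)) from y))
    obtain ⟨n, t, rfl⟩ := exists_stalkEtι_eq X ((toAbEt X.obj).obj G) hp g
    have hg' := (stalkMap_germ φ p n t).symm.trans hg
    have h2 := congrArg ((stalkEtFunctor AddCommGrpCat.{u + 1} p).map ((toAbEt X.obj).map (cokernel.π φ))).hom hg'
    rw [← hw]
    refine (germ_eq_zero_iff hp ⟨E, w⟩ _).1 ?_
    refine (stalkMap_germ (cokernel.π φ) p ⟨E, w⟩ y).symm.trans (h2.symm.trans ?_)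
    exact stalkMap_germ_eq_zero (cokernel.condition φ) p n t
  obtain ⟨W, hW, hx, hv⟩ := exists_open_vanishing (cokernel φ)
    (fun E _ => finite_of_epi (cokernel.π φ) E) (Points.mk p) hz
  refine ⟨W, hW, hx, fun E hE s e => ?_⟩
  obtain ⟨κ, hκ⟩ := exists_preimage_kernel (cokernel.π φ) (y := s) (hv E hE _)
  have hi := imageSieve_mem_of_epi (Abelian.factorThruImage φ) κ
  obtain ⟨T, k, w, hT, hk⟩ := exists_affine_chart_of_ofPt E e
  obtain ⟨n, V, g, hV, hcov, hl⟩ := exists_affine_cover ((etTop X.obj).pullback_stable k hi)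
  obtain ⟨i, v, hvi⟩ := hcov w
  obtain ⟨t, ht⟩ := hl i
  refine ⟨V i, g i ≫ k, t, ⟨v, (congrArg k.hom.left.left hvi).trans hk⟩, ?_⟩
  rw [← hκ, ← appM_resM]
  refine Eq.trans ?_ (congrArg (appM (kernel.ι (cokernel.π φ)) (V i)) ht)
  exact (congrArg (fun m : G ⟶ F => appM m (V i) t) (Abelian.image.fac φ)).symm

omit [G.IsFinitePresentation] [F.IsFinitePresentation] in
include hp in
/-- Local preimages near a point give surjectivity of the stalk map there. -/
theorem surjective_stalk_of_local {W : Set (Points X.obj)} (hW : IsOpen W) (hx : Points.mk p ∈ W)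
    (h : ∀ E : EtOver X.obj, Set.range (Points.ofPt E.obj.hom) ⊆ W → ∀ s : sectModEt F E, ∀ e : E.obj.left.left,
      ∃ (V : EtOver X.obj) (g : V ⟶ E) (t : sectModEt G V), e ∈ Set.range g.hom.left.left ∧
        appM φ V t = resM F g s) :
    Function.Surjective ((stalkEtFunctor AddCommGrpCat.{u + 1} p).map ((toAbEt X.obj).map φ)).hom := by
  intro c
  obtain ⟨n, σ, rfl⟩ := exists_stalkEtι_eq X ((toAbEt X.obj).obj F) hp c
  have hu : Points.ofPt n.1.obj.hom (n.2.1.left (ctr p)) = Points.mk p := ofPt_lift n.2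
  let O : n.1.obj.left.left.Opens := ⟨Points.ofPt n.1.obj.hom ⁻¹' W, hW.preimage (Points.continuous_ofPt _)⟩
  let i : Over.mk (O.ι ≫ n.1.obj.left.hom) ⟶ n.1.obj.left := Over.homMk O.ι rfl
  let D : EtOver X.obj := EtOver.mk ((yon S).map i ≫ n.1.obj.hom)
    (Groth.AlgSpBasic.repWith_comp ((repWith_yon_map_iff _ i).2 (inferInstanceAs (Etale O.ι))) n.1.property)
  let j : D ⟶ n.1 := EtOver.homMk i rfl
  have hD : Set.range (Points.ofPt D.obj.hom) ⊆ W := by
    rintro _ ⟨v, rfl⟩
    rw [show Points.ofPt D.obj.hom v = Points.ofPt n.1.obj.hom (O.ι v) from Groth.AlgSpBasic.ofPt_comp_yon i _ v]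
    exact v.2
  have hO : n.2.1.left (ctr p) ∈ O := by
    show Points.ofPt n.1.obj.hom (n.2.1.left (ctr p)) ∈ W
    rw [hu]; exact hx
  obtain ⟨V, g, t, ⟨v, hv⟩, htv⟩ := h D hD (resM F j σ) ⟨n.2.1.left (ctr p), hO⟩
  let a : p.pt ⟶ n.1.obj.left := n.2.1
  haveI := EtOver.etale_left (g ≫ j)
  obtain ⟨l, hl, -⟩ := @Scheme.exists_fac_of_etale_of_isSepClosed _ _ (g ≫ j).hom.left.left _ p.K _
    (haveI : IsAlgClosed p.K := hp; inferInstance) a.left v
    ((Scheme.Hom.comp_apply _ _ v).trans (congrArg O.ι hv))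
  let l' : p.pt ⟶ V.obj.left := Over.homMk l (by
    show l ≫ V.obj.left.hom = p.str
    rw [← Over.w (g ≫ j).hom.left, ← Category.assoc, hl]
    exact Over.w a)
  have hl' : l' ≫ (g ≫ j).hom.left = a := Over.OverMorphism.ext hl
  let w : (FieldPt.liftsTo p).obj V := ⟨l', by
    rw [← EtOver.w (g ≫ j), ← Category.assoc, ← Functor.map_comp, hl']
    exact n.2.2⟩
  let f : (FieldPt.liftsTo p).elementsMk V w ⟶ n := ⟨g ≫ j, Subtype.ext hl'⟩
  refine ⟨(stalkEtι p ((toAbEt X.obj).obj G) ⟨V, w⟩).hom t, (stalkMap_germ φ p ⟨V, w⟩ t).trans ?_⟩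
  have hn := congrArg (fun m => m.hom σ) (colimit.w (stalkEtDiagram p ((toAbEt X.obj).obj F)) f.op)
  refine Eq.trans (congrArg _ ?_) hn
  show appM φ V t = resM F (g ≫ j) σ
  rw [resM_comp]
  exact htv

omit [G.IsFinitePresentation] [F.IsFinitePresentation] in
/-- Injectivity and local preimages give bijectivity on sections. -/
theorem bijective_of_local {W : Set (Points X.obj)}
    (hi : ∀ E : EtOver X.obj, Set.range (Points.ofPt E.obj.hom) ⊆ W → Function.Injective (appM φ E))
    (hl : ∀ E : EtOver X.obj, Set.range (Points.ofPt E.obj.hom) ⊆ W → ∀ s : sectModEt F E, ∀ e : E.obj.left.left,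
      ∃ (V : EtOver X.obj) (g : V ⟶ E) (t : sectModEt G V), e ∈ Set.range g.hom.left.left ∧
        appM φ V t = resM F g s)
    (E : EtOver X.obj) (hE : Set.range (Points.ofPt E.obj.hom) ⊆ W) : Function.Bijective (appM φ E) := by
  refine ⟨hi E hE, fun s => ?_⟩
  choose V g t hg ht using hl E hE s
  have hcov : JointlySurj g := fun e => ⟨e, hg e⟩
  obtain ⟨y, hy⟩ := exists_resM_eq G hcov t fun a b => by
    refine hi (EtOver.pullbackObj (g a) (g b)) ?_ ?_
    · rintro _ ⟨z, rfl⟩
      rw [← EtOver.w (EtOver.pullbackFst (g a) (g b) ≫ g a), Groth.AlgSpBasic.ofPt_comp_yon]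
      exact hE ⟨_, rfl⟩
    · rw [appM_resM, appM_resM, ht, ht, ← resM_comp, ← resM_comp, EtOver.pullback_condition]
  exact ⟨y, resM_ext F hcov fun e => by rw [← appM_resM, hy, ht]⟩

end Groth.ModEtQCoh.StalkOpen
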